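import Mathlib.AlgebraicGeometry.Limits
import Mathlib.AlgebraicGeometry.Morphisms.Immersion
import Mathlib.AlgebraicGeometry.Morphisms.ClosedImmersion
import Mathlib.AlgebraicGeometry.Morphisms.Separated

/-!
# Coproducts of separated morphisms
-/

set_option autoImplicit false
set_option backward.isDefEq.respectTransparency false
set_option backward.isDefEq.respectTransparency.types false

universe u

open CategoryTheory CategoryTheory.Limits AlgebraicGeometry

namespace Groth.Agent.Lib.HensChart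

theorem isSeparated_sigmaDesc {J : Type u} {Y : Scheme.{u}} {Z : J → Scheme.{u}} (f : ∀ j, Z j ⟶ Y)
    [∀ j, IsSeparated (f j)] : IsSeparated (Sigma.desc f) := by
  let ι : ∀ j, Z j ⟶ ∐ Z := Sigma.ι Z
  let Δ := pullback.diagonal (Sigma.desc f)
  suffices h : IsClosed (Set.range Δ) from ⟨IsClosedImmersion.of_isPreimmersion Δ h⟩
  have hdisj : ∀ i j a b, ι i a = ι j b → i = j := fun i j a b h => by
    simp only [ι, ← sigmaMk_mk] at h
    exact congrArg Sigma.fst ((sigmaMk Z).injective h)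
  have hcov : ∀ x : ↥(∐ Z), ∃ i a, ι i a = x := fun x => by
    obtain ⟨i, a, rfl⟩ := (sigmaOpenCover Z).exists_eq x
    exact ⟨i, a, rfl⟩
  let m : ∀ i j, pullback (f i) (f j) ⟶ pullback (Sigma.desc f) (Sigma.desc f) := fun i j =>
    pullback.map _ _ _ _ (ι i) (ι j) (𝟙 Y) (by simp [ι]) (by simp [ι])
  have hm : ∀ i j, IsOpenImmersion (m i j) := fun i j => inferInstance
  rw [← isOpen_compl_iff, isOpen_iff_forall_mem_open]
  intro z hz
  obtain ⟨i, a, ha⟩ := hcov (pullback.fst (Sigma.desc f) (Sigma.desc f) z)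
  obtain ⟨j, b, hb⟩ := hcov (pullback.snd (Sigma.desc f) (Sigma.desc f) z)
  have hz' : ∃ w, m i j w = z := by
    obtain ⟨w, hw⟩ : z ∈ Set.range (m i j) := by
      rw [Scheme.Pullback.range_map]
      exact ⟨⟨a, ha⟩, ⟨b, hb⟩⟩
    exact ⟨w, hw⟩
  obtain ⟨w, rfl⟩ := hz'
  have := hm i j
  have hfst : ∀ c, pullback.fst (Sigma.desc f) (Sigma.desc f) (m i j c) = ι i (pullback.fst (f i) (f j) c) := fun c => by
    rw [← Scheme.Hom.comp_apply, ← Scheme.Hom.comp_apply]
    simp only [m, pullback.lift_fst]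
  have hsnd : ∀ c, pullback.snd (Sigma.desc f) (Sigma.desc f) (m i j c) = ι j (pullback.snd (f i) (f j) c) := fun c => by
    rw [← Scheme.Hom.comp_apply, ← Scheme.Hom.comp_apply]
    simp only [m, pullback.lift_snd]
  have hΔ₁ : ∀ x, pullback.fst (Sigma.desc f) (Sigma.desc f) (Δ x) = x := fun x => by
    rw [← Scheme.Hom.comp_apply]; simp [Δ]
  have hΔ₂ : ∀ x, pullback.snd (Sigma.desc f) (Sigma.desc f) (Δ x) = x := fun x => by
    rw [← Scheme.Hom.comp_apply]; simp [Δ]
  by_cases hij : i = j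
  · subst hij
    have hmΔ : ∀ c, m i i (pullback.diagonal (f i) c) = Δ (ι i c) := fun c => by
      rw [← Scheme.Hom.comp_apply, ← Scheme.Hom.comp_apply,
        show pullback.diagonal (f i) ≫ m i i = ι i ≫ Δ from pullback.hom_ext (by simp [m, Δ]) (by simp [m, Δ])]
    refine ⟨m i i '' (Set.range (pullback.diagonal (f i)))ᶜ, ?_,
      (m i i).isOpenEmbedding.isOpenMap _ (pullback.diagonal (f i)).isClosedEmbedding.isClosed_range.isOpen_compl,
      ⟨w, fun ⟨c, hc⟩ => hz ⟨ι i c, ?_⟩, rfl⟩⟩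
    · rintro _ ⟨c, hc, rfl⟩ ⟨x, hx⟩
      refine hc ⟨pullback.fst (f i) (f i) c, (m i i).isOpenEmbedding.injective ?_⟩
      rw [hmΔ, ← hfst, ← hx, hΔ₁]
    · rw [← hmΔ, hc]
  · refine ⟨Set.range (m i j), ?_, (m i j).isOpenEmbedding.isOpen_range, ⟨w, rfl⟩⟩
    rintro _ ⟨c, rfl⟩ ⟨x, hx⟩
    refine hij (hdisj i j _ _ ((hfst c).symm.trans (Eq.trans ?_ (hsnd c))))
    rw [← hx, hΔ₁, hΔ₂]

end Groth.Agent.Lib.HensChart
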