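import Groth.Agent.Lib.HensChart.StackChart
import Mathlib.FieldTheory.PrimitiveElement
import Mathlib.RingTheory.RingHom.Smooth

/-!
# Field points of stacks lift to smooth affine charts

The statements need no hypothesis on the separation of the diagonal.
-/

set_option autoImplicit false
set_option backward.isDefEq.respectTransparency false
set_option backward.isDefEq.respectTransparency.types false
set_option linter.style.haveILetI false

universe u

open CategoryTheory CategoryTheory.Limits AlgebraicGeometry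

namespace Groth.Agent.Lib.HensChart.FieldPoint

open Lib.AlgStack Lib.AlgStack.BasedBasic GaloisPoint GaloisTuple StackChart
open Lib.Fibred.Descent (exists_factor ext_lift)
open TorsorDescent (Fine)
open FreeAct (sub subι)
open FibCat (overCat)
open AlgSt (overMap RepByAlgSpWith HasAtlas RepByAlgSp1)

variable {S : Scheme.{u}} {V : Over S} [IsAffine V.left]

variable (V) in
/-- The affine line over an affine scheme. -/
noncomputable def line : Over S :=
  Over.mk (Spec.map (CommRingCat.ofHom (Polynomial.C : Γ(V.left, ⊤) →+* Polynomial Γ(V.left, ⊤))) ≫ V.left.isoSpec.inv ≫ V.hom)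

instance isAffine_line : IsAffine (line V).left :=
  inferInstanceAs (IsAffine (Spec (CommRingCat.of (Polynomial Γ(V.left, ⊤)))))

variable (V) in
/-- Its projection. -/
noncomputable def linePr : line V ⟶ V :=
  Over.homMk (Spec.map (CommRingCat.ofHom (Polynomial.C : Γ(V.left, ⊤) →+* Polynomial Γ(V.left, ⊤))) ≫ V.left.isoSpec.inv)
    (Category.assoc _ _ _)

theorem smooth_linePr : Smooth (linePr V).left := by
  have h : RingHom.Smooth (algebraMap Γ(V.left, ⊤) (Polynomial Γ(V.left, ⊤))) :=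
    RingHom.smooth_algebraMap.2 { finitePresentation := inferInstance, formallySmooth := inferInstance }
  haveI : Smooth (Spec.map (CommRingCat.ofHom (Polynomial.C : Γ(V.left, ⊤) →+* Polynomial Γ(V.left, ⊤)))) :=
    HasRingHomProperty.Spec_iff.2 h
  exact inferInstanceAs (Smooth (_ ≫ _))

variable {k : Type u} [Field k] {str : Spec (CommRingCat.of k) ⟶ S}

/-- A point of the chart with a chosen coordinate has distinct conjugates. -/
theorem exists_line_lift (N : IntermediateField k (SeparableClosure k)) [FiniteDimensional k N] [IsGalois k N]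
    (a : nObj N str ⟶ V) :
    ∃ a' : nObj N str ⟶ line V, a' ≫ linePr V = a ∧
      ∀ g h : N ≃ₐ[k] N, gal N str g ≫ a' = gal N str h ≫ a' → g = h := by
  let φ : Γ(V.left, ⊤) ⟶ CommRingCat.of N := Spec.preimage (a.left ≫ V.left.isoSpec.hom)
  have hφ : Spec.map φ = a.left ≫ V.left.isoSpec.hom := Spec.map_preimage _
  obtain ⟨α, hα⟩ := Field.exists_primitive_element k N
  let ev : Polynomial Γ(V.left, ⊤) →+* N := Polynomial.eval₂RingHom φ.hom α
  let a₁ : Spec (CommRingCat.of N) ⟶ (line V).left := Spec.map (CommRingCat.ofHom ev)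
  have h1 : a₁ ≫ (linePr V).left = a.left := by
    show Spec.map _ ≫ Spec.map _ ≫ V.left.isoSpec.inv = a.left
    rw [← Category.assoc, ← Spec.map_comp, show CommRingCat.ofHom (Polynomial.C : Γ(V.left, ⊤) →+* Polynomial Γ(V.left, ⊤)) ≫
      CommRingCat.ofHom ev = φ from CommRingCat.hom_ext (RingHom.ext fun r => Polynomial.eval₂_C _ _), hφ,
      Category.assoc, Iso.hom_inv_id, Category.comp_id]
  let a' : nObj N str ⟶ line V := Over.homMk a₁ (by rw [← Over.w (linePr V), ← Category.assoc, h1]; exact Over.w a)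
  refine ⟨a', Over.OverMorphism.ext h1, fun g h e => inv_injective ?_⟩
  have e' : GalTw.specMap N g⁻¹ ≫ a₁ = GalTw.specMap N h⁻¹ ≫ a₁ := congrArg (fun m => m.left) e
  change Spec.map _ ≫ Spec.map _ = Spec.map _ ≫ Spec.map _ at e'
  rw [← Spec.map_comp, ← Spec.map_comp] at e'
  have e'' := RingHom.congr_fun (congrArg CommRingCat.Hom.hom (Spec.map_injective e')) Polynomial.X
  change g⁻¹ (Polynomial.eval₂ φ.hom α Polynomial.X) = h⁻¹ (Polynomial.eval₂ φ.hom α Polynomial.X) at e''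
  rw [Polynomial.eval₂_X] at e''
  have key : (g⁻¹ : N ≃ₐ[k] N).toAlgHom.comp (IntermediateField.topEquiv (F := k) (E := N)).toAlgHom =
      (h⁻¹ : N ≃ₐ[k] N).toAlgHom.comp (IntermediateField.topEquiv (F := k) (E := N)).toAlgHom :=
    IntermediateField.algHom_ext_of_eq_adjoin k hα.symm fun z hz => by
      obtain rfl : z = α := hz
      exact e''
  exact AlgEquiv.ext fun z => AlgHom.congr_fun key ⟨z, trivial⟩

variable {J : GrothendieckTopology (Over S)} {𝒳 : AlgSt.Cat S}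

/-- Field points lift to smooth affine charts. -/
theorem exists_chart_field (h𝒳 : Stk.IsStack J 𝒳) (hJ : Fine J) (hEt : HasEtaleCovers J)
    (hΔ : RepByAlgSp1 (FibCat.diag (FibCat.toSelf 𝒳))) (hat : HasAtlas (AlgSp.LocP @Smooth) 𝒳)
    (x : overCat (Over.mk str) ⥤ᵇ 𝒳) :
    ∃ (Z : Over S) (_ : IsAffine Z.left) (p : overCat Z ⥤ᵇ 𝒳) (m : Over.mk str ⟶ Z),
      RepByAlgSpWith (AlgSp.LocP @Smooth) p ∧ Nonempty (BasedFunctor.comp (overMap m) p ≅ x) := by
  obtain ⟨U₀, u₀, hs, hsurj⟩ := hat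
  obtain ⟨V, N, hfd, hgal, a, ⟨ψ⟩⟩ := exists_galois_point h𝒳.1 hs hsurj x
  haveI : IsAffine (sub V.1).left := V.2
  obtain ⟨a', ha', hinj⟩ := exists_line_lift N a
  have hsm := SourceDescent.Scheme.smooth.{u}
  haveI : Smooth (subι V.1).left := inferInstanceAs (Smooth V.1.ι)
  have hu : RepByAlgSpWith (AlgSp.LocP @Smooth)
      (BasedFunctor.comp (overMap (linePr (sub V.1))) (BasedFunctor.comp (overMap (subι V.1)) u₀)) :=
    IsAlgFp.comp_locP hsm (Yoneda.isFibGrpd_overCat _) (Yoneda.isFibGrpd_overCat _)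
      (repByAlgSpWith_overMap hsm _ smooth_linePr)
      (IsAlgFp.comp_locP hsm (Yoneda.isFibGrpd_overCat _) (Yoneda.isFibGrpd_overCat _)
        (repByAlgSpWith_overMap hsm (subι V.1) ‹_›) hs)
  refine exists_chart_galois h𝒳 hJ hEt hΔ hu x N a' ?_ hinj
  exact ψ ≪≫ BasedBasic.isoWhiskerRight (eqToIso (congrArg overMap ha'.symm) ≪≫
    (ChartLift.overMapComp a' (linePr (sub V.1))).symm) _

/-- Isomorphism classes of field points form a small set. -/
theorem exists_small_index (h𝒳 : Stk.IsStack J 𝒳) (hJ : Fine J) (hEt : HasEtaleCovers J)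
    (hat : HasAtlas (AlgSp.LocP @Smooth) 𝒳) (str : Spec (CommRingCat.of k) ⟶ S) :
    ∃ (I : Type u) (c : (overCat (Over.mk str) ⥤ᵇ 𝒳) → I), ∀ x x', c x = c x' → Nonempty (x ≅ x') := by
  obtain ⟨U₀, u₀, hs, hsurj⟩ := hat
  have hg := h𝒳.1
  let ucV : ∀ V : U₀.left.affineOpens, overCat (sub V.1) ⥤ᵇ 𝒳 := fun V => BasedFunctor.comp (overMap (subι V.1)) u₀
  let I : Type u := Σ (V : U₀.left.affineOpens) (N : IntermediateField k (SeparableClosure k))
    (a : nObj N str ⟶ sub V.1), (N ≃ₐ[k] N) →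
      ((ucV V).obj ((overMap a).obj (Over.mk (𝟙 _))) ⟶ (ucV V).obj ((overMap a).obj (Over.mk (𝟙 _))))
  let Rep : (overCat (Over.mk str) ⥤ᵇ 𝒳) → I → Prop := fun x i =>
    ∃ (_ : FiniteDimensional k i.2.1) (_ : IsGalois k i.2.1)
      (ψ : BasedFunctor.comp (overMap (ν i.2.1 str)) x ≅ BasedFunctor.comp (overMap i.2.2.1) (ucV i.1)),
      ∀ g, i.2.2.2 g = (appIso ψ (Over.mk (𝟙 _))).inv ≫ x.map (galX i.2.1 g) ≫ (appIso ψ (Over.mk (𝟙 _))).hom
  have hex : ∀ x, ∃ i, Rep x i := fun x => by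
    obtain ⟨V, N, hfd, hgal, a, ⟨ψ⟩⟩ := exists_galois_point hg hs hsurj x
    exact ⟨⟨V, N, a, fun g => (appIso ψ (Over.mk (𝟙 _))).inv ≫ x.map (galX N g) ≫ (appIso ψ (Over.mk (𝟙 _))).hom⟩,
      hfd, hgal, ψ, fun g => rfl⟩
  choose c hc using hex
  refine ⟨I, c, fun x x' e => ?_⟩
  suffices key : ∀ i, Rep x i → Rep x' i → Nonempty (x ≅ x') from key (c x') (e ▸ hc x) (hc x')
  rintro ⟨V, N, a, cy⟩ ⟨hfd, hgal, ψ, hψ⟩ ⟨-, -, ψ', hψ'⟩
  haveI := hfd
  haveI := hgal
  let T := nObj N str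
  let δ : x.obj (xf N str) ⟶ x'.obj (xf N str) :=
    (appIso ψ (Over.mk (𝟙 T))).hom ≫ (appIso ψ' (Over.mk (𝟙 T))).inv
  have hδ : 𝒳.p.IsHomLift (𝟙 T) δ := by
    haveI : 𝒳.p.IsHomLift (𝟙 T) (appIso ψ (Over.mk (𝟙 T))).hom := appIso_isHomLift ψ (Over.mk (𝟙 T))
    haveI : 𝒳.p.IsHomLift (𝟙 T) (appIso ψ' (Over.mk (𝟙 T))).hom := appIso_isHomLift ψ' (Over.mk (𝟙 T))
    haveI : 𝒳.p.IsHomLift (𝟙 T) (appIso ψ' (Over.mk (𝟙 T))).inv := IsHomLift.lift_id_inv 𝒳.p T _
    infer_instance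
  have hδg : ∀ g, x.map (galX N g) ≫ δ = δ ≫ x'.map (galX N g) := fun g => by
    have h := (hψ g).symm.trans (hψ' g)
    rw [Iso.inv_comp_eq] at h
    have h' := congrArg (· ≫ (appIso ψ' (Over.mk (𝟙 T))).inv) h
    simp only [Category.assoc] at h'
    refine Eq.trans ?_ (h'.trans ?_)
    · simp only [δ, T]
    · simp only [δ, T, Category.assoc]
      erw [Iso.hom_inv_id, Category.comp_id]
  let fx : ∀ f : Over T, Over.mk (f.hom ≫ ν N str) ⟶ xf N str := fun f =>
    Over.homMk f.hom (by show f.hom ≫ 𝟙 _ ≫ ν N str = _; rw [Category.id_comp]; rfl)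
  have hl : ∀ f : Over T, 𝒳.p.IsHomLift f.hom (x.map (fx f) ≫ δ) := fun f => by
    haveI : 𝒳.p.IsHomLift f.hom (x.map (fx f)) := GaloisTuple.map_isHomLift x (fx f)
    exact IsHomLift.comp_lift_id_right' 𝒳.p f.hom _ T δ
  choose D hD hDe using fun f : Over T =>
    exists_factor hg (x'.map (fx f)) (GaloisTuple.map_isHomLift x' (fx f)) (x.map (fx f) ≫ δ) (hl f)
  refine TorsorDescent.nonempty_iso_of_pullback h𝒳 hJ (galTorsor N) (hEt (ν N str) (ν_etale N) (ν_surjective N))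
    x x' D hD fun {f' f} g m h φ hφ => ?_
  haveI : 𝒳.p.IsHomLift m (x.map φ) := hφ ▸ GaloisTuple.map_isHomLift x φ
  haveI : 𝒳.p.IsHomLift m (x'.map φ) := hφ ▸ GaloisTuple.map_isHomLift x' φ
  haveI : 𝒳.p.IsHomLift (𝟙 f.left) (D f) := hD f
  haveI : 𝒳.p.IsHomLift (𝟙 f'.left) (D f') := hD f'
  refine ext_lift hg (x'.map (fx f)) (GaloisTuple.map_isHomLift x' (fx f)) (g := m)
    (IsHomLift.comp_lift_id_right' 𝒳.p m _ f.left (D f)) (IsHomLift.comp_lift_id_left' 𝒳.p f'.left (D f') m _) ?_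
  have hfx : φ ≫ fx f = fx f' ≫ galX N g := Over.OverMorphism.ext (by
    show φ.left ≫ f.hom = f'.hom ≫ gal N str g
    rw [hφ]; exact h.symm)
  refine (Category.assoc _ _ _).trans ((congrArg (_ ≫ ·) (hDe f)).trans (Eq.trans ?_ (Category.assoc _ _ _).symm))
  refine Eq.trans ?_ ((congrArg (D f' ≫ ·) ((congrArg x'.map hfx).symm.trans (x'.toFunctor.map_comp φ (fx f)))))
  rw [← Category.assoc (x.map φ), ← x.toFunctor.map_comp, hfx, x.toFunctor.map_comp, x'.toFunctor.map_comp,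
    Category.assoc, hδg, ← Category.assoc (x.map (fx f')), ← hDe f', Category.assoc]

end Groth.Agent.Lib.HensChart.FieldPoint
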