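import Groth.Agent.Lib.HensChart.StackChart
import Groth.Agent.Lib.AlgStack.EtaleBoot
import Mathlib.AlgebraicGeometry.Sites.Etale

/-!
# The etale and fppf topologies contain the open covers and the etale covers
-/

set_option autoImplicit false

universe u

open CategoryTheory CategoryTheory.Limits AlgebraicGeometry

namespace Groth.Agent.Lib.HensChart.Topologies

open TorsorDescent (Fine)
open StackChart (HasEtaleCovers)
open FreeAct (sub subι)

variable {S : Scheme.{u}}

/-- A jointly surjective family of etale morphisms covers in the big etale site. -/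
theorem ofArrows_mem_etale {T : Over S} {ι : Type*} (Z : ι → Over S) (g : ∀ i, Z i ⟶ T)
    (he : ∀ i, Etale (g i).left) (hsurj : ∀ x : ↥T.left, ∃ i y, (g i).left y = x) :
    Sieve.ofArrows Z g ∈ QuotSh.J Scheme.etalePrecoverage S T := by
  rw [GrothendieckTopology.mem_over_iff, Sieve.overEquiv_ofArrows]
  refine Precoverage.generate_mem_toGrothendieck ?_
  rw [Scheme.etalePrecoverage, Scheme.ofArrows_mem_precoverage_iff]
  exact ⟨fun x ↦ ⟨_, _, (hsurj x).choose_spec.choose_spec⟩, he⟩

theorem fine_etale : Fine (QuotSh.J Scheme.etalePrecoverage S) := by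
  intro T R hR
  choose V hxV hV using hR
  refine (QuotSh.J Scheme.etalePrecoverage S).superset_covering ?_
    (ofArrows_mem_etale (fun x : T.left => sub (V x)) (fun x => subι (V x))
      (fun x => inferInstanceAs (Etale (V x).ι)) fun x => ⟨x, ⟨x, hxV x⟩, rfl⟩)
  rw [Sieve.generate_le_iff]
  rintro _ _ ⟨x⟩
  exact hV x

theorem hasEtaleCovers_etale : HasEtaleCovers (QuotSh.J Scheme.etalePrecoverage S) := fun A B q he hs =>
  ofArrows_mem_etale (fun _ : PUnit.{u + 1} => A) (fun _ => q) (fun _ => he) fun x => ⟨⟨⟩, hs.surj x⟩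

theorem fine_fppf : Fine (AlgSp.J S) := fun _ R hR => AlgStack.EtaleBoot.etale_le_fppf _ (fine_etale R hR)

theorem hasEtaleCovers_fppf : HasEtaleCovers (AlgSp.J S) := fun _ _ q he hs =>
  AlgStack.EtaleBoot.etale_le_fppf _ (hasEtaleCovers_etale q he hs)

end Groth.Agent.Lib.HensChart.Topologies
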