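import Groth.Agent.Lib.HensChart.StackPoint
import Groth.Agent.Lib.HensChart.FieldPoint
import Groth.Agent.Lib.HensChart.Topologies

/-!
# Henselian points of stacks lift to smooth affine charts
-/

set_option autoImplicit false
set_option backward.isDefEq.respectTransparency false
set_option backward.isDefEq.respectTransparency.types false

universe u

open CategoryTheory CategoryTheory.Limits AlgebraicGeometry

namespace Groth.Agent.Lib.HensChart.ChartPoint

open Lib.AlgStack Lib.AlgStack.BasedBasic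
open FibCat (overCat)
open AlgSt (ofSp ofSpMap ofOverCat toOverCat overMap RepByAlgSpWith)
open AlgSp (Sp yon)

variable {S : Scheme.{u}}

/-- The functor of a morphism of schemes through categories of points. -/
noncomputable def ofSpMapYonIso {A B : Over S} (m : A ⟶ B) :
    BasedFunctor.comp (ofOverCat A) (BasedFunctor.comp (ofSpMap ((yon S).map m)) (toOverCat B)) ≅ overMap m :=
  eqToIso rfl

/-- The restriction to the residue field. -/
noncomputable abbrev res (R : Type u) [CommRing R] [IsLocalRing R] (str : Spec (CommRingCat.of R) ⟶ S) :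
    Over.mk ((Spec.map (CommRingCat.ofHom (IsLocalRing.residue R))) ≫ str) ⟶ Over.mk str :=
  Over.homMk (Spec.map (CommRingCat.ofHom (IsLocalRing.residue R))) rfl

/-- Henselian points lift to a smooth chart through a lift of the residue point. -/
theorem exists_chart_lift {𝒵 : AlgSt.Cat S} {Z : Over S} {p : overCat Z ⥤ᵇ 𝒵}
    (hp : RepByAlgSpWith (AlgSp.LocP @Smooth) p)
    (R : Type u) [CommRing R] [HenselianLocalRing R] (str : Spec (CommRingCat.of R) ⟶ S)
    (z : overCat (Over.mk str) ⥤ᵇ 𝒵)
    (m : Over.mk ((Spec.map (CommRingCat.ofHom (IsLocalRing.residue R))) ≫ str) ⟶ Z)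
    (w : Nonempty (BasedFunctor.comp (overMap m) p ≅ BasedFunctor.comp (overMap (res R str)) z)) :
    ∃ g : Over.mk str ⟶ Z, res R str ≫ g = m ∧ Nonempty (BasedFunctor.comp (overMap g) p ≅ z) := by
  obtain ⟨w⟩ := w
  haveI : (BasedFunctor.id 𝒵).toFunctor.Full := inferInstanceAs (𝟭 _).Full
  have hf : RepByAlgSpWith (AlgSp.LocP @Smooth) (BasedFunctor.comp (toOverCat Z) p) :=
    (Rep.repByAlgSpWith_iff_of_isEquivOver (f := p) (f' := BasedFunctor.comp (toOverCat Z) p)
      (Rep.isEquivOver_toOverCat Z) (BasedBasic.isEquivOver_id (𝒳 := 𝒵)) (Iso.refl _)).1 hp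
  obtain ⟨z', h₁, ⟨h₂⟩⟩ := exists_space_lift (Z := (AlgSp.ofScheme S).obj Z) (BasedFunctor.comp (toOverCat Z) p) hf
    R str z ((yon S).map m) (BasedBasic.isoWhiskerRight (ofSpMapYonIso m) p ≪≫ w)
  obtain ⟨g, rfl⟩ := (yon S).map_surjective z'
  exact ⟨g, (yon S).map_injective (((yon S).map_comp _ _).trans h₁),
    ⟨(BasedBasic.isoWhiskerRight (ofSpMapYonIso g) p).symm ≪≫ h₂⟩⟩

end Groth.Agent.Lib.HensChart.ChartPoint
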