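import Groth.Agent.Lib.HensChart.ChartPoint

/-!
# A functor from a scheme which is smooth on an open covering is smooth
-/

set_option autoImplicit false
set_option backward.isDefEq.respectTransparency false
set_option backward.isDefEq.respectTransparency.types false
set_option linter.style.haveILetI false

universe u

open CategoryTheory CategoryTheory.Limits AlgebraicGeometry

namespace Groth.Agent.Lib.HensChart.ChartSum

open Lib.AlgStack Lib.AlgStack.BasedBasic
open FibCat (overCat fp fpFst fpSnd fpLift fpIso IsEquivOver IsFibGrpd)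
open AlgSt (ofSp ofSpMap ofOverCat toOverCat overMap spMapOfOver RepByAlgSp1 RepByAlgSpWith)
open AlgSp (Sp yon IsAlgSpace LocP RepWith)
open FreeAct (sub subι)
open Lib.AlgSpace (exists_isPullback_yon repWith_property repWith_comp repWith_baseChange)

variable {S : Scheme.{u}}

/-- Smoothness of a functor from a scheme can be checked on an open covering. -/
theorem repByAlgSpWith_of_open_cover {𝒳 : AlgSt.Cat S} {M : Over S} {p : overCat M ⥤ᵇ 𝒳}
    (h1 : RepByAlgSp1 p) {I : Type u} (Z : I → Over S) (ι : ∀ i, Z i ⟶ M)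
    (hι : ∀ i, IsOpenImmersion (ι i).left) (hcov : ∀ x : ↥M.left, ∃ i z, (ι i).left z = x)
    (hsm : ∀ i, RepByAlgSpWith (LocP @Smooth) (BasedFunctor.comp (overMap (ι i)) p)) :
    RepByAlgSpWith (LocP @Smooth) p := by
  intro U y
  obtain ⟨A, e, he⟩ := h1 U y
  refine ⟨A, e, he, ?_⟩
  have hS := SourceDescent.Scheme.smooth.{u}
  have hE := SourceDescent.Scheme.etale.{u}
  let γ : A.obj ⟶ (yon S).obj U := spMapOfOver (BasedFunctor.comp e (fpFst y p))
  let g := BasedFunctor.comp e (fpSnd y p)
  let φ : A.obj ⟶ (yon S).obj M := spMapOfOver g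
  obtain ⟨W, π, hπ, hπs⟩ := A.property.atlas
  obtain ⟨m, hm⟩ := (yon S).map_surjective (π ≫ γ)
  obtain ⟨φW, hφW⟩ := (yon S).map_surjective (π ≫ φ)
  have key : ∀ w : ↥W.left, ∃ (T : Over S) (k : T ⟶ W) (t : ↥T.left), k.left t = w ∧ Etale k.left ∧
      Smooth (k.left ≫ m.left) := by
    intro w
    obtain ⟨i, z, hz⟩ := hcov (φW.left w)
    haveI := hι i
    let O : W.left.Opens := φW.left ⁻¹ᵁ (ι i).left.opensRange
    have hw : w ∈ O := ⟨z, hz⟩
    have hrange : Set.range ((subι O).left ≫ φW.left) ⊆ Set.range (ι i).left := by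
      rintro _ ⟨⟨v, hv⟩, rfl⟩
      exact hv
    let l : sub O ⟶ Z i := Over.homMk (IsOpenImmersion.lift (ι i).left ((subι O).left ≫ φW.left) hrange) (by
      rw [← Over.w (ι i), IsOpenImmersion.lift_fac_assoc, Category.assoc, Over.w φW, Over.w (subι O)])
    have hl : l ≫ ι i = subι O ≫ φW := Over.OverMorphism.ext (IsOpenImmersion.lift_fac _ _ _)
    -- the fibre over the piece
    have hfi : RepByAlgSpWith (LocP @Etale) (overMap (ι i)) :=
      GaloisPoint.repByAlgSpWith_overMap hE (ι i) (inferInstanceAs (Etale (ι i).left))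
    obtain ⟨G, b, t, ht, ⟨β⟩, hprop⟩ := Space.exists_rep_toSpace (Yoneda.isFibGrpd_overCat _)
      (Yoneda.isFibGrpd_overCat _) (Rep.repByAlgSp1_of_repByAlgSpWith hfi) g
    -- the composite with the projection is smooth
    have hb : LocP @Smooth (b ≫ γ) := by
      have : (BasedFunctor.id (overCat M)).toFunctor.Full := inferInstanceAs (𝟭 _).Full
      have : (BasedFunctor.id (overCat M)).toFunctor.Faithful := inferInstanceAs (𝟭 _).Faithful
      have h2 := FibProd.isEquivOver_fpMap e (BasedFunctor.id (overCat (Z i))) (BasedFunctor.id (overCat M))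
        (F := fpSnd y p) (G := overMap (ι i)) (F' := g) (G' := overMap (ι i))
        (Iso.refl _) (Iso.refl _) he BasedBasic.isEquivOver_id
      have h3 := Space.prop_of_rep (IsAlgFp.respectsIsoSp_locP hS) (hsm i) G.property
        (BasedBasic.IsEquivOver.comp ht
          (BasedBasic.IsEquivOver.comp h2 (Rep.isEquivOver_pasteComp y p (overMap (ι i)))))
      change LocP @Smooth (spMapOfOver (BasedFunctor.comp (BasedFunctor.comp t (fpFst _ (overMap (ι i))))
        (BasedFunctor.comp e (fpFst y p)))) at h3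
      rwa [Rep.spMapOfOver_eq_of_iso (BasedBasic.isoWhiskerRight β (BasedFunctor.comp e (fpFst y p))),
        Rep.spMapOfOver_precomp] at h3
    -- the piece lifts to the fibre
    let ξ : (yon S).obj (sub O) ⟶ A.obj := (yon S).map (subι O) ≫ π
    have hξ : ξ ≫ φ = (yon S).map (l ≫ ι i) := by
      rw [Category.assoc, ← hφW, ← Functor.map_comp, hl]
    let L₀ := BasedFunctor.comp (ofOverCat (sub O)) (ofSpMap ξ)
    let i₁ : BasedFunctor.comp L₀ g ≅ BasedFunctor.comp (ofOverCat (sub O))
        (BasedFunctor.comp (ofSpMap (ξ ≫ φ)) (toOverCat M)) :=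
      BasedBasic.isoWhiskerLeft L₀ (Rep.isoSpMapOfOver g)
    let i₂ : BasedFunctor.comp L₀ g ≅ BasedFunctor.comp (overMap l) (overMap (ι i)) :=
      i₁ ≪≫ eqToIso (by rw [hξ]) ≪≫ ChartPoint.ofSpMapYonIso (l ≫ ι i) ≪≫ (ChartLift.overMapComp l (ι i)).symm
    let L := fpLift (F := g) (G := overMap (ι i)) L₀ (overMap l) i₂
    obtain ⟨t', -, -, ⟨η⟩⟩ := BasedBasic.IsEquivOver.exists_inverse ht
    let c : (yon S).obj (sub O) ⟶ G.obj := SpMapProp.ofPoint (BasedFunctor.comp L t')
    have hc : c ≫ b = ξ := by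
      rw [← SpMapProp.ofPoint_comp, SpMapProp.ofPoint_eq_of_iso
        (BasedBasic.isoWhiskerLeft (BasedFunctor.comp L t') β.symm ≪≫
          BasedBasic.isoWhiskerLeft L (BasedBasic.isoWhiskerRight η (fpFst g (overMap (ι i)))) :
          _ ≅ L₀)]
      exact SpMapProp.ofPoint_atlas ξ
    -- the pullback along the piece
    have sq := IsPullback.of_hasPullback b ξ
    have hP : IsAlgSpace (pullback b ξ) :=
      Lib.AlgSpace.isAlgSpace_of_isPullback sq A.property.diag G.property (IsAlgSpace.yon_obj _)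
    have hsnd : LocP @Etale (pullback.snd b ξ) :=
      hprop _ (IsAlgFp.respectsIsoSp_locP hE) hfi ξ _ _ sq
    obtain ⟨T, π', hπ', hπ's⟩ := hP.atlas
    obtain ⟨q, hq⟩ := (yon S).map_surjective (π' ≫ pullback.snd b ξ)
    haveI : Etale q.left := hsnd π' (𝟙 _) q hπ' (AlgSp.repWith_id _ _) (by rw [Category.comp_id, hq])
    haveI : Etale (subι O).left := inferInstanceAs (Etale O.ι)
    obtain ⟨E, e₁, e₂, sqE⟩ := exists_isPullback_yon hP.diag π' (pullback.lift c (𝟙 _) (by rw [hc, Category.id_comp]))
    have : Surjective e₂.left := repWith_property hπ's sqE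
    have he₁ : e₁ ≫ q = e₂ := (yon S).map_injective (by
      rw [Functor.map_comp, hq, ← Category.assoc, sqE.w, Category.assoc, pullback.lift_snd, Category.comp_id])
    obtain ⟨v, hv⟩ := e₂.left.surjective ⟨w, hw⟩
    refine ⟨T, q ≫ subι O, e₁.left v, ?_, ?_, ?_⟩
    · have h' : q.left (e₁.left v) = (⟨w, hw⟩ : (sub O).left) := by
        rw [← hv, ← he₁]; rfl
      show (subι O).left (q.left (e₁.left v)) = w
      rw [h']; rfl
    · rw [Over.comp_left]; infer_instance
    · have ha : RepWith @Etale (π' ≫ pullback.fst b ξ) := by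
        have hξe : RepWith @Etale ξ :=
          repWith_comp ((AlgSp.repWith_yon_map_iff _ _).2 ‹Etale (subι O).left›) hπ
        exact repWith_comp hπ' (repWith_baseChange sq.flip hξe)
      have hq' := hb (π' ≫ pullback.fst b ξ) (𝟙 _) (q ≫ subι O ≫ m) ha (AlgSp.repWith_id _ _) (by
        rw [Category.comp_id, Functor.map_comp, Functor.map_comp, hm, hq, Category.assoc, Category.assoc,
          pullback.condition_assoc]
        simp only [ξ, Category.assoc])
      simpa only [Over.comp_left, Category.assoc] using hq'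
  choose T k t hkt hke hks using key
  let c : (∐ fun w => (T w).left) ⟶ W.left := Sigma.desc fun w => (k w).left
  have hc1 : Etale c := IsZariskiLocalAtSource.sigmaDesc (P := @Etale) hke
  have hc2 : Surjective c := ⟨fun w => ⟨Sigma.ι (fun w => (T w).left) w (t w), by
    rw [← Scheme.Hom.comp_apply, Sigma.ι_desc]; exact hkt w⟩⟩
  refine Lib.AlgSpMor.LocP.locP_of_chart hS A.property.diag (IsAlgSpace.yon_obj U).diag hπ hπs
    (AlgSp.repWith_id _ _) (h := m) (by rw [Category.comp_id, hm]) ?_
  refine hS.descends c m.left hc1 hc2 ?_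
  have : c ≫ m.left = Sigma.desc fun w => (k w).left ≫ m.left := Sigma.hom_ext _ _ fun w => by simp [c]
  rw [this]
  exact IsZariskiLocalAtSource.sigmaDesc (P := @Smooth) hks

end Groth.Agent.Lib.HensChart.ChartSum
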