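import Groth.Agent.Lib.AlgSpace.Points
import Groth.Agent.Lib.AlgSpMor.LocP
import Groth.Agent.S1402
import Groth.Agent.Lib.GrpdQuot.Invariant
import Mathlib.AlgebraicGeometry.Morphisms.FlatMono
import Mathlib.GroupTheory.Perm.Basic

/-!
# Fibre products of a finite family of etale charts

The fibre product of finitely many etale maps from an affine scheme to an algebraic space.
-/

set_option autoImplicit false
set_option backward.isDefEq.respectTransparency false
set_option backward.isDefEq.respectTransparency.types false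
set_option linter.style.haveILetI false

universe u

open CategoryTheory CategoryTheory.Limits AlgebraicGeometry
open AlgSp Groth.Agent.Lib.AlgSpace

namespace Groth.Agent.Lib.HensChart.FamPow

variable {S : Scheme.{u}} {X : Sp S} {U : Over S} {n : ℕ} (p : Fin (n + 1) → ((yon S).obj U ⟶ X))

/-- The fibre powers of a chart. -/
structure FamPow where
  P : Over S
  a : Fin (n + 1) → (P ⟶ U)
  comm : ∀ i, (yon S).map (a i) ≫ p i = (yon S).map (a 0) ≫ p 0
  etale : Etale (a 0).left
  exists_lift : ∀ {T : Over S} (b : Fin (n + 1) → (T ⟶ U)),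
    (∀ i, (yon S).map (b i) ≫ p i = (yon S).map (b 0) ≫ p 0) → ∃ c : T ⟶ P, ∀ i, c ≫ a i = b i
  hom_ext : ∀ {T : Over S} (c c' : T ⟶ P), (∀ i, c ≫ a i = c' ≫ a i) → c = c'
  Q : Scheme.{u}
  π : Fin (n + 1) → (Q ⟶ U.left)
  m : P.left ⟶ Q
  affine : IsAffine Q
  fac : ∀ i, m ≫ π i = (a i).left

theorem exists_famPow (hX : IsAlgSpace X) [IsAffine U.left] :
    ∀ {n : ℕ} (p : Fin (n + 1) → ((yon S).obj U ⟶ X)), (∀ i, RepWith @Etale (p i)) → Nonempty (FamPow p) := by
  intro n
  induction n with
  | zero =>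
    intro p hp
    exact ⟨{ P := U, a := fun _ => 𝟙 U, comm := fun i => by rw [show i = 0 from Fin.ext (by omega)], etale := inferInstanceAs (Etale (𝟙 U.left))
             exists_lift := fun b _ => ⟨b 0, fun i => by rw [Category.comp_id]; exact congrArg b (Fin.ext (by omega))⟩
             hom_ext := fun c c' h => by simpa using h 0
             Q := U.left, π := fun _ => 𝟙 _, m := 𝟙 _, affine := inferInstance, fac := fun _ => Category.id_comp _ }⟩
  | succ n ih =>
    intro p hp
    obtain ⟨D⟩ := ih (fun i => p (Fin.castSucc i)) fun i => hp _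
    obtain ⟨W, q, r, sq⟩ := exists_isPullback_yon hX.diag ((yon S).map (D.a 0) ≫ p (Fin.castSucc 0)) (p (Fin.last _))
    haveI : Etale q.left := repWith_property (hp _) sq.flip
    haveI := D.etale
    haveI := D.affine
    have hz : (Fin.snoc (fun i => q ≫ D.a i) r : Fin (n + 1 + 1) → (W ⟶ U)) 0 = q ≫ D.a 0 := by
      rw [show (0 : Fin (n + 1 + 1)) = Fin.castSucc 0 from rfl, Fin.snoc_castSucc]
    haveI : IsAffine (D.Q ⨯ U.left) := .of_isIso (prodIsoPullback D.Q U.left).hom
    refine ⟨{ P := W, a := Fin.snoc (fun i => q ≫ D.a i) r, comm := ?_, etale := ?_, exists_lift := ?_,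
              hom_ext := ?_, Q := D.Q ⨯ U.left, π := Fin.snoc (fun i => prod.fst ≫ D.π i) prod.snd,
              m := prod.lift (q.left ≫ D.m) r.left, affine := inferInstance, fac := ?_ }⟩
    · intro i
      rw [hz]
      refine Fin.lastCases ?_ (fun j => ?_) i
      · rw [Fin.snoc_last, Functor.map_comp, Category.assoc]
        exact sq.w.symm
      · rw [Fin.snoc_castSucc, Functor.map_comp, Category.assoc, D.comm, Functor.map_comp, Category.assoc]; rfl
    · rw [hz]
      exact inferInstanceAs (Etale (q.left ≫ (D.a 0).left))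
    · intro T b hb
      obtain ⟨c, hc⟩ := D.exists_lift (fun i => b (Fin.castSucc i)) (fun i => (hb _).trans (hb (Fin.castSucc 0)).symm)
      obtain ⟨d, hd⟩ := (yon S).map_surjective (sq.lift ((yon S).map c) ((yon S).map (b (Fin.last _))) (by
        rw [← Category.assoc, ← Functor.map_comp, hc]
        exact (hb _).trans (hb _).symm))
      refine ⟨d, fun i => Fin.lastCases ?_ (fun j => ?_) i⟩
      · rw [Fin.snoc_last]
        exact (yon S).map_injective (by rw [Functor.map_comp, hd, sq.lift_snd])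
      · rw [Fin.snoc_castSucc, ← Category.assoc, ← hc j]
        congr 1
        exact (yon S).map_injective (by rw [Functor.map_comp, hd, sq.lift_fst])
    · intro T c c' h
      apply (yon S).map_injective
      refine sq.hom_ext ?_ ?_
      · rw [← Functor.map_comp, ← Functor.map_comp]
        refine congrArg _ (D.hom_ext _ _ fun i => ?_)
        simpa only [Fin.snoc_castSucc, Category.assoc] using h (Fin.castSucc i)
      · rw [← Functor.map_comp, ← Functor.map_comp]
        refine congrArg _ ?_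
        simpa only [Fin.snoc_last] using h (Fin.last _)
    · intro i
      refine Fin.lastCases ?_ (fun j => ?_) i
      · rw [Fin.snoc_last, prod.lift_snd, Fin.snoc_last]
      · rw [Fin.snoc_castSucc, ← Category.assoc, prod.lift_fst, Category.assoc, D.fac, Fin.snoc_castSucc]
        rfl

theorem isIndQuasiAffine_sub (D : FamPow p) (O : D.P.left.Opens) :
    MoreMor.IsIndQuasiAffine (O : Scheme.{u}) := by
  let W : Over S := Over.mk (O.ι ≫ D.P.hom)
  let ι : W ⟶ D.P := Over.homMk O.ι rfl
  haveI := D.etale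
  haveI := D.affine
  have hext : ∀ {T : Over S} (c c' : T ⟶ W), (∀ i, c ≫ ι ≫ D.a i = c' ≫ ι ≫ D.a i) → c = c' := by
    intro T c c' h
    have h' : c ≫ ι = c' ≫ ι := D.hom_ext _ _ fun i => by simpa only [Category.assoc] using h i
    exact Over.OverMorphism.ext ((cancel_mono O.ι).1 (congrArg (fun m => m.left) h'))
  let g : W.left ⟶ D.Q := O.ι ≫ D.m
  haveI : Mono g := ⟨fun {Z} c c' h => by
    have h₀ : c ≫ O.ι ≫ D.P.hom = c' ≫ O.ι ≫ D.P.hom := by
      have := congrArg (fun m => m ≫ D.π 0 ≫ U.hom) h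
      simp only [g, Category.assoc, reassoc_of% (D.fac 0), Over.w (D.a 0)] at this
      exact this
    let c₁ : Over.mk (c ≫ O.ι ≫ D.P.hom) ⟶ W := Over.homMk c rfl
    let c₂ : Over.mk (c ≫ O.ι ≫ D.P.hom) ⟶ W := Over.homMk c' h₀.symm
    refine congrArg (fun m => m.left) (show c₁ = c₂ from hext _ _ fun i => Over.OverMorphism.ext ?_)
    show c ≫ O.ι ≫ (D.a i).left = c' ≫ O.ι ≫ (D.a i).left
    have := congrArg (fun m => m ≫ D.π i) h
    simpa only [g, Category.assoc, D.fac] using this⟩
  haveI : LocallyOfFiniteType g := by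
    haveI : LocallyOfFiniteType (g ≫ D.π 0) := by
      rw [show g ≫ D.π 0 = O.ι ≫ (D.a 0).left by simp [g, D.fac]]
      infer_instance
    exact locallyOfFiniteType_of_comp g (D.π 0)
  haveI : LocallyQuasiFinite g := LocallyQuasiFinite.of_injective g.injective
  have hg := Groth.Agent.S1402.result g ⊤ (isAffineOpen_top _)
  intro V hV
  let V' : (g ⁻¹ᵁ ⊤ : Scheme.{u}).Opens := (g ⁻¹ᵁ ⊤).ι ⁻¹ᵁ V
  haveI : IsIso (g ⁻¹ᵁ ⊤).ι := by rw [Scheme.Hom.preimage_top]; exact (Scheme.topIso _).isIso_hom
  have hV' : IsCompact (V' : Set ↥(g ⁻¹ᵁ ⊤ : Scheme.{u})) :=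
    (g ⁻¹ᵁ ⊤).ι.homeomorph.isCompact_preimage.2 hV
  haveI := hg V' hV'
  haveI : CompactSpace ↥(V : Scheme.{u}) := isCompact_iff_compactSpace.mp hV
  exact Scheme.IsQuasiAffine.of_isImmersion (inv ((g ⁻¹ᵁ ⊤).ι ∣_ V))

end Groth.Agent.Lib.HensChart.FamPow
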