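import Groth.Agent.Lib.AlgSpace.Points
import Groth.Agent.Lib.AlgSpMor.LocP
import Groth.Agent.S1402
import Groth.Agent.Lib.GrpdQuot.Invariant
import Mathlib.AlgebraicGeometry.Morphisms.FlatMono
import Mathlib.GroupTheory.Perm.Basic

/-!
# Distinct multisections of an etale affine chart

The open part of the fibre power `U ×_X ... ×_X U` of pairwise distinct points.
-/

set_option autoImplicit false
set_option backward.isDefEq.respectTransparency false
set_option backward.isDefEq.respectTransparency.types false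
set_option linter.style.haveILetI false

universe u

open CategoryTheory CategoryTheory.Limits AlgebraicGeometry
open AlgSp Groth.Agent.Lib.AlgSpace

namespace Groth.Agent.Lib.HensChart

variable {S : Scheme.{u}} {X : Sp S} {U : Over S} (p : (yon S).obj U ⟶ X)

/-- The fibre powers of a chart. -/
structure FibrePow (n : ℕ) where
  P : Over S
  a : Fin (n + 1) → (P ⟶ U)
  comm : ∀ i, (yon S).map (a i) ≫ p = (yon S).map (a 0) ≫ p
  etale : Etale (a 0).left
  exists_lift : ∀ {T : Over S} (b : Fin (n + 1) → (T ⟶ U)),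
    (∀ i, (yon S).map (b i) ≫ p = (yon S).map (b 0) ≫ p) → ∃ c : T ⟶ P, ∀ i, c ≫ a i = b i
  hom_ext : ∀ {T : Over S} (c c' : T ⟶ P), (∀ i, c ≫ a i = c' ≫ a i) → c = c'
  Q : Scheme.{u}
  π : Fin (n + 1) → (Q ⟶ U.left)
  m : P.left ⟶ Q
  affine : IsAffine Q
  fac : ∀ i, m ≫ π i = (a i).left

theorem exists_fibrePow (hX : IsAlgSpace X) (hp : RepWith @Etale p) [IsAffine U.left] :
    ∀ n, Nonempty (FibrePow p n) := by
  intro n
  induction n with
  | zero =>
    exact ⟨{ P := U, a := fun _ => 𝟙 U, comm := fun _ => rfl, etale := inferInstanceAs (Etale (𝟙 U.left))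
             exists_lift := fun b _ => ⟨b 0, fun i => by rw [Category.comp_id]; exact congrArg b (Fin.ext (by omega))⟩
             hom_ext := fun c c' h => by simpa using h 0
             Q := U.left, π := fun _ => 𝟙 _, m := 𝟙 _, affine := inferInstance, fac := fun _ => Category.id_comp _ }⟩
  | succ n ih =>
    obtain ⟨D⟩ := ih
    obtain ⟨W, q, r, sq⟩ := exists_isPullback_yon hX.diag ((yon S).map (D.a 0) ≫ p) p
    haveI : Etale q.left := repWith_property hp sq.flip
    haveI := D.etale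
    haveI := D.affine
    have hz : (Fin.snoc (fun i => q ≫ D.a i) r : Fin (n + 1 + 1) → (W ⟶ U)) 0 = q ≫ D.a 0 := by
      rw [show (0 : Fin (n + 1 + 1)) = Fin.castSucc 0 from rfl, Fin.snoc_castSucc]
    haveI : IsAffine (D.Q ⨯ U.left) := .of_isIso (prodIsoPullback D.Q U.left).hom
    refine ⟨{ P := W, a := Fin.snoc (fun i => q ≫ D.a i) r, comm := ?_, etale := ?_, exists_lift := ?_,
              hom_ext := ?_, Q := D.Q ⨯ U.left, π := Fin.snoc (fun i => prod.fst ≫ D.π i) prod.snd,
              m := prod.lift (q.left ≫ D.m) r.left, affine := inferInstance, fac := ?_ }⟩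
    · intro i
      rw [hz]
      refine Fin.lastCases ?_ (fun j => ?_) i
      · rw [Fin.snoc_last, Functor.map_comp, Category.assoc]
        exact sq.w.symm
      · rw [Fin.snoc_castSucc, Functor.map_comp, Category.assoc, D.comm, Functor.map_comp, Category.assoc]
    · rw [hz]
      exact inferInstanceAs (Etale (q.left ≫ (D.a 0).left))
    · intro T b hb
      obtain ⟨c, hc⟩ := D.exists_lift (fun i => b (Fin.castSucc i)) (fun i => (hb _).trans (hb (Fin.castSucc 0)).symm)
      obtain ⟨d, hd⟩ := (yon S).map_surjective (sq.lift ((yon S).map c) ((yon S).map (b (Fin.last _))) (by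
        rw [← Category.assoc, ← Functor.map_comp, hc]
        exact (hb _).trans (hb _).symm))
      refine ⟨d, fun i => Fin.lastCases ?_ (fun j => ?_) i⟩
      · rw [Fin.snoc_last]
        exact (yon S).map_injective (by rw [Functor.map_comp, hd, sq.lift_snd])
      · rw [Fin.snoc_castSucc, ← Category.assoc, ← hc j]
        congr 1
        exact (yon S).map_injective (by rw [Functor.map_comp, hd, sq.lift_fst])
    · intro T c c' h
      apply (yon S).map_injective
      refine sq.hom_ext ?_ ?_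
      · rw [← Functor.map_comp, ← Functor.map_comp]
        refine congrArg _ (D.hom_ext _ _ fun i => ?_)
        simpa only [Fin.snoc_castSucc, Category.assoc] using h (Fin.castSucc i)
      · rw [← Functor.map_comp, ← Functor.map_comp]
        refine congrArg _ ?_
        simpa only [Fin.snoc_last] using h (Fin.last _)
    · intro i
      refine Fin.lastCases ?_ (fun j => ?_) i
      · rw [Fin.snoc_last, prod.lift_snd, Fin.snoc_last]
      · rw [Fin.snoc_castSucc, ← Category.assoc, prod.lift_fst, Category.assoc, D.fac, Fin.snoc_castSucc]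
        rfl

/-- The scheme of pairwise distinct multisections, with its action of the permutations. -/
structure Multi (n : ℕ) where
  W : Over S
  a : Fin (n + 1) → (W ⟶ U)
  comm : ∀ i, (yon S).map (a i) ≫ p = (yon S).map (a 0) ≫ p
  etale : Etale (a 0).left
  indQA : MoreMor.IsIndQuasiAffine W.left
  act : Equiv.Perm (Fin (n + 1)) →* Aut W
  act_a : ∀ σ i, (act σ).hom ≫ a i = a (σ⁻¹ i)
  hom_ext : ∀ {T : Over S} (c c' : T ⟶ W), (∀ i, c ≫ a i = c' ≫ a i) → c = c'
  free : ∀ (σ : Equiv.Perm (Fin (n + 1))) (x : W.left), σ ≠ 1 →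
    W.left.fromSpecResidueField x ≫ (act σ).hom.left ≠ W.left.fromSpecResidueField x
  exists_lift : ∀ {K : Type u} [Field K] (str : Spec (CommRingCat.of K) ⟶ S)
    (b : Fin (n + 1) → (Over.mk str ⟶ U)), (∀ i, (yon S).map (b i) ≫ p = (yon S).map (b 0) ≫ p) →
    Function.Injective b → ∃ c : Over.mk str ⟶ W, ∀ i, c ≫ a i = b i

theorem isImmersion_diag {R : Over S} {r₁ r₂ : R ⟶ U} [IsAffine U.left] (hp : RepWith @Etale p)
    (sqR : IsPullback ((yon S).map r₁) ((yon S).map r₂) p p) {Δ : U ⟶ R} (hΔ₁ : Δ ≫ r₁ = 𝟙 U) :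
    IsClosedImmersion Δ.left ∧ IsOpenImmersion Δ.left := by
  haveI : Etale r₁.left := repWith_property hp sqR.flip
  haveI : IsSeparated r₁.left := by
    haveI : Mono (prod.lift r₁.left r₂.left) := ⟨fun {Z} g h e => by
      have e₁ := congrArg (· ≫ prod.fst) e
      have e₂ := congrArg (· ≫ prod.snd) e
      simp only [Category.assoc, prod.lift_fst, prod.lift_snd] at e₁ e₂
      have wS : h ≫ R.hom = g ≫ R.hom := by rw [← Over.w r₁, ← reassoc_of% e₁]
      let g' : Over.mk (g ≫ R.hom) ⟶ R := Over.homMk g rfl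
      let h' : Over.mk (g ≫ R.hom) ⟶ R := Over.homMk h wS
      refine congrArg (fun m => m.left) (show g' = h' from (yon S).map_injective (sqR.hom_ext ?_ ?_))
      · rw [← Functor.map_comp, ← Functor.map_comp]
        exact congrArg _ (Over.OverMorphism.ext e₁)
      · rw [← Functor.map_comp, ← Functor.map_comp]
        exact congrArg _ (Over.OverMorphism.ext e₂)⟩
    haveI : IsSeparated (prod.fst : U.left ⨯ U.left ⟶ U.left) := by
      rw [← prodIsoPullback_hom_fst]
      infer_instance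
    rw [← prod.lift_fst r₁.left r₂.left]
    infer_instance
  haveI hΔc : IsClosedImmersion Δ.left := by
    haveI : IsClosedImmersion (Δ.left ≫ r₁.left) := by
      rw [← Over.comp_left, hΔ₁]
      exact inferInstanceAs (IsClosedImmersion (𝟙 U.left))
    exact IsClosedImmersion.of_comp Δ.left r₁.left
  haveI hΔo : IsOpenImmersion Δ.left := by
    have : Etale Δ.left := MorphismProperty.of_postcomp (W := @Etale) (W' := @Etale) Δ.left r₁.left inferInstance
      (by rw [← Over.comp_left, hΔ₁]; exact inferInstanceAs (Etale (𝟙 U.left)))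
    exact IsOpenImmersion.of_flat_of_mono Δ.left
  exact ⟨hΔc, hΔo⟩

theorem isIndQuasiAffine_sub {n : ℕ} (D : FibrePow p n) (O : D.P.left.Opens) :
    MoreMor.IsIndQuasiAffine (O : Scheme.{u}) := by
  let W : Over S := Over.mk (O.ι ≫ D.P.hom)
  let ι : W ⟶ D.P := Over.homMk O.ι rfl
  haveI := D.etale
  haveI := D.affine
  have hext : ∀ {T : Over S} (c c' : T ⟶ W), (∀ i, c ≫ ι ≫ D.a i = c' ≫ ι ≫ D.a i) → c = c' := by
    intro T c c' h
    have h' : c ≫ ι = c' ≫ ι := D.hom_ext _ _ fun i => by simpa only [Category.assoc] using h i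
    exact Over.OverMorphism.ext ((cancel_mono O.ι).1 (congrArg (fun m => m.left) h'))
  let g : W.left ⟶ D.Q := O.ι ≫ D.m
  haveI : Mono g := ⟨fun {Z} c c' h => by
    have h₀ : c ≫ O.ι ≫ D.P.hom = c' ≫ O.ι ≫ D.P.hom := by
      have := congrArg (fun m => m ≫ D.π 0 ≫ U.hom) h
      simp only [g, Category.assoc, reassoc_of% (D.fac 0), Over.w (D.a 0)] at this
      exact this
    let c₁ : Over.mk (c ≫ O.ι ≫ D.P.hom) ⟶ W := Over.homMk c rfl
    let c₂ : Over.mk (c ≫ O.ι ≫ D.P.hom) ⟶ W := Over.homMk c' h₀.symm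
    refine congrArg (fun m => m.left) (show c₁ = c₂ from hext _ _ fun i => Over.OverMorphism.ext ?_)
    show c ≫ O.ι ≫ (D.a i).left = c' ≫ O.ι ≫ (D.a i).left
    have := congrArg (fun m => m ≫ D.π i) h
    simpa only [g, Category.assoc, D.fac] using this⟩
  haveI : LocallyOfFiniteType g := by
    haveI : LocallyOfFiniteType (g ≫ D.π 0) := by
      rw [show g ≫ D.π 0 = O.ι ≫ (D.a 0).left by simp [g, D.fac]]
      infer_instance
    exact locallyOfFiniteType_of_comp g (D.π 0)
  haveI : LocallyQuasiFinite g := LocallyQuasiFinite.of_injective g.injective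
  have hg := Groth.Agent.S1402.result g ⊤ (isAffineOpen_top _)
  intro V hV
  let V' : (g ⁻¹ᵁ ⊤ : Scheme.{u}).Opens := (g ⁻¹ᵁ ⊤).ι ⁻¹ᵁ V
  haveI : IsIso (g ⁻¹ᵁ ⊤).ι := by rw [Scheme.Hom.preimage_top]; exact (Scheme.topIso _).isIso_hom
  have hV' : IsCompact (V' : Set ↥(g ⁻¹ᵁ ⊤ : Scheme.{u})) :=
    (g ⁻¹ᵁ ⊤).ι.homeomorph.isCompact_preimage.2 hV
  haveI := hg V' hV'
  haveI : CompactSpace ↥(V : Scheme.{u}) := isCompact_iff_compactSpace.mp hV
  exact Scheme.IsQuasiAffine.of_isImmersion (inv ((g ⁻¹ᵁ ⊤).ι ∣_ V))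

theorem exists_multi (hX : IsAlgSpace X) (hp : RepWith @Etale p) [IsAffine U.left] (n : ℕ) :
    Nonempty (Multi p n) := by
  obtain ⟨D⟩ := exists_fibrePow p hX hp n
  obtain ⟨R, r₁, r₂, sqR⟩ := exists_isPullback_yon hX.diag p p
  obtain ⟨Δ, hΔ⟩ := (yon S).map_surjective (sqR.lift (𝟙 ((yon S).obj U)) (𝟙 _) rfl)
  have hΔ₁ : Δ ≫ r₁ = 𝟙 U := (yon S).map_injective (by
    rw [Functor.map_comp, hΔ, sqR.lift_fst, CategoryTheory.Functor.map_id])
  have hΔ₂ : Δ ≫ r₂ = 𝟙 U := (yon S).map_injective (by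
    rw [Functor.map_comp, hΔ, sqR.lift_snd, CategoryTheory.Functor.map_id])
  obtain ⟨hΔc, hΔo⟩ := isImmersion_diag p hp sqR hΔ₁
  have he : ∀ i j, ∃ e : D.P ⟶ R, e ≫ r₁ = D.a i ∧ e ≫ r₂ = D.a j := fun i j => by
    obtain ⟨e, he⟩ := (yon S).map_surjective (sqR.lift _ _ ((D.comm i).trans (D.comm j).symm))
    exact ⟨e, (yon S).map_injective (by rw [Functor.map_comp, he, sqR.lift_fst]),
      (yon S).map_injective (by rw [Functor.map_comp, he, sqR.lift_snd])⟩
  choose e he₁ he₂ using he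
  obtain ⟨bad, hbad_def⟩ : ∃ bad : Set ↥D.P.left, ∀ q, q ∈ bad ↔
      ∃ i j : Fin (n + 1), i ≠ j ∧ (e i j).left q ∈ Set.range Δ.left :=
    ⟨{q | ∃ i j : Fin (n + 1), i ≠ j ∧ (e i j).left q ∈ Set.range Δ.left}, fun _ => Iff.rfl⟩
  have hbadc : IsClosed bad := by
    have : bad = ⋃ i : Fin (n + 1), ⋃ j : Fin (n + 1), ⋃ _ : i ≠ j, (e i j).left ⁻¹' Set.range Δ.left := by
      ext q
      rw [hbad_def]
      simp only [Set.mem_iUnion, Set.mem_preimage, exists_prop]
    rw [this]
    exact isClosed_iUnion_of_finite fun i => isClosed_iUnion_of_finite fun j => isClosed_iUnion_of_finite fun _ =>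
      Δ.left.isClosedEmbedding.isClosed_range.preimage (e i j).left.continuous
  let O : D.P.left.Opens := ⟨badᶜ, hbadc.isOpen_compl⟩
  let W : Over S := Over.mk (O.ι ≫ D.P.hom)
  let ι : W ⟶ D.P := Over.homMk O.ι rfl
  have hfac : ∀ {T : Over S} (c : T ⟶ D.P), (∀ τ : ↥T.left, c.left τ ∉ bad) → ∃ d : T ⟶ W, d ≫ ι = c := by
    intro T c hc
    refine ⟨Over.homMk (IsOpenImmersion.lift O.ι c.left ?_) ?_, Over.OverMorphism.ext (IsOpenImmersion.lift_fac _ _ _)⟩
    · rintro _ ⟨τ, rfl⟩
      exact (Scheme.Opens.range_ι O).symm ▸ hc τ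
    · show IsOpenImmersion.lift O.ι c.left _ ≫ O.ι ≫ D.P.hom = T.hom
      rw [← Category.assoc, IsOpenImmersion.lift_fac, Over.w c]
  have hext : ∀ {T : Over S} (c c' : T ⟶ W), (∀ i, c ≫ ι ≫ D.a i = c' ≫ ι ≫ D.a i) → c = c' := by
    intro T c c' h
    have h' : c ≫ ι = c' ≫ ι := D.hom_ext _ _ fun i => by simpa only [Category.assoc] using h i
    exact Over.OverMorphism.ext ((cancel_mono O.ι).1 (congrArg (fun m => m.left) h'))
  -- a point where two of the multisection entries agree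
  have hbad : ∀ {K : Type u} [Field K] {str : Spec (CommRingCat.of K) ⟶ S} (c : Over.mk str ⟶ D.P) (i j : Fin (n + 1))
      (τ : ↥(Spec (CommRingCat.of K))), (e i j).left (c.left τ) ∈ Set.range Δ.left → c ≫ D.a i = c ≫ D.a j := by
    intro K _ str c i j τ hτ
    obtain ⟨d, hd⟩ : ∃ d, d ≫ Δ.left = (c ≫ e i j).left :=
      ⟨_, IsOpenImmersion.lift_fac Δ.left (c ≫ e i j).left (by
        rintro _ ⟨τ', rfl⟩
        rw [show τ' = τ from @Subsingleton.elim (PrimeSpectrum K) _ _ _]
        exact hτ)⟩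
    let d' : Over.mk str ⟶ U := Over.homMk d (by
      show d ≫ U.hom = str
      rw [← Over.w Δ, ← Category.assoc, hd]
      exact Over.w (c ≫ e i j))
    have h : c ≫ e i j = d' ≫ Δ := Over.OverMorphism.ext hd.symm
    rw [← he₁ i j, ← he₂ i j, ← Category.assoc, ← Category.assoc, h, Category.assoc, Category.assoc, hΔ₁, hΔ₂]
  have hgood : ∀ (w : ↥W.left) (i j : Fin (n + 1)), i ≠ j → (e i j).left (O.ι w) ∉ Set.range Δ.left :=
    fun w i j hij h => w.2 ((hbad_def _).2 ⟨i, j, hij, h⟩)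
  have hperm : ∀ σ : Equiv.Perm (Fin (n + 1)), ∃ d : W ⟶ W, ∀ i, d ≫ ι ≫ D.a i = ι ≫ D.a (σ⁻¹ i) := by
    intro σ
    obtain ⟨c, hc⟩ := D.exists_lift (fun i => ι ≫ D.a (σ⁻¹ i)) (fun i => by
      rw [Functor.map_comp, Functor.map_comp, Category.assoc, Category.assoc, D.comm (σ⁻¹ i), D.comm (σ⁻¹ 0)])
    have hee : ∀ i j, c ≫ e i j = ι ≫ e (σ⁻¹ i) (σ⁻¹ j) := fun i j => by
      refine (yon S).map_injective (sqR.hom_ext ?_ ?_) <;> rw [← Functor.map_comp, ← Functor.map_comp] <;>
        refine congrArg _ ?_ <;> simp only [Category.assoc, he₁, he₂, hc]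
    obtain ⟨d, hd⟩ := hfac c fun w hw => by
      obtain ⟨i, j, hij, h⟩ := (hbad_def _).1 hw
      refine hgood w (σ⁻¹ i) (σ⁻¹ j) (fun h' => hij (σ⁻¹.injective h')) ?_
      have := congrArg (fun m => m.left w) (hee i j)
      simp only [Over.comp_left, Scheme.Hom.comp_apply] at this
      exact this ▸ h
    exact ⟨d, fun i => by rw [← Category.assoc, hd, hc]⟩
  choose f hf using hperm
  have hmul : ∀ σ τ, f τ ≫ f σ = f (σ * τ) := fun σ τ => hext _ _ fun i => by
    rw [Category.assoc, hf, hf, hf, mul_inv_rev, Equiv.Perm.mul_apply]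
  have hone : f 1 = 𝟙 W := hext _ _ fun i => by rw [hf, inv_one, Equiv.Perm.one_apply, Category.id_comp]
  let φ : Equiv.Perm (Fin (n + 1)) →* Aut W :=
    { toFun := fun σ => ⟨f σ, f σ⁻¹, by rw [hmul, inv_mul_cancel, hone], by rw [hmul, mul_inv_cancel, hone]⟩
      map_one' := Iso.ext hone
      map_mul' := fun σ τ => Iso.ext (hmul σ τ).symm }
  haveI := D.etale
  haveI : Etale (ι ≫ D.a 0).left := inferInstanceAs (Etale (O.ι ≫ (D.a 0).left))
  have hQA : MoreMor.IsIndQuasiAffine W.left := isIndQuasiAffine_sub p D O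
  refine ⟨{ W := W, a := fun i => ι ≫ D.a i, comm := fun i => ?_, etale := ‹_›, indQA := hQA,
            act := φ, act_a := hf, hom_ext := hext, free := ?_, exists_lift := ?_ }⟩
  · rw [Functor.map_comp, Functor.map_comp, Category.assoc, Category.assoc, D.comm]
  · intro σ x hσ heq
    obtain ⟨i, hi⟩ : ∃ i, σ⁻¹ i ≠ i := by
      by_contra! h
      exact hσ (inv_eq_one.1 (Equiv.ext h))
    let c : Over.mk (W.left.fromSpecResidueField x ≫ W.hom) ⟶ W := Over.homMk (W.left.fromSpecResidueField x) rfl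
    have hc : c ≫ f σ = c := Over.OverMorphism.ext heq
    have hii : (c ≫ ι) ≫ D.a (σ⁻¹ i) = (c ≫ ι) ≫ D.a i := by
      rw [Category.assoc, ← hf, ← Category.assoc, hc, Category.assoc]
    have hcomp : (c ≫ ι) ≫ e (σ⁻¹ i) i = (c ≫ ι ≫ D.a i) ≫ Δ := by
      refine (yon S).map_injective (sqR.hom_ext ?_ ?_) <;> rw [← Functor.map_comp, ← Functor.map_comp] <;>
        refine congrArg _ ?_
      · rw [Category.assoc, he₁, Category.assoc _ Δ, hΔ₁, Category.comp_id, hii, Category.assoc]
      · rw [Category.assoc, he₂, Category.assoc _ Δ, hΔ₂, Category.comp_id, Category.assoc]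
    refine hgood x (σ⁻¹ i) i hi ?_
    have := congrArg (fun m => m.left (IsLocalRing.closedPoint (W.left.residueField x))) hcomp
    simp only [Over.comp_left, Scheme.Hom.comp_apply] at this
    rw [show c.left (IsLocalRing.closedPoint (W.left.residueField x)) = x from
      Scheme.fromSpecResidueField_apply x _] at this
    exact ⟨_, this.symm⟩
  · intro K _ str b hb hinj
    obtain ⟨c, hc⟩ := D.exists_lift b hb
    obtain ⟨d, hd⟩ := hfac c fun τ hτ => by
      obtain ⟨i, j, hij, h⟩ := (hbad_def _).1 hτ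
      exact hij (hinj (by rw [← hc i, ← hc j]; exact hbad c i j τ h))
    exact ⟨d, fun i => by rw [← Category.assoc, hd, hc]⟩

end Groth.Agent.Lib.HensChart
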