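import Groth.Agent.Lib.HensChart.Quot
import Groth.Agent.Lib.DescAlg.EtaleFibre
import Mathlib.FieldTheory.IsSepClosed
import Mathlib.FieldTheory.Galois.Basic
import Mathlib.FieldTheory.Normal.Closure

/-!
# Field points lift to the schemes of distinct multisections
-/

set_option autoImplicit false
set_option backward.isDefEq.respectTransparency false
set_option backward.isDefEq.respectTransparency.types false
set_option linter.style.haveILetI false

universe u

open CategoryTheory CategoryTheory.Limits AlgebraicGeometry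
open AlgSp Groth.Agent.Lib.AlgSpace

namespace Groth.Agent.Lib.HensChart

variable {S : Scheme.{u}} {X : Sp S}

/-- A field point meets one of the affine pieces of an atlas. -/
theorem exists_piece (hX : IsAlgSpace X) {U₀ : Over S} {a : (yon S).obj U₀ ⟶ X}
    (hs : RepWith @Surjective a) {k : Type u} [Field k] {str : Spec (CommRingCat.of k) ⟶ S}
    (z₀ : (yon S).obj (Over.mk str) ⟶ X) :
    ∃ (j : U₀.left.affineOpens) (E : Over S) (e : E ⟶ FreeAct.sub j.1) (π : E ⟶ Over.mk str),
      IsPullback ((yon S).map e) ((yon S).map π) ((yon S).map (FreeAct.subι j.1) ≫ a) z₀ ∧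
        Nonempty E.left := by
  obtain ⟨E₀, e₀, π₀, sq₀⟩ := exists_isPullback_yon hX.diag a z₀
  haveI : Surjective π₀.left := repWith_property hs sq₀
  obtain ⟨y, -⟩ := π₀.left.surjective (IsLocalRing.closedPoint k)
  obtain ⟨V, hV, hy, -⟩ :=
    exists_isAffineOpen_mem_and_subset (X := U₀.left) (x := e₀.left y) (U := ⊤) trivial
  obtain ⟨E, e, π, sq⟩ := exists_isPullback_yon hX.diag ((yon S).map (FreeAct.subι V) ≫ a) z₀
  let c : Over.mk (E₀.left.fromSpecResidueField y ≫ E₀.hom) ⟶ E₀ :=
    Over.homMk (E₀.left.fromSpecResidueField y) rfl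
  have hcV : Set.range (c ≫ e₀).left ⊆ Set.range V.ι := by
    rintro _ ⟨τ, rfl⟩
    rw [Scheme.Opens.range_ι, Over.comp_left, Scheme.Hom.comp_apply]
    exact (Scheme.fromSpecResidueField_apply y τ).symm ▸ hy
  let d : Over.mk (E₀.left.fromSpecResidueField y ≫ E₀.hom) ⟶ FreeAct.sub V :=
    Over.homMk (IsOpenImmersion.lift V.ι (c ≫ e₀).left hcV) (by
      show _ ≫ V.ι ≫ U₀.hom = _
      rw [← Category.assoc, IsOpenImmersion.lift_fac, Over.w (c ≫ e₀)])
  have hd : d ≫ FreeAct.subι V = c ≫ e₀ := Over.OverMorphism.ext (IsOpenImmersion.lift_fac _ _ _)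
  obtain ⟨f, -⟩ := (yon S).map_surjective (sq.lift ((yon S).map d) ((yon S).map (c ≫ π₀)) (by
    rw [← Category.assoc, ← Functor.map_comp, hd, Functor.map_comp, Functor.map_comp, Category.assoc,
      Category.assoc, sq₀.w]))
  exact ⟨⟨V, hV⟩, E, e, π, sq, ⟨f.left (IsLocalRing.closedPoint (E₀.left.residueField y))⟩⟩

/-- A field point lifts to the quotient of distinct multisections of the right length. -/
theorem exists_quot_lift {U : Over S} {p : (yon S).obj U ⟶ X} (hp : RepWith @Etale p)
    {k : Type u} [Field k] {str : Spec (CommRingCat.of k) ⟶ S} {z₀ : (yon S).obj (Over.mk str) ⟶ X}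
    {E : Over S} {e : E ⟶ U} {π : E ⟶ Over.mk str}
    (sq : IsPullback ((yon S).map e) ((yon S).map π) p z₀) (x : E.left) :
    ∃ n : ℕ, ∀ (D : Multi p n) (Q : MQuot D),
      ∃ g : Over.mk str ⟶ Q.M, (yon S).map g ≫ Q.pM = z₀ := by
  haveI : Etale π.left := repWith_property hp sq
  -- the residue field of the chosen point
  let L := E.left.residueField x
  let φ : CommRingCat.of k ⟶ L := Spec.preimage (E.left.fromSpecResidueField x ≫ π.left)
  have hφ : Spec.map φ = E.left.fromSpecResidueField x ≫ π.left := Spec.map_preimage _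
  letI : Algebra k L := φ.hom.toAlgebra
  have hLe : Algebra.Etale k L := by
    haveI : Etale (Spec.map (π.left.residueFieldMap x)) :=
      HasRingHomProperty.Spec_iff.2 (DescAlg.EtaleFibre.residueFieldMap_etale π.left x)
    haveI : IsIso ((Spec (CommRingCat.of k)).fromSpecResidueField (π.left x)) := by
      haveI : Surjective ((Spec (CommRingCat.of k)).fromSpecResidueField (π.left x)) :=
        ⟨fun q => ⟨default, @Subsingleton.elim (PrimeSpectrum k) _ _ _⟩⟩
      haveI : IsClosedImmersion ((Spec (CommRingCat.of k)).fromSpecResidueField (π.left x)) := isClosed_singleton_iff_isClosedImmersion.1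
        (show IsClosed ({π.left x} : Set ↥(Spec (CommRingCat.of k))) from by
          rw [show ({π.left x} : Set ↥(Spec (CommRingCat.of k))) = Set.univ from
            Set.eq_univ_iff_forall.2 fun q => Set.mem_singleton_iff.2 (@Subsingleton.elim (PrimeSpectrum k) _ _ _)]
          exact isClosed_univ)
      exact isIso_of_isClosedImmersion_of_surjective _
    have h : Etale (Spec.map φ) := by
      rw [hφ, ← Scheme.Hom.SpecMap_residueFieldMap_fromSpecResidueField]
      exact inferInstanceAs (Etale (Spec.map (π.left.residueFieldMap x) ≫ (Spec (CommRingCat.of k)).fromSpecResidueField (π.left x)))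
    exact HasRingHomProperty.Spec_iff.1 h
  haveI : Algebra.IsSeparable k L := Algebra.FormallyUnramified.isSeparable k L
  haveI : Module.Finite k L := Algebra.FormallyUnramified.finite_of_free k L
  -- a finite Galois extension splitting it
  let N : IntermediateField k (SeparableClosure k) := IntermediateField.normalClosure k L (SeparableClosure k)
  haveI : FiniteDimensional k N := normalClosure.is_finiteDimensional k L (SeparableClosure k)
  haveI : IsGalois k N :=
    { to_isSeparable := inferInstance, to_normal := normalClosure.normal k L (SeparableClosure k) }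
  have hne : Nonempty (L →ₐ[k] N) := by
    obtain ⟨σ⟩ : Nonempty (L →ₐ[k] SeparableClosure k) := ⟨IsSepClosed.lift⟩
    exact ⟨AlgHom.codRestrict σ N.toSubalgebra fun l =>
      AlgHom.fieldRange_le_normalClosure σ ⟨l, rfl⟩⟩
  haveI := Fintype.ofFinite (L →ₐ[k] N)
  refine ⟨Nat.card (L →ₐ[k] N) - 1, fun D Q => ?_⟩
  let ev : Fin (Nat.card (L →ₐ[k] N) - 1 + 1) ≃ (L →ₐ[k] N) :=
    (finCongr (Nat.sub_add_cancel Nat.card_pos)).trans (Finite.equivFin _).symm
  let ι : CommRingCat.of k ⟶ CommRingCat.of N := CommRingCat.ofHom (algebraMap k N)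
  let ν : Over.mk (Spec.map ι ≫ str) ⟶ Over.mk str := Over.homMk (Spec.map ι) rfl
  have hσ : ∀ σ : L →ₐ[k] N, φ ≫ CommRingCat.ofHom σ.toRingHom = ι := fun σ =>
    CommRingCat.hom_ext (RingHom.ext fun c => σ.commutes c)
  let l : (L →ₐ[k] N) → (Over.mk (Spec.map ι ≫ str) ⟶ E) := fun σ =>
    Over.homMk (Spec.map (CommRingCat.ofHom σ.toRingHom) ≫ E.left.fromSpecResidueField x) (by
      show _ = Spec.map ι ≫ str
      rw [← hσ σ, Spec.map_comp, hφ, Category.assoc, Category.assoc, Category.assoc]
      exact congrArg _ (congrArg _ (Over.w π).symm))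
  have hlπ : ∀ σ, l σ ≫ π = ν := fun σ => Over.OverMorphism.ext (by
    show (Spec.map (CommRingCat.ofHom σ.toRingHom) ≫ E.left.fromSpecResidueField x) ≫ π.left = Spec.map ι
    rw [← hσ σ, Spec.map_comp, hφ, Category.assoc])
  let b := fun i => l (ev i) ≫ e
  have hb : ∀ i, (yon S).map (b i) ≫ p = (yon S).map ν ≫ z₀ := fun i => by
    rw [Functor.map_comp, Category.assoc, sq.w, ← Category.assoc, ← Functor.map_comp, hlπ]
  have hinj : Function.Injective b := fun i j hij => by
    have h : l (ev i) = l (ev j) := (yon S).map_injective (sq.hom_ext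
      (by rw [← Functor.map_comp, ← Functor.map_comp]; exact congrArg _ hij)
      (by rw [← Functor.map_comp, ← Functor.map_comp, hlπ, hlπ]))
    have h' := (cancel_mono (E.left.fromSpecResidueField x)).1 (congrArg (fun m => m.left) h)
    exact ev.injective (AlgHom.coe_ringHom_injective
      (congrArg CommRingCat.Hom.hom (Spec.map_injective h')))
  obtain ⟨w, hw⟩ := D.exists_lift _ b (fun i => (hb i).trans (hb 0).symm) hinj
  let u := w ≫ Q.q
  -- invariance under the Galois group
  have hgal : ∀ γ : N ≃ₐ[k] N, Spec.map (CommRingCat.ofHom γ.toRingEquiv.toRingHom) ≫ u.left = u.left := by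
    intro γ
    have hγ : ι ≫ CommRingCat.ofHom γ.toRingEquiv.toRingHom = ι :=
      CommRingCat.hom_ext (RingHom.ext fun c => γ.commutes c)
    let Γ : Over.mk (Spec.map ι ≫ str) ⟶ Over.mk (Spec.map ι ≫ str) :=
      Over.homMk (Spec.map (CommRingCat.ofHom γ.toRingEquiv.toRingHom)) (by
        show _ ≫ Spec.map ι ≫ str = Spec.map ι ≫ str
        rw [← Category.assoc, ← Spec.map_comp, hγ])
    let τ : Equiv.Perm (Fin (Nat.card (L →ₐ[k] N) - 1 + 1)) :=
      (ev.trans ((AlgEquiv.arrowCongr AlgEquiv.refl γ).trans ev.symm))⁻¹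
    have hev : ∀ i, ev (τ⁻¹ i) = γ.toAlgHom.comp (ev i) := fun i => by
      simp only [τ, _root_.inv_inv, Equiv.trans_apply, Equiv.apply_symm_apply]
      rfl
    have h : Γ ≫ w = w ≫ (D.act τ).hom := D.hom_ext _ _ fun i => by
      rw [Category.assoc, Category.assoc, hw, D.act_a, hw]
      show Γ ≫ l (ev i) ≫ e = l (ev (τ⁻¹ i)) ≫ e
      rw [← Category.assoc]
      congr 1
      refine Over.OverMorphism.ext ?_
      show Spec.map _ ≫ Spec.map _ ≫ _ = Spec.map _ ≫ _
      rw [← Category.assoc, ← Spec.map_comp, hev]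
      rfl
    have h' : Γ ≫ u = u := by
      show Γ ≫ w ≫ Q.q = w ≫ Q.q
      rw [← Category.assoc, h, Category.assoc, Q.inv]
    exact congrArg (fun m => m.left) h'
  -- descent to the ground field
  obtain ⟨⟨m, α⟩, hα⟩ := (Scheme.SpecToEquivOfField N Q.M.left).symm.surjective u.left
  replace hα : Spec.map α ≫ Q.M.left.fromSpecResidueField m = u.left := hα
  have hfix : ∀ c, α.hom c ∈ Set.range (algebraMap k N) := fun c => by
    rw [IsGalois.mem_range_algebraMap_iff_fixed]
    intro γ
    have h := hgal γ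
    rw [← hα, ← Category.assoc, cancel_mono, ← Spec.map_comp] at h
    exact congrArg (fun m => (CommRingCat.Hom.hom m) c) (Spec.map_injective h)
  choose β hβ using hfix
  have hi : Function.Injective (algebraMap k N) := (algebraMap k N).injective
  let β' : Q.M.left.residueField m ⟶ CommRingCat.of k := CommRingCat.ofHom
    { toFun := β
      map_one' := hi (by simp only [hβ, map_one])
      map_mul' := fun c d => hi (by simp only [hβ, map_mul])
      map_zero' := hi (by simp only [hβ, map_zero])
      map_add' := fun c d => hi (by simp only [hβ, map_add]) }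
  have hβ' : β' ≫ ι = α := CommRingCat.hom_ext (RingHom.ext hβ)
  have hν : fppfCover ν.left := by
    have hf : (algebraMap k N).Flat ∧ (algebraMap k N).FinitePresentation :=
      ⟨RingHom.flat_algebraMap_iff.2 inferInstance, RingHom.finitePresentation_algebraMap.2
        (Algebra.FinitePresentation.of_finiteType.mp inferInstance)⟩
    haveI : Flat ν.left := HasRingHomProperty.Spec_iff.2 hf.1
    haveI : LocallyOfFinitePresentation ν.left := HasRingHomProperty.Spec_iff.2 hf.2
    haveI : Surjective ν.left :=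
      ⟨fun q => ⟨IsLocalRing.closedPoint N, @Subsingleton.elim (PrimeSpectrum k) _ _ _⟩⟩
    exact fppfCover_mk _
  have hlow : Spec.map ι ≫ Spec.map β' ≫ Q.M.left.fromSpecResidueField m = u.left := by
    rw [← Category.assoc, ← Spec.map_comp, hβ', hα]
  haveI : Epi (Spec.map ι) := by
    haveI := hν.1.1
    haveI := hν.1.2
    exact Flat.epi_of_flat_of_surjective ν.left
  let g : Over.mk str ⟶ Q.M := Over.homMk (Spec.map β' ≫ Q.M.left.fromSpecResidueField m) (by
    rw [← cancel_epi (Spec.map ι), ← Category.assoc, hlow]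
    exact Over.w u)
  refine ⟨g, ?_⟩
  haveI := epi_yon_map ν hν
  rw [← cancel_epi ((yon S).map ν), ← Category.assoc, ← Functor.map_comp, show ν ≫ g = u from Over.OverMorphism.ext hlow]
  show (yon S).map (w ≫ Q.q) ≫ Q.pM = _
  rw [Functor.map_comp, Category.assoc, Q.fac, ← Category.assoc, ← Functor.map_comp, hw]
  exact hb 0

/-- Field points of an algebraic space lie on affine etale charts. -/
theorem exists_affine_chart_field (hX : IsAlgSpace X) {k : Type u} [Field k]
    {str : Spec (CommRingCat.of k) ⟶ S} (z₀ : (yon S).obj (Over.mk str) ⟶ X) :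
    ∃ (Z : Over S) (pZ : (yon S).obj Z ⟶ X) (g : Over.mk str ⟶ Z),
      IsAffine Z.left ∧ RepWith @Etale pZ ∧ (yon S).map g ≫ pZ = z₀ := by
  obtain ⟨U₀, a, ha, hs⟩ := hX.atlas
  obtain ⟨j, E, e, π, sq, ⟨x⟩⟩ := exists_piece hX hs z₀
  have hp : RepWith @Etale ((yon S).map (FreeAct.subι j.1) ≫ a) :=
    haveI : Etale (FreeAct.subι j.1).left := inferInstanceAs (Etale j.1.ι)
    AlgSpMor.LocP.repWith_etale_comp _ ha
  haveI : IsAffine (FreeAct.sub j.1).left := j.2
  obtain ⟨n, hn⟩ := exists_quot_lift hp sq x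
  obtain ⟨D⟩ := exists_multi _ hX hp n
  obtain ⟨Q⟩ := exists_quot hX hp D
  obtain ⟨g, hg⟩ := hn D Q
  obtain ⟨V, hV, hm, -⟩ :=
    exists_isAffineOpen_mem_and_subset (X := Q.M.left) (x := g.left (IsLocalRing.closedPoint k)) (U := ⊤) trivial
  have hgV : Set.range g.left ⊆ Set.range V.ι := by
    rintro _ ⟨τ, rfl⟩
    rw [Scheme.Opens.range_ι, show τ = IsLocalRing.closedPoint k from @Subsingleton.elim (PrimeSpectrum k) _ _ _]
    exact hm
  let g' : Over.mk str ⟶ FreeAct.sub V := Over.homMk (IsOpenImmersion.lift V.ι g.left hgV) (by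
    show _ ≫ V.ι ≫ Q.M.hom = str
    rw [← Category.assoc, IsOpenImmersion.lift_fac]
    exact Over.w g)
  haveI : Etale (FreeAct.subι V).left := inferInstanceAs (Etale V.ι)
  refine ⟨FreeAct.sub V, (yon S).map (FreeAct.subι V) ≫ Q.pM, g', hV,
    AlgSpMor.LocP.repWith_etale_comp _ Q.etale, ?_⟩
  rw [← Category.assoc, ← Functor.map_comp,
    show g' ≫ FreeAct.subι V = g from Over.OverMorphism.ext (IsOpenImmersion.lift_fac _ _ _), hg]

end Groth.Agent.Lib.HensChart
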