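import Groth.Agent.Lib.HensChart.FibrePow
import Groth.Agent.Lib.FreeAct.Basic
import Groth.Agent.Lib.GrpdQuot.OfEqvRel

/-!
# The scheme of unordered distinct multisections
-/

set_option autoImplicit false
set_option backward.isDefEq.respectTransparency false
set_option backward.isDefEq.respectTransparency.types false
set_option linter.style.haveILetI false

universe u

open CategoryTheory CategoryTheory.Limits AlgebraicGeometry
open AlgSp Groth.Agent.Lib.AlgSpace

namespace Groth.Agent.Lib.HensChart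

variable {S : Scheme.{u}} {X : Sp S} {U : Over S} {p : (yon S).obj U ⟶ X} {n : ℕ}

/-- The quotient of the multisection scheme by the permutations, with its map to the space. -/
structure MQuot (D : Multi p n) where
  M : Over S
  q : D.W ⟶ M
  pM : (yon S).obj M ⟶ X
  fac : (yon S).map q ≫ pM = (yon S).map (D.a 0) ≫ p
  inv : ∀ σ, (D.act σ).hom ≫ q = q
  etale : RepWith @Etale pM

/-- In an ind-quasi-affine scheme finitely many points lie in an affine open. -/
theorem exists_affine_of_finite {Y : Scheme.{u}} (hY : MoreMor.IsIndQuasiAffine Y) (A : Set Y)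
    (hA : A.Finite) : ∃ V : Y.Opens, IsAffineOpen V ∧ A ⊆ V := by
  have hcov : ∀ y : Y, ∃ V : Y.Opens, IsAffineOpen V ∧ y ∈ V := fun y => by
    obtain ⟨V, hV, hy, -⟩ := exists_isAffineOpen_mem_and_subset (X := Y) (x := y) (U := ⊤) trivial
    exact ⟨V, hV, hy⟩
  choose V hV hVm using hcov
  haveI := hA.to_subtype
  obtain ⟨O, hO⟩ : ∃ O : Y.Opens, O = ⨆ x : A, V x := ⟨_, rfl⟩
  have hOc : IsCompact (O : Set Y) := by
    rw [hO, TopologicalSpace.Opens.coe_iSup]
    exact isCompact_iUnion fun x => (hV _).isCompact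
  have hAO : A ⊆ O := fun x hx => by
    rw [hO, TopologicalSpace.Opens.coe_iSup]
    exact Set.mem_iUnion.2 ⟨⟨x, hx⟩, hVm x⟩
  haveI := hY O hOc
  obtain ⟨B, hB⟩ : ∃ B : Set ↥(Spec Γ((O : Scheme.{u}), ⊤)), B = (O : Scheme.{u}).toSpecΓ '' (O.ι ⁻¹' A) := ⟨_, rfl⟩
  have hBf : B.Finite := hB ▸ (hA.preimage O.ι.injective.injOn).image _
  obtain ⟨f, hf, hBf'⟩ := GrpdQuot.exists_basicOpen_le_of_finite (isAffineOpen_top (Spec Γ((O : Scheme.{u}), ⊤))) B hBf
    (W := (O : Scheme.{u}).toSpecΓ.opensRange) (by rw [hB]; rintro _ ⟨x, -, rfl⟩; exact ⟨x, rfl⟩) (fun _ _ => trivial)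
  have hW := ((isAffineOpen_top (Spec Γ((O : Scheme.{u}), ⊤))).basicOpen f).preimage_of_isOpenImmersion
    (O : Scheme.{u}).toSpecΓ hf
  refine ⟨O.ι ''ᵁ ((O : Scheme.{u}).toSpecΓ ⁻¹ᵁ (Spec Γ((O : Scheme.{u}), ⊤)).basicOpen f),
    hW.image_of_isOpenImmersion O.ι, fun x hx => ?_⟩
  refine ⟨⟨x, hAO hx⟩, hBf' ?_, rfl⟩
  rw [hB]
  exact ⟨_, hx, rfl⟩

theorem exists_quot (hX : IsAlgSpace X) (hp : RepWith @Etale p) (D : Multi p n) : Nonempty (MQuot D) := by
  let G : Type u := ULift.{u} (Equiv.Perm (Fin (n + 1)))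
  let φ : G →* Aut D.W := D.act.comp (MulEquiv.ulift (α := Equiv.Perm (Fin (n + 1)))).toMonoidHom
  let c : Cofan (fun _ : G => D.W) := Cofan.mk (∐ fun _ : G => D.W) (Sigma.ι fun _ : G => D.W)
  have hc : IsColimit c := coproductIsCoproduct _
  let s : c.pt ⟶ D.W := Sigma.desc fun _ => 𝟙 D.W
  let t : c.pt ⟶ D.W := Sigma.desc fun g => (φ g).hom
  have hs : ∀ g, c.inj g ≫ s = 𝟙 D.W := fun g => Sigma.ι_desc _ _
  have ht : ∀ g, c.inj g ≫ t = (φ g).hom := fun g => Sigma.ι_desc _ _
  have hfree : ∀ (g : G) (x : D.W.left), g ≠ 1 →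
      D.W.left.fromSpecResidueField x ≫ (φ g).hom.left ≠ D.W.left.fromSpecResidueField x :=
    fun g x hg => D.free g.down x fun e => hg (ULift.ext _ _ e)
  have h := FreeAct.isEtaleEqvRel φ hfree hs ht hc
  haveI hse : Etale s.left := h.etale_left
  haveI hte : Etale t.left := h.etale_right
  haveI : IsFinite s.left := FreeAct.isFinite_of_inj hc s fun g => by rw [hs]; infer_instance
  haveI : IsFinite t.left := FreeAct.isFinite_of_inj hc t fun g => by rw [ht]; infer_instance
  obtain ⟨M, q, ⟨hqf, hqfl, hqp⟩, hqs, sq⟩ := GrpdQuot.exists_scheme_quotient_of_eqvRel h.toIsEqvRel fun u => by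
    obtain ⟨V, hV, hVA⟩ := exists_affine_of_finite D.indQA _ ((s.left.finite_preimage_singleton u).image t.left)
    exact ⟨V, hV, fun r hr => hVA ⟨r, hr, rfl⟩⟩
  have hcov : fppfCover q.left := fppfCover_mk _
  haveI := Lib.AlgSpace.isLocallySurjective_yon_map q hcov
  have sqY : IsPullback ((yon S).map t) ((yon S).map s) ((yon S).map q) ((yon S).map q) :=
    isPullback_yon (IsPullback.of_map (Over.forget S) (Over.OverMorphism.ext sq.w) sq)
  have ha : ∀ i, (yon S).map (D.a i) ≫ p = (yon S).map (D.a 0) ≫ p := D.comm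
  obtain ⟨pM, hpM⟩ := Lib.AlgSpace.exists_desc ((yon S).map q) sqY ((yon S).map (D.a 0) ≫ p) (by
    refine hom_ext_of_family (fun _ : G => D.W) (fun g => c.inj g) (ofArrows_mem_J _ _ ?_ ?_ ?_) fun g => ?_
    · intro g
      haveI := FreeAct.isOpenImmersion_inj hc g
      infer_instance
    · intro g
      haveI := FreeAct.isOpenImmersion_inj hc g
      infer_instance
    · exact FreeAct.exists_inj_apply hc
    · simp only [← Category.assoc, ← Functor.map_comp, hs, Category.id_comp, ht]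
      have e : (φ g).hom ≫ D.a 0 = D.a (g.down⁻¹ 0) := D.act_a g.down 0
      rw [e]
      exact ha _)
  have hqe : Etale q.left := by
    haveI := Lib.AlgSpace.isLocalAtTarget_fppf_etale.{u}
    refine of_fppfCover @Etale hcov ?_
    rw [← MorphismProperty.cancel_left_of_respectsIso @Etale sq.isoPullback.hom, sq.isoPullback_hom_snd]
    exact hse
  have hinv : ∀ σ, (D.act σ).hom ≫ q = q := fun σ => by
    have e : t ≫ q = s ≫ q := Over.OverMorphism.ext sq.w
    have e' := congrArg (c.inj ⟨σ⟩ ≫ ·) e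
    simp only [← Category.assoc, hs, ht, Category.id_comp] at e'
    exact e'
  have hM : IsAlgSpace ((yon S).obj M) := IsAlgSpace.yon_obj M
  have hloc : LocP @Etale pM := by
    refine Lib.AlgSpMor.LocP.locP_of_precomp SourceDescent.Scheme.etale hM hX (φ := (yon S).map q)
      ((AlgSp.repWith_yon_map_iff _ _).2 hqe) ((AlgSp.repWith_yon_map_iff _ _).2 hqs) ?_
    rw [hpM]
    haveI := D.etale
    exact Lib.AlgSpMor.LocP.locP_of_repWith SourceDescent.Scheme.etale
      (Lib.AlgSpMor.LocP.repWith_etale_comp (D.a 0) hp)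
  exact ⟨{ M := M, q := q, pM := pM, fac := hpM, inv := hinv
           etale := Lib.AlgSpMor.LocP.repWith_of_locP SourceDescent.Scheme.etale hX
             (representable_from_yon hX.diag pM) hloc }⟩

end Groth.Agent.Lib.HensChart
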