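import Groth.Agent.Lib.HensChart.TorsorDescent
import Groth.Agent.Lib.HensChart.Quot

/-!
# The quotient of the free locus of an equivariant configuration by a finite group
-/

set_option autoImplicit false
set_option backward.isDefEq.respectTransparency false
set_option backward.isDefEq.respectTransparency.types false
set_option linter.style.haveILetI false

universe u

open CategoryTheory CategoryTheory.Limits AlgebraicGeometry

namespace Groth.Agent.Lib.HensChart.FreeQuot

open TorsorDescent (Torsor)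
open FreeAct (sub subι)
open AlgSp Groth.Agent.Lib.AlgSpace

variable {S : Scheme.{u}} {W V : Over S}

/-- The points where two maps to a separated target agree form the range of their equalizer. -/
theorem mem_range_equalizer_iff [IsSeparated V.hom] (a b : W ⟶ V) (x : W.left) :
    x ∈ Set.range (equalizer.ι a b).left ↔
      W.left.fromSpecResidueField x ≫ a.left = W.left.fromSpecResidueField x ≫ b.left := by
  constructor
  · rintro ⟨y, rfl⟩
    let e := Spec.map ((equalizer.ι a b).left.residueFieldMap y)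
    have : Flat e := by
      have : RingHom.Flat ((equalizer.ι a b).left.residueFieldMap y).hom := by
        letI := ((equalizer.ι a b).left.residueFieldMap y).hom.toAlgebra
        rw [RingHom.Flat]
        infer_instance
      exact HasRingHomProperty.Spec_iff.2 this
    have : Surjective e := ⟨fun p => ⟨IsLocalRing.closedPoint _, Subsingleton.elim _ _⟩⟩
    have := Flat.epi_of_flat_of_surjective e
    rw [← cancel_epi e]
    simp only [e, Scheme.Hom.SpecMap_residueFieldMap_fromSpecResidueField_assoc]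
    exact congrArg _ (congrArg (fun m => m.left) (equalizer.condition a b))
  · intro h
    let c : Over.mk (W.left.fromSpecResidueField x ≫ W.hom) ⟶ W := Over.homMk (W.left.fromSpecResidueField x) rfl
    have hc : c ≫ a = c ≫ b := Over.OverMorphism.ext h
    refine ⟨(equalizer.lift c hc).left (IsLocalRing.closedPoint _), ?_⟩
    rw [← Scheme.Hom.comp_apply, ← Over.comp_left, equalizer.lift_ι]
    exact Scheme.fromSpecResidueField_apply x _

theorem exists_free_quot {G : Type u} [Group G] [Finite G] [IsSeparated V.hom] (d : G → (W ⟶ W))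
    (hmul : ∀ g h, d (g * h) = d h ≫ d g) (hone : d 1 = 𝟙 W) (c : G → (W ⟶ V))
    (hc : ∀ g σ, d g ≫ c σ = c (σ * g)) (hW : ∀ O : W.left.Opens, MoreMor.IsIndQuasiAffine (O : Scheme.{u})) :
    ∃ (W₀ : Over S) (ι : W₀ ⟶ W) (M : Over S) (t : Torsor W₀ M G),
      (∀ g, t.d g ≫ ι = ι ≫ d g) ∧ IsOpenImmersion ι.left ∧ Etale t.q.left ∧ Surjective t.q.left ∧
      ∀ {K : Type u} [Field K] {str : Spec (CommRingCat.of K) ⟶ S} (w : Over.mk str ⟶ W),
        (∀ σ σ', w ≫ c σ = w ≫ c σ' → σ = σ') → ∃ w₀, w₀ ≫ ι = w := by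
  classical
  obtain ⟨bad, hbad_def⟩ : ∃ bad : Set W.left, ∀ x, x ∈ bad ↔ ∃ σ σ', σ ≠ σ' ∧
      W.left.fromSpecResidueField x ≫ (c σ).left = W.left.fromSpecResidueField x ≫ (c σ').left :=
    ⟨{x | ∃ σ σ', σ ≠ σ' ∧
      W.left.fromSpecResidueField x ≫ (c σ).left = W.left.fromSpecResidueField x ≫ (c σ').left}, fun _ => Iff.rfl⟩
  have hbadc : IsClosed bad := by
    have : bad = ⋃ σ : G, ⋃ σ' : G, ⋃ _ : σ ≠ σ', Set.range (equalizer.ι (c σ) (c σ')).left := by
      ext q
      simp only [hbad_def, Set.mem_iUnion, mem_range_equalizer_iff, exists_prop]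
    rw [this]
    exact isClosed_iUnion_of_finite fun i => isClosed_iUnion_of_finite fun j => isClosed_iUnion_of_finite fun _ =>
      (equalizer.ι (c i) (c j)).left.isClosedEmbedding.isClosed_range
  let O : W.left.Opens := ⟨badᶜ, hbadc.isOpen_compl⟩
  let W₀ : Over S := sub O
  let ι : W₀ ⟶ W := subι O
  have hι : IsOpenImmersion ι.left := inferInstanceAs (IsOpenImmersion O.ι)
  have hfac : ∀ {T : Over S} (e : T ⟶ W), (∀ τ : ↥T.left, e.left τ ∉ bad) → ∃ e' : T ⟶ W₀, e' ≫ ι = e := by
    intro T e he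
    refine ⟨Over.homMk (IsOpenImmersion.lift O.ι e.left ?_) ?_, Over.OverMorphism.ext (IsOpenImmersion.lift_fac _ _ _)⟩
    · rintro _ ⟨τ, rfl⟩
      exact (Scheme.Opens.range_ι O).symm ▸ he τ
    · show IsOpenImmersion.lift O.ι e.left _ ≫ O.ι ≫ W.hom = T.hom
      rw [← Category.assoc, IsOpenImmersion.lift_fac, Over.w e]
  -- points of the bad locus over fields
  have hbad : ∀ {T : Over S} (e : T ⟶ W) (τ : T.left), e.left τ ∈ bad →
      ∃ σ σ', σ ≠ σ' ∧ T.left.fromSpecResidueField τ ≫ (e ≫ c σ).left = T.left.fromSpecResidueField τ ≫ (e ≫ c σ').left := by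
    intro T e τ h
    obtain ⟨σ, σ', hne, h⟩ := (hbad_def _).1 h
    refine ⟨σ, σ', hne, ?_⟩
    simp only [Over.comp_left, ← Scheme.Hom.SpecMap_residueFieldMap_fromSpecResidueField_assoc, h]
  have hbad' : ∀ {T : Over S} (e : T ⟶ W) (τ : T.left) (σ σ' : G), σ ≠ σ' → e ≫ c σ = e ≫ c σ' → e.left τ ∈ bad := by
    intro T e τ σ σ' hne h
    refine (hbad_def _).2 ⟨σ, σ', hne, ?_⟩
    let m := Spec.map (e.left.residueFieldMap τ)
    have : Flat m := by
      have : RingHom.Flat (e.left.residueFieldMap τ).hom := by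
        letI := (e.left.residueFieldMap τ).hom.toAlgebra
        rw [RingHom.Flat]
        infer_instance
      exact HasRingHomProperty.Spec_iff.2 this
    have : Surjective m := ⟨fun p => ⟨IsLocalRing.closedPoint _, Subsingleton.elim _ _⟩⟩
    have := Flat.epi_of_flat_of_surjective m
    rw [← cancel_epi m]
    simp only [m, Scheme.Hom.SpecMap_residueFieldMap_fromSpecResidueField_assoc]
    exact congrArg _ (congrArg (fun m => m.left) h)
  have hd : ∀ g, ∃ d₀ : W₀ ⟶ W₀, d₀ ≫ ι = ι ≫ d g := fun g => hfac (ι ≫ d g) fun τ hτ => by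
    obtain ⟨σ, σ', hne, h⟩ := hbad (ι ≫ d g) τ hτ
    simp only [Category.assoc, hc] at h
    have h2 : (sub O).left.fromSpecResidueField τ ≫ ι.left ≫ (c (σ * g)).left =
        (sub O).left.fromSpecResidueField τ ≫ ι.left ≫ (c (σ' * g)).left := h
    let T : Over S := Over.mk (W₀.left.fromSpecResidueField τ ≫ W₀.hom)
    let e : T ⟶ W₀ := Over.homMk (W₀.left.fromSpecResidueField τ) rfl
    have hm := hbad' (e ≫ ι) (IsLocalRing.closedPoint (W₀.left.residueField τ)) (σ * g) (σ' * g)
      (fun h' => hne (mul_right_cancel h')) (Over.OverMorphism.ext (by simp only [Over.comp_left, Category.assoc]; exact h2))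
    rw [Over.comp_left, Scheme.Hom.comp_apply, show e.left (IsLocalRing.closedPoint (W₀.left.residueField τ)) = τ from
      Scheme.fromSpecResidueField_apply τ _] at hm
    exact τ.2 hm
  choose d₀ hd₀ using hd
  haveI : Mono ι := by
    haveI := hι
    exact (Over.forget S).mono_of_mono_map (inferInstanceAs (Mono ι.left))
  have hmul₀ : ∀ g h, d₀ (g * h) = d₀ h ≫ d₀ g := fun g h => by
    rw [← cancel_mono ι, Category.assoc, hd₀, hd₀, reassoc_of% hd₀, hmul]
  have hone₀ : d₀ 1 = 𝟙 W₀ := by rw [← cancel_mono ι, hd₀, hone, Category.comp_id, Category.id_comp]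
  have hfree : ∀ {T : Over S} (a : T ⟶ W₀) (_ : T.left) (g : G), a ≫ d₀ g = a → g = 1 := by
    intro T a x g h
    by_contra hg
    have e : (a ≫ ι) ≫ c (1 * g) = (a ≫ ι) ≫ c 1 := by
      rw [← hc, Category.assoc, ← Category.assoc ι (d g), ← hd₀, Category.assoc, ← Category.assoc a, h, Category.assoc]
    exact (a.left x).2 (hbad' (a ≫ ι) x (1 * g) 1 (by rwa [one_mul]) e)
  -- the quotient
  let G' := ULift.{u} G
  let φ : G' →* Aut W₀ :=
    { toFun := fun g => ⟨d₀ g.down, d₀ g.down⁻¹, by rw [← hmul₀, inv_mul_cancel, hone₀],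
        by rw [← hmul₀, mul_inv_cancel, hone₀]⟩
      map_one' := Iso.ext hone₀
      map_mul' := fun g h => Iso.ext (hmul₀ g.down h.down) }
  let cf : Cofan (fun _ : G' => W₀) := Cofan.mk (∐ fun _ : G' => W₀) (Sigma.ι fun _ : G' => W₀)
  have hcf : IsColimit cf := coproductIsCoproduct _
  let s : cf.pt ⟶ W₀ := Sigma.desc fun _ => 𝟙 W₀
  let t : cf.pt ⟶ W₀ := Sigma.desc fun g => (φ g).hom
  have hs : ∀ g, cf.inj g ≫ s = 𝟙 W₀ := fun g => Sigma.ι_desc _ _
  have ht : ∀ g, cf.inj g ≫ t = (φ g).hom := fun g => Sigma.ι_desc _ _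
  have hfree' : ∀ (g : G') (x : W₀.left), g ≠ 1 →
      W₀.left.fromSpecResidueField x ≫ (φ g).hom.left ≠ W₀.left.fromSpecResidueField x := by
    intro g x hg e
    let a : Over.mk (W₀.left.fromSpecResidueField x ≫ W₀.hom) ⟶ W₀ := Over.homMk (W₀.left.fromSpecResidueField x) rfl
    exact hg (ULift.ext _ _ (hfree a (IsLocalRing.closedPoint (W₀.left.residueField x)) g.down (Over.OverMorphism.ext e)))
  have h := FreeAct.isEtaleEqvRel φ hfree' hs ht hcf
  haveI hse : Etale s.left := h.etale_left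
  haveI hte : Etale t.left := h.etale_right
  haveI : IsFinite s.left := FreeAct.isFinite_of_inj hcf s fun g => by rw [hs]; infer_instance
  haveI : IsFinite t.left := FreeAct.isFinite_of_inj hcf t fun g => by rw [ht]; infer_instance
  obtain ⟨M, q, ⟨hqf, hqfl, hqp⟩, hqs, sq⟩ := GrpdQuot.exists_scheme_quotient_of_eqvRel h.toIsEqvRel fun u => by
    obtain ⟨V', hV, hVA⟩ := exists_affine_of_finite (hW O) _ ((s.left.finite_preimage_singleton u).image t.left)
    exact ⟨V', hV, fun r hr => hVA ⟨r, hr, rfl⟩⟩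
  have hqe : Etale q.left := by
    haveI := Lib.AlgSpace.isLocalAtTarget_fppf_etale.{u}
    have hcov : fppfCover q.left := fppfCover_mk _
    refine of_fppfCover @Etale hcov ?_
    rw [← MorphismProperty.cancel_left_of_respectsIso @Etale sq.isoPullback.hom, sq.isoPullback_hom_snd]
    exact hse
  have hdq : ∀ g, d₀ g ≫ q = q := fun g => by
    have e : t ≫ q = s ≫ q := Over.OverMorphism.ext sq.w
    have e' := congrArg (cf.inj ⟨g⟩ ≫ ·) e
    simp only [← Category.assoc, hs, ht, Category.id_comp] at e'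
    exact e'
  have hloc : ∀ {T : Over S} (k k' : T ⟶ W₀), k ≫ q = k' ≫ q → ∀ x : T.left, ∃ (V : T.left.Opens) (g : G),
      x ∈ V ∧ subι V ≫ k ≫ d₀ g = subι V ≫ k' := by
    intro T k k' hk x
    obtain ⟨r, hr1, hr2⟩ : ∃ r : T.left ⟶ cf.pt.left, r ≫ t.left = k'.left ∧ r ≫ s.left = k.left :=
      ⟨sq.lift k'.left k.left (congrArg (fun m => m.left) hk).symm, sq.lift_fst _ _ _, sq.lift_snd _ _ _⟩
    let r' : T ⟶ cf.pt := Over.homMk r (by rw [← Over.w s, ← Category.assoc, hr2]; exact Over.w k)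
    obtain ⟨V, g, _, a, _, hx, ha, -⟩ := FreeAct.exists_components hcf r' r' x
    refine ⟨V, g.down, hx, ?_⟩
    have e1 : a = subι V ≫ k := by
      rw [← Category.comp_id a, ← hs g, ← Category.assoc, ha, Category.assoc]
      exact congrArg _ (Over.OverMorphism.ext hr2)
    have e2 : a ≫ d₀ g.down = subι V ≫ k' := by
      show a ≫ (φ g).hom = _
      rw [← ht g, ← Category.assoc, ha, Category.assoc]
      exact congrArg _ (Over.OverMorphism.ext hr1)
    rw [← Category.assoc, ← e1, e2]
  refine ⟨W₀, ι, M, ⟨q, d₀, hdq, hmul₀, hone₀, hfree, hloc⟩, hd₀, hι, hqe, hqs, fun {K} _ {str} w hw => ?_⟩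
  refine hfac w fun τ hτ => ?_
  obtain ⟨σ, σ', hne, e⟩ := hbad w τ hτ
  refine hne (hw σ σ' (Over.OverMorphism.ext ?_))
  haveI : IsIso ((Spec (CommRingCat.of K)).fromSpecResidueField τ) := by
    haveI : Surjective ((Spec (CommRingCat.of K)).fromSpecResidueField τ) :=
      ⟨fun q => ⟨default, @Subsingleton.elim (PrimeSpectrum K) _ _ _⟩⟩
    haveI : IsClosedImmersion ((Spec (CommRingCat.of K)).fromSpecResidueField τ) := isClosed_singleton_iff_isClosedImmersion.1
      (show IsClosed ({τ} : Set ↥(Spec (CommRingCat.of K))) from by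
        rw [show ({τ} : Set ↥(Spec (CommRingCat.of K))) = Set.univ from
          Set.eq_univ_iff_forall.2 fun q => Set.mem_singleton_iff.2 (@Subsingleton.elim (PrimeSpectrum K) _ _ _)]
        exact isClosed_univ)
    exact isIso_of_isClosedImmersion_of_surjective _
  exact (cancel_epi ((Spec (CommRingCat.of K)).fromSpecResidueField τ)).1 e

end Groth.Agent.Lib.HensChart.FreeQuot
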