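import Groth.Agent.Lib.HensChart.TorsorDescent
import Groth.Agent.Lib.GalDescent.SplitCover
import Groth.Agent.Lib.AlgStack.ChartLift
import Groth.Agent.Lib.EtaleSection.Sections
import Groth.Agent.Lib.DescAlg.EtaleFibre
import Mathlib.FieldTheory.IsSepClosed
import Mathlib.FieldTheory.Galois.Basic
import Mathlib.RingTheory.Etale.Field

/-!
# Field points of a stack over finite Galois extensions
-/

set_option autoImplicit false
set_option backward.isDefEq.respectTransparency false
set_option backward.isDefEq.respectTransparency.types false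
set_option linter.style.haveILetI false

universe u

open CategoryTheory CategoryTheory.Limits AlgebraicGeometry

namespace Groth.Agent.Lib.HensChart.GaloisPoint

open Lib.AlgStack Lib.AlgStack.BasedBasic
open FibCat (IsFibGrpd overCat)
open AlgSt (ofSp ofSpMap ofOverCat overMap RepByAlgSpWith)
open AlgSp (yon)
open TorsorDescent (Torsor)
open FreeAct (sub subι)

variable {S : Scheme.{u}}

/-- A morphism of schemes with a property of morphisms gives a representable functor with it. -/
theorem repByAlgSpWith_overMap {P : MorphismProperty Scheme.{u}} (hP : SourceDescent.Scheme.EtaleLocalST P)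
    [P.IsStableUnderBaseChange] {T V : Over S} (h : T ⟶ V) (hh : P h.left) :
    RepByAlgSpWith (AlgSp.LocP P) (overMap h) := by
  haveI : (BasedFunctor.id (overCat T)).toFunctor.Full := inferInstanceAs (𝟭 _).Full
  have h1 : RepByAlgSpWith (AlgSp.LocP P) (ofSpMap ((yon S).map h)) :=
    Descend.repByAlgSpWith_ofSpMap
      (fun _ _ _ _ hX₁ hY₁ _ hY₂ _ _ _ _ sq ha => AlgSpMor.LocP.locP_of_isPullback hP hX₁ hY₁ hY₂ sq ha)
      (AlgSp.IsAlgSpace.yon_obj T) (AlgSp.IsAlgSpace.yon_obj V)
      (AlgSpMor.LocP.locP_of_repWith hP ((AlgSp.repWith_yon_map_iff P h).2 hh))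
  exact (Rep.repByAlgSpWith_iff_of_isEquivOver (f := ofSpMap ((yon S).map h)) (f' := overMap h)
    (Rep.isEquivOver_ofOverCat T) (Rep.isEquivOver_ofOverCat V) (Iso.refl _)).1 h1

variable {k : Type u} [Field k] {str : Spec (CommRingCat.of k) ⟶ S}
  (N : IntermediateField k (SeparableClosure k))

/-- The spectrum of a subextension of the separable closure. -/
noncomputable abbrev nObj (str : Spec (CommRingCat.of k) ⟶ S) : Over S :=
  Over.mk ((SGA7.pt (K := k) N).hom ≫ str)

/-- Its structure morphism. -/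
noncomputable abbrev ν (str : Spec (CommRingCat.of k) ⟶ S) : nObj N str ⟶ Over.mk str :=
  Over.homMk (SGA7.pt (K := k) N).hom rfl

/-- The action of the Galois group. -/
noncomputable def gal (str : Spec (CommRingCat.of k) ⟶ S) (g : N ≃ₐ[k] N) : nObj N str ⟶ nObj N str :=
  Over.homMk (GalTw.specMap N g⁻¹) (by
    show _ ≫ (SGA7.pt (K := k) N).hom ≫ str = _
    rw [← Category.assoc]
    exact congrArg (· ≫ str) (GalTw.specMap_comp_pt g⁻¹))

theorem gal_mul (g h : N ≃ₐ[k] N) : gal N str (g * h) = gal N str h ≫ gal N str g :=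
  Over.OverMorphism.ext (by
    show GalTw.specMap N (g * h)⁻¹ = GalTw.specMap N h⁻¹ ≫ GalTw.specMap N g⁻¹
    rw [mul_inv_rev, GalTw.specMap_mul])

theorem gal_one : gal N str 1 = 𝟙 (nObj N str) :=
  Over.OverMorphism.ext (by show GalTw.specMap N (1 : N ≃ₐ[k] N)⁻¹ = _; rw [inv_one, GalTw.specMap_one]; rfl)

theorem gal_ν (g : N ≃ₐ[k] N) : gal N str g ≫ ν N str = ν N str :=
  Over.OverMorphism.ext (GalTw.specMap_comp_pt g⁻¹)

theorem eq_one_of_comp_gal {T : Over S} (a : T ⟶ nObj N str) (x : T.left) (g : N ≃ₐ[k] N)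
    (h : a ≫ gal N str g = a) : g = 1 := by
  let χ : CommRingCat.of N ⟶ T.left.residueField x := Spec.preimage (T.left.fromSpecResidueField x ≫ a.left)
  have hχ : Spec.map χ = T.left.fromSpecResidueField x ≫ a.left := Spec.map_preimage _
  have h' : T.left.fromSpecResidueField x ≫ a.left ≫ GalTw.specMap N g⁻¹ = T.left.fromSpecResidueField x ≫ a.left :=
    congrArg (fun m => T.left.fromSpecResidueField x ≫ m.left) h
  rw [← Category.assoc, ← hχ] at h'
  change Spec.map χ ≫ Spec.map _ = Spec.map χ at h'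
  rw [← Spec.map_comp] at h'
  have e := congrArg CommRingCat.Hom.hom (Spec.map_injective h')
  have : g⁻¹ = 1 := AlgEquiv.ext fun y => χ.hom.injective (RingHom.congr_fun e y)
  exact inv_eq_one.1 this

variable [FiniteDimensional k N] [IsGalois k N]

/-- The spectrum of a finite Galois extension as a torsor. -/
noncomputable def galTorsor : Torsor (nObj N str) (Over.mk str) (N ≃ₐ[k] N) where
  q := ν N str
  d := gal N str
  dq := gal_ν N
  d_mul := gal_mul N
  d_one := gal_one N
  free := eq_one_of_comp_gal N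
  loc {T} k₁ k₂ hk x := by
    obtain ⟨𝒰, γ, hγ⟩ := GalDescent.SplitCover.exists_galCover N k₁.left k₂.left (congrArg (fun m => m.left) hk)
    obtain ⟨i, y, rfl⟩ := 𝒰.exists_eq x
    haveI : IsOpenImmersion (𝒰.f i) := 𝒰.map_prop i
    refine ⟨(𝒰.f i).opensRange, (γ i)⁻¹, ⟨y, rfl⟩, Over.OverMorphism.ext ?_⟩
    show (𝒰.f i).opensRange.ι ≫ k₁.left ≫ GalTw.specMap N (γ i)⁻¹⁻¹ = (𝒰.f i).opensRange.ι ≫ k₂.left
    rw [inv_inv, ← cancel_epi (𝒰.f i).isoOpensRange.hom, ← Category.assoc, ← Category.assoc,
      Scheme.Hom.isoOpensRange_hom_ι, ← Category.assoc (𝒰.f i).isoOpensRange.hom, Scheme.Hom.isoOpensRange_hom_ι]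
    exact (hγ i).symm

theorem ν_etale : Etale (ν N str).left :=
  HasRingHomProperty.Spec_iff.2 (RingHom.etale_algebraMap.2 { finitePresentation := Algebra.FinitePresentation.of_finiteType.mp inferInstance, formallyEtale := Algebra.FormallyEtale.of_isSeparable k N })

theorem ν_surjective : Surjective (ν N str).left :=
  ⟨fun _ => ⟨IsLocalRing.closedPoint N, @Subsingleton.elim (PrimeSpectrum k) _ _ _⟩⟩

omit N in
/-- A field point of a stack lifts to an affine chart over a finite Galois extension. -/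
theorem exists_galois_point {𝒳 : AlgSt.Cat S} (h𝒳 : IsFibGrpd 𝒳.p) {U₀ : Over S}
    {u₀ : overCat U₀ ⥤ᵇ 𝒳} (hs : RepByAlgSpWith (AlgSp.LocP @Smooth) u₀)
    (hsurj : RepByAlgSpWith AlgSp.IsSurjectiveMor u₀) (x : overCat (Over.mk str) ⥤ᵇ 𝒳) :
    ∃ (V : U₀.left.affineOpens) (N : IntermediateField k (SeparableClosure k)) (_ : FiniteDimensional k N)
      (_ : IsGalois k N) (a : nObj N str ⟶ sub V.1),
      Nonempty (BasedFunctor.comp (overMap (ν N str)) x ≅
        BasedFunctor.comp (overMap a) (BasedFunctor.comp (overMap (subι V.1)) u₀)) := by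
  obtain ⟨W, c, l, w, -, -, ⟨ec⟩, ⟨el⟩, -, hc, hc', -, -, -⟩ :=
    ChartLift.exists_chart h𝒳 x (a := u₀) (Rep.repByAlgSp1_of_repByAlgSpWith hs)
  haveI : Smooth c.left := hc hs
  haveI : Surjective c.left := hc' hsurj
  obtain ⟨S', g, h, hg, hgs, hhg⟩ := EtaleSection.Sections.exists_etale_surjective_section c.left
  obtain ⟨s', -⟩ := g.surjective (IsLocalRing.closedPoint k)
  let L := S'.residueField s'
  let φ : CommRingCat.of k ⟶ L := Spec.preimage (S'.fromSpecResidueField s' ≫ g)
  have hφ : Spec.map φ = S'.fromSpecResidueField s' ≫ g := Spec.map_preimage _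
  letI : Algebra k L := φ.hom.toAlgebra
  have hLe : Algebra.Etale k L := by
    haveI : Etale (Spec.map (g.residueFieldMap s')) :=
      HasRingHomProperty.Spec_iff.2 (DescAlg.EtaleFibre.residueFieldMap_etale g s')
    haveI : IsIso ((Spec (CommRingCat.of k)).fromSpecResidueField (g s')) := by
      haveI : Surjective ((Spec (CommRingCat.of k)).fromSpecResidueField (g s')) :=
        ⟨fun q => ⟨default, @Subsingleton.elim (PrimeSpectrum k) _ _ _⟩⟩
      haveI : IsClosedImmersion ((Spec (CommRingCat.of k)).fromSpecResidueField (g s')) := isClosed_singleton_iff_isClosedImmersion.1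
        (show IsClosed ({g s'} : Set ↥(Spec (CommRingCat.of k))) from by
          rw [show ({g s'} : Set ↥(Spec (CommRingCat.of k))) = Set.univ from
            Set.eq_univ_iff_forall.2 fun q => Set.mem_singleton_iff.2 (@Subsingleton.elim (PrimeSpectrum k) _ _ _)]
          exact isClosed_univ)
      exact isIso_of_isClosedImmersion_of_surjective _
    have h : Etale (Spec.map φ) := by
      rw [hφ, ← Scheme.Hom.SpecMap_residueFieldMap_fromSpecResidueField]
      exact inferInstanceAs (Etale (Spec.map (g.residueFieldMap s') ≫ (Spec (CommRingCat.of k)).fromSpecResidueField (g s')))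
    exact HasRingHomProperty.Spec_iff.1 h
  haveI : Algebra.IsSeparable k L := Algebra.FormallyUnramified.isSeparable k L
  haveI : Module.Finite k L := Algebra.FormallyUnramified.finite_of_free k L
  let N : IntermediateField k (SeparableClosure k) := IntermediateField.normalClosure k L (SeparableClosure k)
  haveI hfd : FiniteDimensional k N := normalClosure.is_finiteDimensional k L (SeparableClosure k)
  haveI hgal : IsGalois k N :=
    { to_isSeparable := inferInstance, to_normal := normalClosure.normal k L (SeparableClosure k) }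
  obtain ⟨σ⟩ : Nonempty (L →ₐ[k] SeparableClosure k) := ⟨IsSepClosed.lift⟩
  let σ' : L →ₐ[k] N := AlgHom.codRestrict σ N.toSubalgebra fun l =>
    AlgHom.fieldRange_le_normalClosure σ ⟨l, rfl⟩
  let p : Spec (CommRingCat.of N) ⟶ W.left :=
    Spec.map (CommRingCat.ofHom σ'.toRingHom) ≫ S'.fromSpecResidueField s' ≫ h
  have hp : p ≫ c.left = (ν N str).left := by
    show (Spec.map _ ≫ S'.fromSpecResidueField s' ≫ h) ≫ c.left = Spec.map _
    rw [Category.assoc, Category.assoc, hhg, ← hφ, ← Spec.map_comp]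
    congr 1
    exact CommRingCat.hom_ext (RingHom.ext fun r => σ'.commutes r)
  let p' : nObj N str ⟶ W := Over.homMk p (by
    show p ≫ W.hom = (ν N str).left ≫ str
    rw [← Over.w c, ← Category.assoc, hp]; rfl)
  have hp' : p' ≫ c = ν N str := Over.OverMorphism.ext hp
  obtain ⟨V, hV, hy, -⟩ := exists_isAffineOpen_mem_and_subset (X := U₀.left)
    (x := (p' ≫ l).left (IsLocalRing.closedPoint N)) (U := ⊤) trivial
  have hr : Set.range (p' ≫ l).left ⊆ Set.range V.ι := by
    rintro _ ⟨τ, rfl⟩
    rw [Scheme.Opens.range_ι, show τ = IsLocalRing.closedPoint N from @Subsingleton.elim (PrimeSpectrum N) _ _ _]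
    exact hy
  let a : nObj N str ⟶ sub V := Over.homMk (IsOpenImmersion.lift V.ι (p' ≫ l).left hr) (by
    show _ ≫ V.ι ≫ U₀.hom = _
    rw [← Category.assoc, IsOpenImmersion.lift_fac, Over.w (p' ≫ l)])
  have ha : a ≫ subι V = p' ≫ l := Over.OverMorphism.ext (IsOpenImmersion.lift_fac _ _ _)
  refine ⟨⟨V, hV⟩, N, hfd, hgal, a, ⟨?_⟩⟩
  exact BasedBasic.isoWhiskerRight (eqToIso (congrArg overMap hp'.symm) ≪≫ (ChartLift.overMapComp p' c).symm) x ≪≫
    BasedBasic.isoWhiskerLeft (overMap p') (BasedBasic.isoWhiskerRight ec.symm x ≪≫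
      BasedBasic.isoWhiskerLeft w (FibCat.fpIso x u₀) ≪≫ BasedBasic.isoWhiskerRight el u₀) ≪≫
    BasedBasic.isoWhiskerRight (ChartLift.overMapComp p' l ≪≫ eqToIso (congrArg overMap ha.symm) ≪≫
      (ChartLift.overMapComp a (subι V)).symm) u₀

end Groth.Agent.Lib.HensChart.GaloisPoint
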