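import Groth.Agent.Lib.HensChart.TupleAction
import Groth.Agent.Lib.HensChart.GaloisPoint

/-!
# The tuple of Galois conjugates of a point of a chart
-/

set_option autoImplicit false
set_option backward.isDefEq.respectTransparency false
set_option backward.isDefEq.respectTransparency.types false
set_option linter.style.haveILetI false

universe u

open CategoryTheory CategoryTheory.Limits AlgebraicGeometry

namespace Groth.Agent.Lib.HensChart.GaloisTuple

open Lib.AlgStack Lib.AlgStack.BasedBasic StackTuples TupleAction GaloisPoint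
open Lib.Fibred.Descent (ext_lift exists_factor exists_fromFiber)
open FibCat (IsFibGrpd overCat)
open AlgSt (overMap ofSp)
open AlgSp (yon)

variable {S : Scheme.{u}} {𝒳 : AlgSt.Cat S} (h𝒳 : IsFibGrpd 𝒳.p) {U : Over S} {uc : overCat U ⥤ᵇ 𝒳}
  {k : Type u} [Field k] {str : Spec (CommRingCat.of k) ⟶ S} (N : IntermediateField k (SeparableClosure k))
  (x : overCat (Over.mk str) ⥤ᵇ 𝒳)

theorem map_isHomLift {T : Over S} (y : overCat T ⥤ᵇ 𝒳) {A B : Over T} (φ : A ⟶ B) :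
    𝒳.p.IsHomLift φ.left (y.map φ) :=
  haveI : (overCat T).p.IsHomLift φ.left φ := IsHomLift.map (overCat T).p φ
  inferInstance

/-- The base point `Spec N ⟶ Spec k`. -/
noncomputable abbrev xf (str : Spec (CommRingCat.of k) ⟶ S) : Over (Over.mk str) :=
  (overMap (ν N str)).obj (Over.mk (𝟙 (nObj N str)))

/-- The Galois action on the base point. -/
noncomputable def galX (g : N ≃ₐ[k] N) : xf N str ⟶ xf N str :=
  Over.homMk (gal N str g) (by
    show gal N str g ≫ 𝟙 _ ≫ ν N str = 𝟙 _ ≫ ν N str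
    rw [Category.id_comp, gal_ν])

theorem galX_mul (g h : N ≃ₐ[k] N) : galX N (str := str) (g * h) = galX N h ≫ galX N g :=
  Over.OverMorphism.ext (gal_mul N g h)

theorem isIso_galX (g : N ≃ₐ[k] N) : IsIso (galX N (str := str) g) :=
  ⟨galX N g⁻¹, by rw [← galX_mul, inv_mul_cancel]; exact Over.OverMorphism.ext (gal_one N),
    by rw [← galX_mul, mul_inv_cancel]; exact Over.OverMorphism.ext (gal_one N)⟩

include h𝒳 in
/-- The Galois conjugates of a point form an equivariant tuple. -/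
theorem exists_galois_tuple (a : nObj N str ⟶ U)
    (ψ : BasedFunctor.comp (overMap (ν N str)) x ≅ BasedFunctor.comp (overMap a) uc)
    {n : ℕ} (e : Fin (n + 1) ≃ (N ≃ₐ[k] N)) :
    ∃ (tN : overCat (nObj N str) ⥤ᵇ TupCat uc (Fin (n + 1)))
      (R : ∀ f : Over (nObj N str), (tN.obj f).y ⟶ x.obj (xf N str)),
      (∀ f, 𝒳.p.IsHomLift f.hom (R f)) ∧
      (∀ {f' f : Over (nObj N str)} (φ : f' ⟶ f), (tN.map φ).f ≫ R f = R f') ∧
      (∀ (f : Over (nObj N str)) (i : Fin (n + 1)), co tN f i = f.hom ≫ gal N str (e i) ≫ a) ∧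
      (∀ (g : N ≃ₐ[k] N), Nonempty (BasedFunctor.comp (overMap (gal N str g)) tN ≅
        BasedFunctor.comp tN (reindex uc (shift e g)))) ∧
      ∀ (g : N ≃ₐ[k] N) {f' f : Over (nObj N str)} (m : f'.left ⟶ f.left) (_ : f'.hom ≫ gal N str g = m ≫ f.hom)
        (K : reindexObj (shift e g) (tN.obj f') ⟶ tN.obj f), (TupCat uc (Fin (n + 1))).p.IsHomLift m K →
        K.f ≫ R f = R f' ≫ x.map (galX N g) := by
  let T := nObj N str
  let uf : Over U := (overMap a).obj (Over.mk (𝟙 T))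
  let y : 𝒳.obj := x.obj (xf N str)
  have hy : 𝒳.p.obj y = T := x.w_obj (xf N str)
  let φ₁ : uc.obj uf ⟶ y := (appIso ψ (Over.mk (𝟙 T))).inv
  have hφ₁ : 𝒳.p.IsHomLift (𝟙 T) φ₁ :=
    haveI : 𝒳.p.IsHomLift (𝟙 T) (appIso ψ (Over.mk (𝟙 T))).hom := appIso_isHomLift ψ (Over.mk (𝟙 T))
    IsHomLift.lift_id_inv 𝒳.p T (appIso ψ (Over.mk (𝟙 T)))
  let X : (N ≃ₐ[k] N) → (y ⟶ y) := fun g => x.map (galX N g)
  have hXm : ∀ g h, X (g * h) = X h ≫ X g := fun g h => by
    show x.map _ = x.map _ ≫ x.map _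
    rw [galX_mul, x.toFunctor.map_comp]
  have hXi : ∀ g, IsIso (X g) := fun g => @Functor.map_isIso _ _ _ _ _ _ x.toFunctor (galX N g) (isIso_galX N g)
  have hXl : ∀ g, 𝒳.p.map (X g) = eqToHom hy ≫ gal N str g ≫ eqToHom hy.symm := fun g => by
    haveI := map_isHomLift x (galX N (str := str) g)
    exact IsHomLift.fac' 𝒳.p (galX N (str := str) g).left (X g)
  let av : Fin (n + 1) → (𝒳.p.obj y ⟶ U) := fun i => eqToHom hy ≫ gal N str (e i) ≫ uf.hom
  let mv : ∀ i, Over.mk (av i) ⟶ uf := fun i => Over.homMk (eqToHom hy ≫ gal N str (e i)) (by simp [av, uf])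
  have hφ : ∀ i, 𝒳.p.IsHomLift (𝟙 (𝒳.p.obj y)) (@CategoryStruct.comp _ _ _ _ _ (uc.map (mv i) ≫ φ₁)
      (@inv _ _ _ _ (X (e i)) (hXi _))) := fun i => by
    haveI := hXi (e i)
    haveI : (overCat U).p.IsHomLift (eqToHom hy ≫ gal N str (e i)) (mv i) := IsHomLift.map (overCat U).p (mv i)
    haveI : 𝒳.p.IsHomLift (eqToHom hy ≫ gal N str (e i)) (uc.map (mv i) ≫ φ₁) := inferInstance
    refine IsHomLift.of_fac' _ _ _ (uc.w_obj (Over.mk (av i))) rfl ?_
    rw [Functor.map_comp, IsHomLift.fac' 𝒳.p (eqToHom hy ≫ gal N str (e i)) (uc.map (mv i) ≫ φ₁), Functor.map_inv,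
      IsIso.comp_inv_eq, hXl]
    simp
  let t : Tup uc (Fin (n + 1)) :=
    ⟨y, av, fun i => haveI := hXi (e i); (uc.map (mv i) ≫ φ₁) ≫ inv (X (e i)), hφ⟩
  have ht : (TupCat uc (Fin (n + 1))).p.obj t = T := hy
  have hK : ∀ g, ∃ K : reindexObj (shift e g) t ⟶ t, K.f = X g ∧
      (TupCat uc (Fin (n + 1))).p.IsHomLift (gal N str g) K := fun g => by
    have hsh : ∀ i, e (shift e g i) = e i * g := fun i => by simp [shift]
    have ha : ∀ i, 𝒳.p.map (X g) ≫ av i = av (shift e g i) := fun i => by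
      show _ ≫ eqToHom hy ≫ gal N str (e i) ≫ uf.hom = eqToHom hy ≫ gal N str (e (shift e g i)) ≫ uf.hom
      rw [hXl, hsh, gal_mul]
      simp
    refine ⟨⟨X g, ha, fun i => ?_⟩, rfl, IsHomLift.of_fac' _ _ _ hy ht (hXl g)⟩
    haveI := hXi g
    haveI := hXi (e i)
    haveI := hXi (e (shift e g i))
    have hm : (Over.homMk (𝒳.p.map (X g)) (ha i) : Over.mk (av (shift e g i)) ⟶ Over.mk (av i)) ≫ mv i =
        mv (shift e g i) := by
      refine Over.OverMorphism.ext ?_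
      show 𝒳.p.map (X g) ≫ eqToHom hy ≫ gal N str (e i) = eqToHom hy ≫ gal N str (e (shift e g i))
      rw [hXl, hsh, gal_mul]
      simp
    show uc.map _ ≫ (uc.map (mv i) ≫ φ₁) ≫ inv (X (e i)) =
      ((uc.map (mv (shift e g i)) ≫ φ₁) ≫ inv (X (e (shift e g i)))) ≫ X g
    have hX : inv (X (e (shift e g i))) ≫ X g = inv (X (e i)) := by
      rw [IsIso.inv_comp_eq, IsIso.eq_comp_inv]
      rw [hsh, hXm]
    rw [Category.assoc _ _ (X g), hX, ← Category.assoc, ← Category.assoc, ← uc.toFunctor.map_comp, hm]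
  choose K hKf hKl using hK
  have hgT := grpd_tup (uc := uc) (ι := Fin (n + 1)) h𝒳
  obtain ⟨tN, e₀, he₀⟩ := exists_fromFiber hgT ht
  let P : ∀ f : Over T, tN.obj f ⟶ t := fun f => tN.map (Lib.Fibred.Yoneda.toId f) ≫ e₀.hom
  have hP : ∀ f : Over T, (TupCat uc (Fin (n + 1))).p.IsHomLift f.hom (P f) := fun f => by
    haveI := Lib.Fibred.Descent.toId_map_isHomLift tN f
    haveI := he₀
    infer_instance
  have hPnat : ∀ {f' f : Over T} (φ : f' ⟶ f), tN.map φ ≫ P f = P f' := fun {f' f} φ => by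
    show _ ≫ tN.map _ ≫ e₀.hom = tN.map _ ≫ e₀.hom
    rw [← Category.assoc, ← tN.toFunctor.map_comp, Lib.Fibred.Yoneda.toId_naturality]
  refine ⟨tN, fun f => (P f).f, fun f => lift_f (P f) f.hom (hP f),
    fun φ => congrArg Tup.Hom.f (hPnat φ), fun f i => ?_, fun g => ?_, fun g f' f m hm K' hK' => ?_⟩
  · have h1 : 𝒳.p.map (P f).f = eqToHom (tN.w_obj f) ≫ f.hom ≫ eqToHom hy.symm :=
      @IsHomLift.fac' _ _ _ _ (TupCat uc (Fin (n + 1))).p _ _ _ _ f.hom (P f) (hP f)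
    rw [co, ← (P f).ha i, h1]
    show eqToHom _ ≫ (eqToHom _ ≫ f.hom ≫ eqToHom _) ≫ eqToHom hy ≫ gal N str (e i) ≫ uf.hom = _
    simp [uf]
    exact congrArg (fun z => f.hom ≫ gal N str (e i) ≫ z) (Category.id_comp a)
  · let o₁ := tN.obj (Over.mk (𝟙 T ≫ gal N str g))
    let o₂ := (reindex uc (shift e g)).obj (tN.obj (Over.mk (𝟙 T)))
    let p₁ : o₁ ⟶ t := P (Over.mk (𝟙 T ≫ gal N str g))
    let p₂ : o₂ ⟶ t := (reindex uc (shift e g)).map (P (Over.mk (𝟙 T))) ≫ K g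
    have hp₁ : (TupCat uc (Fin (n + 1))).p.IsHomLift (gal N str g) p₁ := by
      have := hP (Over.mk (𝟙 T ≫ gal N str g))
      simpa using this
    have hp₂ : (TupCat uc (Fin (n + 1))).p.IsHomLift (gal N str g) p₂ := by
      have := hP (Over.mk (𝟙 T))
      have h2 : (TupCat uc (Fin (n + 1))).p.IsHomLift (𝟙 T) ((reindex uc (shift e g)).map (P (Over.mk (𝟙 T)))) := by
        haveI : (TupCat uc (Fin (n + 1))).p.IsHomLift (𝟙 T) (P (Over.mk (𝟙 T))) := this
        infer_instance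
      haveI := hKl g
      haveI := h2
      exact IsHomLift.comp_lift_id_left' _ T _ (gal N str g) (K g)
    obtain ⟨v, hv, -⟩ := exists_factor hgT p₂ hp₂ p₁ hp₁
    haveI := hv
    haveI := isIso_of_isHomLift_id hgT (R := T) v
    exact ⟨Lib.Fibred.Yoneda.extendIso (Lib.Fibred.Yoneda.cartAt_of_grpd hgT _)
      (Lib.Fibred.Yoneda.cartAt_of_grpd hgT _) (asIso v) hv⟩
  · let k₁ : reindexObj (shift e g) (tN.obj f') ⟶ t := K' ≫ P f
    let k₂ : reindexObj (shift e g) (tN.obj f') ⟶ t := (reindex uc (shift e g)).map (P f') ≫ K g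
    haveI := hP f
    haveI := hP f'
    haveI := hK'
    haveI := hKl g
    have h2 : (TupCat uc (Fin (n + 1))).p.IsHomLift f'.hom ((reindex uc (shift e g)).map (P f')) := inferInstance
    have hb : 𝒳.p.map k₁.f = 𝒳.p.map k₂.f :=
      base_eq (m := m ≫ f.hom) (m' := f'.hom ≫ gal N str g) hm.symm k₁.f k₂.f
        (lift_f k₁ _ (inferInstance : (TupCat uc (Fin (n + 1))).p.IsHomLift (m ≫ f.hom) (K' ≫ P f)))
        (lift_f k₂ _ (inferInstance : (TupCat uc (Fin (n + 1))).p.IsHomLift (f'.hom ≫ gal N str g)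
          ((reindex uc (shift e g)).map (P f') ≫ K g)))
    refine (f_eq h𝒳 0 rfl k₁ k₂ hb).trans ?_
    show (P f').f ≫ (K g).f = _
    rw [hKf g]

end Groth.Agent.Lib.HensChart.GaloisTuple
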