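import Groth.Agent.Lib.HensChart.Field
import Groth.Agent.S0536
import Groth.Agent.Lib.Henselian.Basic

/-!
# Henselian points lift to affine etale charts
-/

set_option autoImplicit false
set_option backward.isDefEq.respectTransparency false
set_option backward.isDefEq.respectTransparency.types false
set_option linter.style.haveILetI false

universe u

open CategoryTheory CategoryTheory.Limits AlgebraicGeometry
open AlgSp Groth.Agent.Lib.AlgSpace

namespace Groth.Agent.Lib.HensChart

variable {S : Scheme.{u}} {X : Sp S}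

/-- The morphism from the spectrum of a quotient. -/
noncomputable abbrev quotι {R : Type u} [CommRing R] (I : Ideal R) (str : Spec (CommRingCat.of R) ⟶ S) :
    Over.mk (Spec.map (CommRingCat.ofHom (Ideal.Quotient.mk I)) ≫ str) ⟶ Over.mk str :=
  Over.homMk (Spec.map (CommRingCat.ofHom (Ideal.Quotient.mk I))) rfl

/-- A smooth affine scheme over a Henselian pair has sections through every section mod the ideal. -/
theorem exists_section {R : Type u} [CommRing R] {I : Ideal R} [HenselianRing R I] {E : Scheme.{u}}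
    (π : E ⟶ Spec (CommRingCat.of R)) [Smooth π] [IsAffine E]
    (s₀ : Spec (CommRingCat.of (R ⧸ I)) ⟶ E)
    (h : s₀ ≫ π = Spec.map (CommRingCat.ofHom (Ideal.Quotient.mk I))) :
    ∃ s : Spec (CommRingCat.of R) ⟶ E, s ≫ π = 𝟙 _ ∧
      Spec.map (CommRingCat.ofHom (Ideal.Quotient.mk I)) ≫ s = s₀ := by
  let φ : CommRingCat.of R ⟶ Γ(E, ⊤) := Spec.preimage (E.isoSpec.inv ≫ π)
  have hφ : Spec.map φ = E.isoSpec.inv ≫ π := Spec.map_preimage _
  let ψ : Γ(E, ⊤) ⟶ CommRingCat.of (R ⧸ I) := Spec.preimage (s₀ ≫ E.isoSpec.hom)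
  have hψ : Spec.map ψ = s₀ ≫ E.isoSpec.hom := Spec.map_preimage _
  letI : Algebra R Γ(E, ⊤) := φ.hom.toAlgebra
  haveI : Algebra.Smooth R Γ(E, ⊤) := by
    have : Smooth (Spec.map φ) := by rw [hφ]; infer_instance
    exact HasRingHomProperty.Spec_iff.1 this
  have hc : φ ≫ ψ = CommRingCat.ofHom (Ideal.Quotient.mk I) :=
    Spec.map_injective (by rw [Spec.map_comp, hφ, hψ, Category.assoc, Iso.hom_inv_id_assoc, h])
  let σ : Γ(E, ⊤) →ₐ[R] R ⧸ I :=
    { ψ.hom with commutes' := fun r => congrArg (fun m => (CommRingCat.Hom.hom m) r) hc }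
  obtain ⟨τ, hτ⟩ := Groth.Agent.S0536.result R Γ(E, ⊤) R I σ
  have h1 : φ ≫ CommRingCat.ofHom τ.toRingHom = 𝟙 _ :=
    CommRingCat.hom_ext (RingHom.ext fun r => τ.commutes r)
  have h2 : CommRingCat.ofHom τ.toRingHom ≫ CommRingCat.ofHom (Ideal.Quotient.mk I) = ψ :=
    CommRingCat.hom_ext (RingHom.ext fun r => congrArg (fun m : Γ(E, ⊤) →ₐ[R] R ⧸ I => m r) hτ)
  refine ⟨Spec.map (CommRingCat.ofHom τ.toRingHom) ≫ E.isoSpec.inv, ?_, ?_⟩
  · rw [Category.assoc, ← hφ, ← Spec.map_comp, h1, Spec.map_id]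
  · rw [← Category.assoc, ← Spec.map_comp, h2, hψ, Category.assoc, Iso.hom_inv_id, Category.comp_id]

/-- The version with an affine neighbourhood of the image of the closed point. -/
theorem exists_section_local {R : Type u} [CommRing R] [HenselianLocalRing R] {E : Scheme.{u}}
    (π : E ⟶ Spec (CommRingCat.of R)) [Smooth π]
    (s₀ : Spec (CommRingCat.of (IsLocalRing.ResidueField R)) ⟶ E)
    (h : s₀ ≫ π = Spec.map (CommRingCat.ofHom (IsLocalRing.residue R))) :
    ∃ s : Spec (CommRingCat.of R) ⟶ E, s ≫ π = 𝟙 _ ∧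
      Spec.map (CommRingCat.ofHom (IsLocalRing.residue R)) ≫ s = s₀ := by
  obtain ⟨V, hV, hm, -⟩ := exists_isAffineOpen_mem_and_subset (X := E)
    (x := s₀ (IsLocalRing.closedPoint (IsLocalRing.ResidueField R))) (U := ⊤) trivial
  have hr : Set.range s₀ ⊆ Set.range V.ι := by
    rintro _ ⟨τ, rfl⟩
    rw [Scheme.Opens.range_ι, show τ = IsLocalRing.closedPoint (IsLocalRing.ResidueField R) from
      @Subsingleton.elim (PrimeSpectrum (IsLocalRing.ResidueField R)) _ _ _]
    exact hm
  haveI : IsAffine (V : Scheme.{u}) := hV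
  obtain ⟨s, hs, hs'⟩ := exists_section (I := IsLocalRing.maximalIdeal R) (V.ι ≫ π)
    (IsOpenImmersion.lift V.ι s₀ hr) ((IsOpenImmersion.lift_fac_assoc _ _ _ _).trans h)
  refine ⟨s ≫ V.ι, by rw [Category.assoc, hs], ?_⟩
  rw [← Category.assoc]
  exact (congrArg (· ≫ V.ι) hs').trans (IsOpenImmersion.lift_fac _ _ _)

/-- A representable smooth map lifts Henselian points through lifts of the residue point. -/
theorem exists_lift_henselian {R : Type u} [CommRing R] [HenselianLocalRing R]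
    {str : Spec (CommRingCat.of R) ⟶ S} (z : (yon S).obj (Over.mk str) ⟶ X) {Z : Over S}
    {pZ : (yon S).obj Z ⟶ X} (hp : RepWith @Smooth pZ)
    (g₀ : Over.mk (Spec.map (CommRingCat.ofHom (IsLocalRing.residue R)) ≫ str) ⟶ Z)
    (h : (yon S).map g₀ ≫ pZ = (yon S).map (quotι (IsLocalRing.maximalIdeal R) str) ≫ z) :
    ∃ g : Over.mk str ⟶ Z, (yon S).map g ≫ pZ = z ∧ quotι (IsLocalRing.maximalIdeal R) str ≫ g = g₀ := by
  have sq := hp.1.isPullback z
  obtain ⟨e, he⟩ := (yon S).map_surjective (hp.1.fst z)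
  rw [← he] at sq
  haveI : Smooth (hp.1.snd z).left := repWith_property hp sq
  obtain ⟨c, hc⟩ := (yon S).map_surjective (sq.lift ((yon S).map g₀) _ h)
  have hc1 : c ≫ e = g₀ := (yon S).map_injective (by rw [Functor.map_comp, hc, sq.lift_fst])
  have hc2 : c ≫ hp.1.snd z = quotι (IsLocalRing.maximalIdeal R) str :=
    (yon S).map_injective (by rw [Functor.map_comp, hc, sq.lift_snd])
  obtain ⟨s, hs, hs'⟩ := exists_section_local (hp.1.snd z).left c.left (congrArg (fun m => m.left) hc2)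
  let s' : Over.mk str ⟶ hp.1.pullback z := Over.homMk s (by
    rw [← Over.w (hp.1.snd z), reassoc_of% hs])
  refine ⟨s' ≫ e, ?_, ?_⟩
  · rw [Functor.map_comp, Category.assoc, sq.w, ← Category.assoc, ← Functor.map_comp,
      show s' ≫ hp.1.snd z = 𝟙 _ from Over.OverMorphism.ext hs, CategoryTheory.Functor.map_id, Category.id_comp]
  · rw [← hc1, ← Category.assoc]
    congr 1
    exact Over.OverMorphism.ext hs'

theorem repWith_smooth_of_etale {Y : Sp S} {f : Y ⟶ X} (h : RepWith @Etale f) : RepWith @Smooth f :=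
  repWith_mono h fun _ _ g (_ : Etale g) => inferInstanceAs (Smooth g)

/-- Henselian points lie on affine etale charts. -/
theorem exists_affine_chart (hX : IsAlgSpace X) {R : Type u} [CommRing R] [HenselianLocalRing R]
    {str : Spec (CommRingCat.of R) ⟶ S} (z : (yon S).obj (Over.mk str) ⟶ X) :
    ∃ (Z : Over S) (pZ : (yon S).obj Z ⟶ X) (g : Over.mk str ⟶ Z),
      IsAffine Z.left ∧ RepWith @Etale pZ ∧ (yon S).map g ≫ pZ = z := by
  obtain ⟨Z, pZ, g₀, hZ, hp, hg₀⟩ := exists_affine_chart_field hX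
    (k := IsLocalRing.ResidueField R) ((yon S).map (quotι (IsLocalRing.maximalIdeal R) str) ≫ z)
  obtain ⟨g, hg, -⟩ := exists_lift_henselian z (repWith_smooth_of_etale hp) g₀ hg₀
  exact ⟨Z, pZ, g, hZ, hp, hg⟩

end Groth.Agent.Lib.HensChart
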