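import Groth.Agent.Lib.HensChart.Lift
import Groth.Agent.Lib.HensChart.Coprod
import Groth.Agent.Lib.AlgSpace.Coprod
import Groth.Agent.Lib.Unram.SmoothBranches

/-!
# Charts lifting all points of quotients of a Henselian local ring
-/

set_option autoImplicit false
set_option backward.isDefEq.respectTransparency false
set_option backward.isDefEq.respectTransparency.types false
set_option linter.style.haveILetI false

universe u

open CategoryTheory CategoryTheory.Limits AlgebraicGeometry
open AlgSp Groth.Agent.Lib.AlgSpace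

namespace Groth.Agent.Lib.HensChart

variable {S : Scheme.{u}} {X : Sp S}

/-- A separated etale chart through all field points. -/
theorem exists_universal_chart (hX : IsAlgSpace X) :
    ∃ (Z : Over S) (pZ : (yon S).obj Z ⟶ X), IsSeparated Z.hom ∧ RepWith @Etale pZ ∧
      ∀ {k : Type u} [Field k] (str : Spec (CommRingCat.of k) ⟶ S)
        (z₀ : (yon S).obj (Over.mk str) ⟶ X), ∃ g : Over.mk str ⟶ Z, (yon S).map g ≫ pZ = z₀ := by
  obtain ⟨U₀, a, ha, hs⟩ := hX.atlas
  let p : ∀ j : U₀.left.affineOpens, (yon S).obj (FreeAct.sub j.1) ⟶ X := fun j =>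
    (yon S).map (FreeAct.subι j.1) ≫ a
  have hp : ∀ j, RepWith @Etale (p j) := fun j =>
    haveI : Etale (FreeAct.subι j.1).left := inferInstanceAs (Etale j.1.ι)
    AlgSpMor.LocP.repWith_etale_comp _ ha
  have hD : ∀ j n, Nonempty (Multi (p j) n) := fun j n =>
    haveI : IsAffine (FreeAct.sub j.1).left := j.2
    exists_multi _ hX (hp j) n
  let D := fun j n => (hD j n).some
  let Q := fun j n => (exists_quot hX (hp j) (D j n)).some
  let T : (Σ (j : U₀.left.affineOpens) (n : ℕ), (Q j n).M.left.affineOpens) → Over S := fun t =>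
    FreeAct.sub (T := (Q t.1 t.2.1).M) t.2.2.1
  obtain ⟨pZ, hpZ, -⟩ := existsUnique_sigmaOver_desc T fun t =>
    (yon S).map (FreeAct.subι t.2.2.1) ≫ (Q t.1 t.2.1).pM
  have het : RepWith @Etale pZ := by
    refine repWith_of_inj (isColimitSigmaOver T) @Etale fun t => ?_
    show RepWith @Etale ((yon S).map (sigmaOverι T t) ≫ pZ)
    rw [hpZ t]
    haveI : Etale (FreeAct.subι t.2.2.1).left := inferInstanceAs (Etale t.2.2.1.ι)
    exact AlgSpMor.LocP.repWith_etale_comp _ (Q _ _).etale
  haveI : ∀ t, IsSeparated (T t).hom := fun t => by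
    haveI : IsAffine (T t).left := t.2.2.2
    haveI : IsSeparated ((T t).hom ≫ terminal.from S) := by
      rw [terminal.comp_from]
      infer_instance
    exact IsSeparated.of_comp (T t).hom (terminal.from S)
  refine ⟨sigmaOver T, pZ, isSeparated_sigmaDesc _, het, fun {k} _ str z₀ => ?_⟩
  obtain ⟨j, E, e, π, sq, ⟨x⟩⟩ := exists_piece hX hs z₀
  obtain ⟨n, hn⟩ := exists_quot_lift (hp j) sq x
  obtain ⟨g, hg⟩ := hn (D j n) (Q j n)
  obtain ⟨V, hV, hm, -⟩ := exists_isAffineOpen_mem_and_subset (X := (Q j n).M.left)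
    (x := g.left (IsLocalRing.closedPoint k)) (U := ⊤) trivial
  have hgV : Set.range g.left ⊆ Set.range V.ι := by
    rintro _ ⟨τ, rfl⟩
    rw [Scheme.Opens.range_ι, show τ = IsLocalRing.closedPoint k from @Subsingleton.elim (PrimeSpectrum k) _ _ _]
    exact hm
  let t : Σ (j : U₀.left.affineOpens) (n : ℕ), (Q j n).M.left.affineOpens := ⟨j, n, ⟨V, hV⟩⟩
  let g' : Over.mk str ⟶ T t := Over.homMk (IsOpenImmersion.lift V.ι g.left hgV) (by
    show _ ≫ V.ι ≫ (Q j n).M.hom = str
    rw [← Category.assoc, IsOpenImmersion.lift_fac]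
    exact Over.w g)
  refine ⟨g' ≫ sigmaOverι T t, ?_⟩
  rw [Functor.map_comp, Category.assoc, hpZ t, ← Category.assoc, ← Functor.map_comp,
    show g' ≫ FreeAct.subι V = g from Over.OverMorphism.ext (IsOpenImmersion.lift_fac _ _ _), hg]

/-- Lifting residue points gives lifts of all points of quotients. -/
theorem exists_lift_quotient {R : Type u} [CommRing R] [HenselianLocalRing R]
    (str : Spec (CommRingCat.of R) ⟶ S) {Z : Over S} {pZ : (yon S).obj Z ⟶ X} (hp : RepWith @Etale pZ)
    (hres : ∀ z₀ : (yon S).obj (Over.mk (Spec.map (CommRingCat.ofHom (IsLocalRing.residue R)) ≫ str)) ⟶ X,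
      ∃ g₀ : Over.mk (Spec.map (CommRingCat.ofHom (IsLocalRing.residue R)) ≫ str) ⟶ Z,
        (yon S).map g₀ ≫ pZ = z₀)
    (a : Ideal R)
    (x : (yon S).obj (Over.mk (Spec.map (CommRingCat.ofHom (Ideal.Quotient.mk a)) ≫ str)) ⟶ X) :
    ∃ g : Over.mk (Spec.map (CommRingCat.ofHom (Ideal.Quotient.mk a)) ≫ str) ⟶ Z,
      (yon S).map g ≫ pZ = x := by
  by_cases ha : a = ⊤
  · haveI : Subsingleton (R ⧸ a) := Ideal.Quotient.subsingleton_iff.2 ha
    haveI : IsEmpty ↥(Over.mk (Spec.map (CommRingCat.ofHom (Ideal.Quotient.mk a)) ≫ str)).left :=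
      inferInstanceAs (IsEmpty (PrimeSpectrum (R ⧸ a)))
    haveI := subsingleton_yon_hom_of_isEmpty X (Over.mk (Spec.map (CommRingCat.ofHom (Ideal.Quotient.mk a)) ≫ str))
    exact ⟨Over.homMk (isInitialOfIsEmpty.to Z.left) (isInitialOfIsEmpty.hom_ext _ _), Subsingleton.elim _ _⟩
  haveI : Nontrivial (R ⧸ a) := Ideal.Quotient.nontrivial_iff.2 ha
  haveI : IsLocalRing (R ⧸ a) :=
    IsLocalRing.of_surjective' (Ideal.Quotient.mk a) Ideal.Quotient.mk_surjective
  haveI := Lib.Unram.SmoothBranches.henselianLocalRing_quotient R a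
  haveI : IsLocalHom (Ideal.Quotient.mk a) := .of_surjective _ Ideal.Quotient.mk_surjective
  let θ : IsLocalRing.ResidueField R →+* IsLocalRing.ResidueField (R ⧸ a) :=
    IsLocalRing.ResidueField.map (Ideal.Quotient.mk a)
  have hθ : Function.Bijective θ := ⟨θ.injective, fun c => by
    obtain ⟨c, rfl⟩ := IsLocalRing.residue_surjective c
    obtain ⟨c, rfl⟩ := Ideal.Quotient.mk_surjective c
    exact ⟨IsLocalRing.residue R c, rfl⟩⟩
  let e := RingEquiv.ofBijective θ hθ
  let strA := Spec.map (CommRingCat.ofHom (Ideal.Quotient.mk a)) ≫ str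
  let ι := Spec.map (CommRingCat.ofHom e.symm.toRingHom)
  have hι : ι ≫ Spec.map (CommRingCat.ofHom (IsLocalRing.residue (R ⧸ a))) ≫ strA =
      Spec.map (CommRingCat.ofHom (IsLocalRing.residue R)) ≫ str := by
    simp only [ι, strA, ← Category.assoc, ← Spec.map_comp]
    congr 2
    refine CommRingCat.hom_ext (RingHom.ext fun r => ?_)
    exact e.symm_apply_apply (IsLocalRing.residue R r)
  let d : Over.mk (Spec.map (CommRingCat.ofHom (IsLocalRing.residue R)) ≫ str) ⟶
      Over.mk (Spec.map (CommRingCat.ofHom (IsLocalRing.residue (R ⧸ a))) ≫ strA) := Over.homMk ι hι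
  let d' : Over.mk (Spec.map (CommRingCat.ofHom (IsLocalRing.residue (R ⧸ a))) ≫ strA) ⟶
      Over.mk (Spec.map (CommRingCat.ofHom (IsLocalRing.residue R)) ≫ str) :=
    Over.homMk (Spec.map (CommRingCat.ofHom e.toRingHom)) (by
      show Spec.map (CommRingCat.ofHom e.toRingHom) ≫ Spec.map (CommRingCat.ofHom (IsLocalRing.residue R)) ≫ str =
        Spec.map (CommRingCat.ofHom (IsLocalRing.residue (R ⧸ a))) ≫ strA
      rw [← hι, ← Category.assoc, ← Spec.map_comp, ← CommRingCat.ofHom_comp,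
        show e.toRingHom.comp e.symm.toRingHom = RingHom.id _ from RingHom.ext e.apply_symm_apply,
        CommRingCat.ofHom_id, Spec.map_id, Category.id_comp])
  have hdd : d' ≫ d = 𝟙 _ := Over.OverMorphism.ext (by
    show Spec.map (CommRingCat.ofHom e.toRingHom) ≫ ι = 𝟙 _
    rw [← Spec.map_comp, ← CommRingCat.ofHom_comp,
      show e.toRingHom.comp e.symm.toRingHom = RingHom.id _ from RingHom.ext e.apply_symm_apply,
      CommRingCat.ofHom_id, Spec.map_id])
  obtain ⟨g₀, hg₀⟩ := hres ((yon S).map d ≫ (yon S).map (quotι (IsLocalRing.maximalIdeal (R ⧸ a)) strA) ≫ x)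
  obtain ⟨g, hg, -⟩ := exists_lift_henselian (R := R ⧸ a) (str := strA) x (repWith_smooth_of_etale hp) (d' ≫ g₀) (by
    rw [Functor.map_comp, Category.assoc, hg₀]
    exact (Category.assoc _ _ _).symm.trans ((congrArg (· ≫ _) (((yon S).map_comp d' d).symm.trans
      ((congrArg (fun m => (yon S).map m) hdd).trans ((yon S).map_id _)))).trans (Category.id_comp _)))
  exact ⟨g, hg⟩

end Groth.Agent.Lib.HensChart
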