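import Groth.Agent.Lib.HensChart.ChartPoint
import Groth.Agent.Lib.AlgSpace.Local
import Groth.Agent.Lib.Fibred.StackFibres

/-!
# Gluing functors to a stack on a disjoint union of schemes
-/

set_option autoImplicit false
set_option backward.isDefEq.respectTransparency false
set_option backward.isDefEq.respectTransparency.types false

universe u

open CategoryTheory CategoryTheory.Limits AlgebraicGeometry

namespace Groth.Agent.Lib.HensChart.SigmaGlue

open Lib.AlgStack.BasedBasic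
open Lib.AlgSpace (sigmaOver sigmaOverι sigmaOverι_mem_J bot_mem_J)
open Lib.Fibred.Descent (exists_factor ext_lift exists_lift isStackFor_iff)
open FibCat (overCat)
open AlgSt (overMap)

variable {S : Scheme.{u}} {𝒳 : AlgSt.Cat S}

/-- Over an empty scheme every morphism of schemes lifts uniquely. -/
theorem exists_unique_lift_of_isEmpty (h𝒳 : Stk.IsStack (AlgSp.J S) 𝒳) {T T' : Over S} [IsEmpty ↥T.left]
    (m : T ⟶ T') {ξ η : 𝒳.obj} (hξ : 𝒳.p.obj ξ = T) (hη : 𝒳.p.obj η = T') :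
    ∃! k : ξ ⟶ η, 𝒳.p.IsHomLift m k := by
  have hg := h𝒳.1
  obtain ⟨hSep, hGlue, -⟩ := (isStackFor_iff hg).1 (h𝒳.2 ⊥ (bot_mem_J T))
  obtain ⟨z, ψ, hψ⟩ := exists_lift hg hη m
  have hz : 𝒳.p.obj z = T := by haveI := hψ; exact IsHomLift.domain_eq 𝒳.p m ψ
  obtain ⟨θ, hθ, -⟩ := hGlue hξ hz (fun V f hf => absurd hf (by exact id))
    ⟨fun V f hf => absurd hf (by exact id), fun V f hf => absurd hf (by exact id)⟩
  refine ⟨θ ≫ ψ, IsHomLift.comp_lift_id_left' 𝒳.p T θ m ψ, fun k hk => ?_⟩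
  obtain ⟨θ', hθ', rfl⟩ := exists_factor hg ψ hψ k hk
  rw [hSep θ' θ hθ' hθ fun V f hf => absurd hf (by exact id)]

variable (h𝒳 : Stk.IsStack (AlgSp.J S) 𝒳) {I : Type u} {Z : I → Over S} (p : ∀ i, overCat (Z i) ⥤ᵇ 𝒳)

/-- The object of a point of a component. -/
noncomputable abbrev X {i : I} {T : Over S} (g : T ⟶ Z i) : 𝒳.obj := (p i).obj (Over.mk g)

theorem X_proj {i : I} {T : Over S} (g : T ⟶ Z i) : 𝒳.p.obj (X p g) = T :=
  (p i).w_obj (Over.mk g)

variable {p} in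
theorem isEmpty_of_ne {i j : I} {T T' : Over S} (g : T ⟶ Z i) (g' : T' ⟶ Z j) (m : T ⟶ T')
    (h : m ≫ g' ≫ sigmaOverι Z j = g ≫ sigmaOverι Z i) (hij : i ≠ j) : IsEmpty ↥T.left :=
  isEmpty_of_commSq_sigmaι_of_ne
    ⟨show g.left ≫ Sigma.ι (fun i => (Z i).left) i = (m.left ≫ g'.left) ≫ Sigma.ι (fun i => (Z i).left) j from
      (congrArg (fun k => k.left) h.symm).trans (Category.assoc _ _ _).symm⟩ hij

theorem eq_of_comp_ι {i : I} {T : Over S} (g g' : T ⟶ Z i) (h : g' ≫ sigmaOverι Z i = g ≫ sigmaOverι Z i) :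
    g' = g :=
  Over.OverMorphism.ext ((cancel_mono (Sigma.ι (fun i => (Z i).left) i)).1 (congrArg (fun k => k.left) h))

/-- A morphism of a slice. -/
abbrev up {i : I} {T T' : Over S} {g : T ⟶ Z i} {g' : T' ⟶ Z i} (m : T ⟶ T') (e : m ≫ g' = g) :
    Over.mk g ⟶ Over.mk g' :=
  Over.homMk m e

open scoped Classical in
/-- The morphism between points of the components over a morphism. -/
noncomputable def mor {i j : I} {T T' : Over S} (g : T ⟶ Z i) (g' : T' ⟶ Z j) (m : T ⟶ T')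
    (h : m ≫ g' ≫ sigmaOverι Z j = g ≫ sigmaOverι Z i) : X p g ⟶ X p g' :=
  if hij : i = j then
    by
      subst hij
      exact (p i).map (up m (eq_of_comp_ι g (m ≫ g') (by rw [Category.assoc]; exact h)))
  else
    haveI := isEmpty_of_ne g g' m h hij
    (exists_unique_lift_of_isEmpty h𝒳 m (X_proj p g) (X_proj p g')).choose

theorem mor_self {i : I} {T T' : Over S} (g : T ⟶ Z i) (g' : T' ⟶ Z i) (m : T ⟶ T')
    (h : m ≫ g' ≫ sigmaOverι Z i = g ≫ sigmaOverι Z i) (φ : Over.mk g ⟶ Over.mk g') (hφ : φ.left = m) :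
    mor h𝒳 p g g' m h = (p i).map φ := by
  rw [mor, dif_pos rfl]
  exact congrArg (p i).map (Over.OverMorphism.ext hφ.symm)

theorem mor_lifts {i j : I} {T T' : Over S} (g : T ⟶ Z i) (g' : T' ⟶ Z j) (m : T ⟶ T')
    (h : m ≫ g' ≫ sigmaOverι Z j = g ≫ sigmaOverι Z i) : 𝒳.p.IsHomLift m (mor h𝒳 p g g' m h) := by
  by_cases hij : i = j
  · subst hij
    have e := eq_of_comp_ι g (m ≫ g') (by rw [Category.assoc]; exact h)
    rw [mor_self h𝒳 p g g' m h (up m e) rfl]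
    exact GaloisTuple.map_isHomLift (p i) (up m e)
  · rw [mor, dif_neg hij]
    haveI := isEmpty_of_ne g g' m h hij
    exact (exists_unique_lift_of_isEmpty h𝒳 m (X_proj p g) (X_proj p g')).choose_spec.1

theorem mor_id {i : I} {T : Over S} (g : T ⟶ Z i) (h : 𝟙 T ≫ g ≫ sigmaOverι Z i = g ≫ sigmaOverι Z i) :
    mor h𝒳 p g g (𝟙 T) h = 𝟙 _ :=
  (mor_self h𝒳 p g g (𝟙 T) h (𝟙 (Over.mk g)) rfl).trans ((p i).toFunctor.map_id _)

theorem mor_comp {i j l : I} {T T' T'' : Over S} (g : T ⟶ Z i) (g' : T' ⟶ Z j) (g'' : T'' ⟶ Z l)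
    (m : T ⟶ T') (m' : T' ⟶ T'') (n : T ⟶ T'') (hn : m ≫ m' = n)
    (h : m ≫ g' ≫ sigmaOverι Z j = g ≫ sigmaOverι Z i)
    (h' : m' ≫ g'' ≫ sigmaOverι Z l = g' ≫ sigmaOverι Z j)
    (h'' : n ≫ g'' ≫ sigmaOverι Z l = g ≫ sigmaOverι Z i) :
    mor h𝒳 p g g' m h ≫ mor h𝒳 p g' g'' m' h' = mor h𝒳 p g g'' n h'' := by
  subst hn
  by_cases hT : IsEmpty ↥T.left
  · haveI := mor_lifts h𝒳 p g g' m h
    haveI := mor_lifts h𝒳 p g' g'' m' h'
    exact (exists_unique_lift_of_isEmpty h𝒳 (m ≫ m') (X_proj p g) (X_proj p g'')).unique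
      inferInstance (mor_lifts h𝒳 p g g'' (m ≫ m') h'')
  have hij : i = j := by_contra fun e => hT (isEmpty_of_ne g g' m h e)
  have hT' : ¬ IsEmpty ↥T'.left := fun e => hT m.left.base.hom.1.isEmpty
  have hjl : j = l := by_contra fun e => hT' (isEmpty_of_ne g' g'' m' h' e)
  subst hij hjl
  have e := eq_of_comp_ι g (m ≫ g') (by rw [Category.assoc]; exact h)
  have e' := eq_of_comp_ι g' (m' ≫ g'') (by rw [Category.assoc]; exact h')
  rw [mor_self h𝒳 p g g' m h (up m e) rfl, mor_self h𝒳 p g' g'' m' h' (up m' e') rfl,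
    mor_self h𝒳 p g g'' (m ≫ m') h'' (up m e ≫ up m' e') rfl, Functor.map_comp]

include h𝒳 in
/-- Functors on the components glue. -/
theorem exists_glue : ∃ q : overCat (sigmaOver Z) ⥤ᵇ 𝒳,
    ∀ i, Nonempty (BasedFunctor.comp (overMap (sigmaOverι Z i)) q ≅ p i) := by
  let R := Sieve.ofArrows Z (sigmaOverι Z)
  have hmem : ∀ a : (Stk.sieveCat R).obj, ∃ (i : I) (g : a.obj.left ⟶ Z i), a.obj.hom = g ≫ sigmaOverι Z i :=
    fun a => (Sieve.mem_ofArrows_iff _ _ _).1 a.property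
  choose j g hg using hmem
  have hcond : ∀ {a b : (Stk.sieveCat R).obj} (m : a ⟶ b),
      m.hom.left ≫ g b ≫ sigmaOverι Z (j b) = g a ≫ sigmaOverι Z (j a) := fun {a b} m => by
    rw [← hg, ← hg]; exact Over.w m.hom
  let H : Stk.sieveCat R ⥤ᵇ 𝒳 :=
    { toFunctor :=
        { obj := fun a => X p (g a)
          map := fun {a b} m => mor h𝒳 p (g a) (g b) m.hom.left (hcond m)
          map_id := fun a => mor_id h𝒳 p (g a) (hcond (𝟙 a))
          map_comp := fun {a b c} m n => (mor_comp h𝒳 p (g a) (g b) (g c) m.hom.left n.hom.left _ rfl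
            (hcond m) (hcond n) (hcond (m ≫ n))).symm }
      w := by
        refine CategoryTheory.Functor.ext (fun a => X_proj p (g a)) fun a b m => ?_
        haveI := mor_lifts h𝒳 p (g a) (g b) m.hom.left (hcond m)
        exact IsHomLift.fac' 𝒳.p m.hom.left (mor h𝒳 p (g a) (g b) m.hom.left (hcond m)) }
  haveI : (Stk.resSieve R 𝒳).EssSurj := (h𝒳.2 R (sigmaOverι_mem_J Z)).essSurj
  refine ⟨(Stk.resSieve R 𝒳).objPreimage H, fun i => ⟨?_⟩⟩
  let at' : ∀ f : Over (Z i), (Stk.sieveCat R).obj := fun f =>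
    ⟨Over.mk (f.hom ≫ sigmaOverι Z i), (Sieve.mem_ofArrows_iff _ _ _).2 ⟨i, f.hom, rfl⟩⟩
  let Φ : overCat (Z i) ⥤ᵇ Stk.sieveCat R :=
    { toFunctor :=
        { obj := at'
          map := fun {f f'} φ => ObjectProperty.homMk (Over.homMk φ.left
            (by show φ.left ≫ f'.hom ≫ sigmaOverι Z i = f.hom ≫ sigmaOverι Z i; rw [Over.w_assoc]))
          map_id := fun f => rfl
          map_comp := fun φ φ' => rfl }
      w := rfl }
  have hat : ∀ f : Over (Z i), g (at' f) ≫ sigmaOverι Z (j (at' f)) = f.hom ≫ sigmaOverι Z i :=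
    fun f => (hg (at' f)).symm
  have hl : ∀ f : Over (Z i), 𝟙 _ ≫ f.hom ≫ sigmaOverι Z i = g (at' f) ≫ sigmaOverι Z (j (at' f)) :=
    fun f => (Category.id_comp _).trans (hat f).symm
  have hr : ∀ f : Over (Z i), 𝟙 _ ≫ g (at' f) ≫ sigmaOverι Z (j (at' f)) = f.hom ≫ sigmaOverι Z i :=
    fun f => (Category.id_comp _).trans (hat f)
  let e : BasedFunctor.comp Φ H ≅ p i := BasedNatIso.mkNatIso
    (NatIso.ofComponents (fun f =>
      { hom := mor h𝒳 p (g (at' f)) f.hom (𝟙 _) (hl f)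
        inv := mor h𝒳 p f.hom (g (at' f)) (𝟙 _) (hr f)
        hom_inv_id := (mor_comp h𝒳 p (g (at' f)) f.hom (g (at' f)) (𝟙 _) (𝟙 _) (𝟙 _) (Category.comp_id _)
          (hl f) (hr f) (Category.id_comp _)).trans (mor_id h𝒳 p _ _)
        inv_hom_id := (mor_comp h𝒳 p f.hom (g (at' f)) f.hom (𝟙 _) (𝟙 _) (𝟙 _) (Category.comp_id _)
          (hr f) (hl f) (Category.id_comp _)).trans (mor_id h𝒳 p _ _) })
      fun {f f'} φ => by
        show mor h𝒳 p (g (at' f)) (g (at' f')) φ.left (hcond (Φ.map φ)) ≫ mor h𝒳 p (g (at' f')) f'.hom (𝟙 _) (hl f') =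
          mor h𝒳 p (g (at' f)) f.hom (𝟙 _) (hl f) ≫ (p i).map φ
        have hφ : φ.left ≫ f'.hom ≫ sigmaOverι Z i = g (at' f) ≫ sigmaOverι Z (j (at' f)) := by
          rw [Over.w_assoc, hat]
        have hφ' : φ.left ≫ f'.hom ≫ sigmaOverι Z i = f.hom ≫ sigmaOverι Z i := by rw [Over.w_assoc]
        rw [← mor_self h𝒳 p f.hom f'.hom φ.left hφ' φ rfl,
          mor_comp h𝒳 p (g (at' f)) (g (at' f')) f'.hom φ.left (𝟙 _) φ.left (Category.comp_id _) _ _ hφ,
          mor_comp h𝒳 p (g (at' f)) f.hom f'.hom (𝟙 _) φ.left φ.left (Category.id_comp _) _ _ hφ])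
    (fun f => mor_lifts h𝒳 p (g (at' f)) f.hom (𝟙 _) (hl f))
  exact (eqToIso rfl : BasedFunctor.comp (overMap (sigmaOverι Z i)) ((Stk.resSieve R 𝒳).objPreimage H) ≅
      BasedFunctor.comp Φ (BasedFunctor.comp (Stk.sieveIncl R) ((Stk.resSieve R 𝒳).objPreimage H))) ≪≫
    isoWhiskerLeft Φ ((Stk.resSieve R 𝒳).objObjPreimageIso H) ≪≫ e

end Groth.Agent.Lib.HensChart.SigmaGlue
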