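import Groth.Agent.Lib.HensChart.ChartSum
import Groth.Agent.Lib.HensChart.SigmaGlue
import Groth.Agent.Lib.HensChart.Coprod
import Groth.Agent.Lib.Unram.SmoothBranches
import Mathlib.RingTheory.LocalRing.ResidueField.Basic

/-!
# A separated smooth chart lifting all quotient points of a Henselian ring
-/

set_option autoImplicit false
set_option backward.isDefEq.respectTransparency false
set_option backward.isDefEq.respectTransparency.types false
set_option linter.style.haveILetI false

universe u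

open CategoryTheory CategoryTheory.Limits AlgebraicGeometry

namespace Groth.Agent.Lib.HensChart.SeparatedChart

open Lib.AlgStack Lib.AlgStack.BasedBasic
open Lib.AlgSpace (sigmaOver sigmaOverι bot_mem_J)
open FibCat (overCat)
open AlgSt (overMap RepByAlgSpWith IsAlgStack)
open AlgSp (LocP)

variable {S : Scheme.{u}} {𝒵 : AlgSt.Cat S}

/-- Over an empty scheme all objects are isomorphic. -/
theorem nonempty_iso_of_isEmpty (h : Stk.IsStack (AlgSp.J S) 𝒵) {T : Over S} [IsEmpty ↥T.left]
    (F G : overCat T ⥤ᵇ 𝒵) : Nonempty (F ≅ G) := by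
  haveI : (Stk.resSieve (⊥ : Sieve T) 𝒵).IsEquivalence := h.2 ⊥ (bot_mem_J T)
  let e : (Stk.resSieve (⊥ : Sieve T) 𝒵).obj F ≅ (Stk.resSieve (⊥ : Sieve T) 𝒵).obj G :=
    BasedNatIso.mkNatIso (NatIso.ofComponents (fun a => absurd a.property (by exact id))
      (fun {a b} m => absurd a.property (by exact id))) (fun a => absurd a.property (by exact id))
  exact ⟨(Stk.resSieve (⊥ : Sieve T) 𝒵).preimageIso e⟩

/-- One separated smooth chart lifts all quotient points of a Henselian local ring. -/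
theorem exists_separated_chart (h𝒵 : IsAlgStack Scheme.fppfPrecoverage 𝒵)
    (R : Type u) [CommRing R] [HenselianLocalRing R] (str : Spec (CommRingCat.of R) ⟶ S) :
    ∃ (Z : Over S) (p : overCat Z ⥤ᵇ 𝒵), IsSeparated Z.hom ∧ RepByAlgSpWith (LocP @Smooth) p ∧
      ∀ (a : Ideal R) (x : overCat (Over.mk (Spec.map (CommRingCat.ofHom (Ideal.Quotient.mk a)) ≫ str)) ⥤ᵇ 𝒵),
        ∃ g : Over.mk (Spec.map (CommRingCat.ofHom (Ideal.Quotient.mk a)) ≫ str) ⟶ Z,
          Nonempty (BasedFunctor.comp (overMap g) p ≅ x) := by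
  let str₀ := Spec.map (CommRingCat.ofHom (IsLocalRing.residue R)) ≫ str
  obtain ⟨I, c, hc⟩ := FieldPoint.exists_small_index h𝒵.isStack Topologies.fine_fppf
    Topologies.hasEtaleCovers_fppf h𝒵.atlas (k := IsLocalRing.ResidueField R) str₀
  let J := {i : I // ∃ x, c x = i}
  choose rep hrep using fun j : J => j.2
  choose Z hZ p m hp hm using fun j : J => FieldPoint.exists_chart_field h𝒵.isStack Topologies.fine_fppf
    Topologies.hasEtaleCovers_fppf h𝒵.diag h𝒵.atlas (rep j)
  obtain ⟨q, hq⟩ := SigmaGlue.exists_glue h𝒵.isStack p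
  have hqs : RepByAlgSpWith (LocP @Smooth) q :=
    ChartSum.repByAlgSpWith_of_open_cover (Diag.repByAlgSp1_diag_iff.1 h𝒵.diag _ q) Z (sigmaOverι Z)
      (fun j => inferInstanceAs (IsOpenImmersion (Sigma.ι (fun j => (Z j).left) j)))
      (fun x => by
        obtain ⟨j, z, hz⟩ := (sigmaOpenCover (fun j => (Z j).left)).exists_eq x
        exact ⟨j, z, hz⟩)
      (fun j => Rep.repByAlgSpWith_of_iso (hq j).some.symm (hp j))
  refine ⟨sigmaOver Z, q, ?_, hqs, fun a x => ?_⟩
  · haveI : ∀ j, IsSeparated (Z j).hom := fun j => by haveI := hZ j; infer_instance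
    exact isSeparated_sigmaDesc fun j => (Z j).hom
  let T := Over.mk (Spec.map (CommRingCat.ofHom (Ideal.Quotient.mk a)) ≫ str)
  by_cases ha : a = ⊤
  · haveI : Subsingleton (R ⧸ a) := Ideal.Quotient.subsingleton_iff.2 ha
    haveI : IsEmpty ↥T.left := inferInstanceAs (IsEmpty (PrimeSpectrum (R ⧸ a)))
    exact ⟨Over.homMk (isInitialOfIsEmpty.to _) (isInitialOfIsEmpty.hom_ext _ _),
      nonempty_iso_of_isEmpty h𝒵.isStack _ x⟩
  haveI : Nontrivial (R ⧸ a) := Ideal.Quotient.nontrivial_iff.mpr ha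
  haveI : IsLocalRing (R ⧸ a) := IsLocalRing.of_surjective' (Ideal.Quotient.mk a) Ideal.Quotient.mk_surjective
  haveI : HenselianLocalRing (R ⧸ a) := Lib.Unram.SmoothBranches.henselianLocalRing_quotient R a
  haveI : IsLocalHom (Ideal.Quotient.mk a) :=
    IsLocalHom.of_surjective (Ideal.Quotient.mk a) Ideal.Quotient.mk_surjective
  let f : IsLocalRing.ResidueField R →+* IsLocalRing.ResidueField (R ⧸ a) :=
    IsLocalRing.ResidueField.map (Ideal.Quotient.mk a)
  have hf : Function.Bijective f := by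
    refine ⟨f.injective, fun y => ?_⟩
    obtain ⟨z, rfl⟩ := IsLocalRing.residue_surjective y
    obtain ⟨r, rfl⟩ := Ideal.Quotient.mk_surjective z
    exact ⟨IsLocalRing.residue R r, IsLocalRing.ResidueField.map_residue _ r⟩
  let res' := ChartPoint.res (R ⧸ a) (Spec.map (CommRingCat.ofHom (Ideal.Quotient.mk a)) ≫ str)
  let T₀' := Over.mk (Spec.map (CommRingCat.ofHom (IsLocalRing.residue (R ⧸ a))) ≫
    Spec.map (CommRingCat.ofHom (Ideal.Quotient.mk a)) ≫ str)
  let lam : T₀' ⟶ Over.mk str₀ := Over.homMk (Spec.map (CommRingCat.ofHom f)) (by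
    show Spec.map _ ≫ Spec.map _ ≫ str = Spec.map _ ≫ Spec.map _ ≫ str
    rw [← Category.assoc, ← Category.assoc, ← Spec.map_comp, ← Spec.map_comp]
    congr 2)
  haveI : IsIso lam.left := by
    haveI : IsIso (CommRingCat.ofHom f) := (ConcreteCategory.isIso_iff_bijective _).2 hf
    exact inferInstanceAs (IsIso (Spec.map (CommRingCat.ofHom f)))
  haveI : IsIso lam := by
    haveI : IsIso ((Over.forget S).map lam) := ‹IsIso lam.left›
    exact isIso_of_reflects_iso lam (Over.forget S)
  let y := BasedFunctor.comp (overMap (inv lam ≫ res')) x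
  let j : J := ⟨c y, y, rfl⟩
  obtain ⟨e₁⟩ := hc (rep j) y (hrep j)
  obtain ⟨e₂⟩ := hm j
  obtain ⟨e₃⟩ := hq j
  let μ := lam ≫ m j ≫ sigmaOverι Z j
  have key : Nonempty (BasedFunctor.comp (overMap μ) q ≅ BasedFunctor.comp (overMap res') x) :=
    ⟨(BasedBasic.isoWhiskerRight ((ChartLift.overMapComp lam _).symm ≪≫
          BasedBasic.isoWhiskerLeft (overMap lam) (ChartLift.overMapComp (m j) (sigmaOverι Z j)).symm) q :
        BasedFunctor.comp (overMap μ) q ≅
          BasedFunctor.comp (overMap lam) (BasedFunctor.comp (overMap (m j)) (BasedFunctor.comp (overMap (sigmaOverι Z j)) q))) ≪≫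
      BasedBasic.isoWhiskerLeft (overMap lam) (BasedBasic.isoWhiskerLeft (overMap (m j)) e₃ ≪≫ e₂ ≪≫ e₁) ≪≫
      BasedBasic.isoWhiskerRight (ChartLift.overMapComp lam (inv lam ≫ res') ≪≫
        eqToIso (congrArg overMap (IsIso.hom_inv_id_assoc lam res'))) x⟩
  obtain ⟨g, -, hg⟩ := ChartPoint.exists_chart_lift hqs (R ⧸ a)
    (Spec.map (CommRingCat.ofHom (Ideal.Quotient.mk a)) ≫ str) x μ key
  exact ⟨g, hg⟩

end Groth.Agent.Lib.HensChart.SeparatedChart
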