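import Groth.Agent.Lib.HensChart.ChartPoint
import Groth.Agent.H14.Chart.QC2
import Groth.Agent.H14.Chart.OpenSmooth
import Groth.Agent.Lib.AlgSpMor.RelNorm.Str
import Groth.Agent.Lib.Unram.SmoothBranches
import Groth.Agent.Lib.Henselian.Basic

/-!
# Charts of smooth stacks are smooth over the base
-/

set_option autoImplicit false
set_option backward.isDefEq.respectTransparency false
set_option backward.isDefEq.respectTransparency.types false

universe u

open CategoryTheory CategoryTheory.Limits AlgebraicGeometry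

namespace Groth.Agent.Lib.HensChart.SmoothSource

open Lib.AlgStack Lib.AlgStack.BasedBasic
open Groth.Agent.H14.Chart
open FibCat (overCat toSelf selfOver)
open AlgSt (overMap RepByAlgSpWith IsAlgStack)
open AlgSp (Sp yon IsAlgSpace LocP)

variable {S : Scheme.{u}}

/-- A smooth chart of a smooth stack is smooth over the base. -/
theorem smooth_chart {𝒵 : AlgSt.Cat S} (h𝒵 : IsAlgStack Scheme.fppfPrecoverage 𝒵)
    (hsm : AlgSt.LocQ (LocP @Smooth) (toSelf 𝒵)) {Z : Over S} {p : overCat Z ⥤ᵇ 𝒵}
    (hp : RepByAlgSpWith (LocP @Smooth) p) : Smooth Z.hom := by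
  have h := LocQ.rep_chart_comp_locP LocQ.smoothST OpenSmooth.isSmoothLocalST_smooth le_rfl h𝒵
    QC2.isAlgStack_selfOver hsm hp
  let k : Z ⟶ Over.mk (𝟙 S) := Over.homMk Z.hom (Category.comp_id _)
  have h' : RepByAlgSpWith (LocP @Smooth) (overMap k) :=
    (Rep.repByAlgSpWith_iff_of_isEquivOver (f := BasedFunctor.comp p (toSelf 𝒵)) (f' := overMap k)
      BasedBasic.isEquivOver_id (IsAlgFp.isEquivOver_toSelf_overCat Over.mkIdTerminal)
      (eqToIso ((QC2.eq_toSelf _).trans (QC2.eq_toSelf _).symm))).1 h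
  exact Lib.AlgSpMor.RelNorm.smooth_of_locP_yon_map k
    (LocQ.prop_of_rep_overMap (IsAlgFp.respectsIsoSp_locP LocQ.smoothST) (IsAlgFp.detected_locP LocQ.smoothST) h')

end Groth.Agent.Lib.HensChart.SmoothSource
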