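import Groth.Agent.Lib.HensChart.GaloisTuple
import Groth.Agent.Lib.HensChart.FamPow
import Groth.Agent.Lib.HensChart.FreeQuot
import Groth.Agent.Lib.HensChart.Field
import Groth.Agent.Lib.AlgSpFpqc.SourceClasses

/-!
# A smooth affine chart through a field point of a stack

Starting from a point of a chart over a finite Galois extension: the quotient of the free locus of the
configurations of conjugate points by the Galois group descends the chart to the given field.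
-/

set_option autoImplicit false
set_option backward.isDefEq.respectTransparency false
set_option backward.isDefEq.respectTransparency.types false
set_option linter.style.haveILetI false

universe u

open CategoryTheory CategoryTheory.Limits AlgebraicGeometry

namespace Groth.Agent.Lib.HensChart.StackChart

open Lib.AlgStack Lib.AlgStack.BasedBasic StackTuples TupleAction GaloisPoint GaloisTuple
open TorsorDescent (Torsor Lin Fine map_lifts)
open Lib.Fibred.Descent (ext_lift exists_factor)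
open FreeAct (sub subι)
open FibCat (IsFibGrpd overCat)
open AlgSt (ofSp ofSpMap ofOverCat toOverCat overMap RepByAlgSp1 RepByAlgSpWith)
open AlgSp (yon Sp RepWith)

variable {S : Scheme.{u}}

/-- Pasting three squares. -/
theorem comp_eq_of_squares {C : Type*} [Category C] {A B D E A' B' D' E' : C} (a : A' ⟶ A) (c : A ⟶ B) (b : B ⟶ D)
    (d : D ⟶ E) (c' : A' ⟶ B') (b' : B' ⟶ D') (d' : D' ⟶ E') (a₂ : B' ⟶ B) (a₃ : D' ⟶ D) (a₄ : E' ⟶ E)
    (h₁ : a ≫ c = c' ≫ a₂) (h₂ : a₂ ≫ b = b' ≫ a₃) (h₃ : a₃ ≫ d = d' ≫ a₄) :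
    a ≫ c ≫ b ≫ d = (c' ≫ b' ≫ d') ≫ a₄ := by
  rw [reassoc_of% h₁, reassoc_of% h₂, h₃]
  simp only [Category.assoc]

/-- An etale surjective morphism of schemes as a representable functor. -/
theorem repByAlgSpWith_overMap_cover {A B : Over S} (q : A ⟶ B) (hqe : Etale q.left) (hqs : Surjective q.left) :
    RepByAlgSpWith AlgSp.IsEtaleMor (overMap q) ∧ RepByAlgSpWith AlgSp.IsSurjectiveMor (overMap q) := by
  have he : RepWith @Etale ((yon S).map q) := (AlgSp.repWith_yon_map_iff _ q).2 hqe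
  have hs : RepWith @Surjective ((yon S).map q) := (AlgSp.repWith_yon_map_iff _ q).2 hqs
  haveI : (BasedFunctor.id (overCat A)).toFunctor.Full := inferInstanceAs (𝟭 _).Full
  refine ⟨?_, ?_⟩ <;>
    refine (Rep.repByAlgSpWith_iff_of_isEquivOver (f := overMap q)
      (f' := BasedFunctor.comp (ofOverCat A) (ofSpMap ((yon S).map q)))
      (BasedBasic.isEquivOver_id (𝒳 := overCat A)) (Rep.isEquivOver_toOverCat B) (Iso.refl _)).2 ?_
  · exact IsAlg.repByAlgSpWith_atlas he hs fun _ _ r hr _ => IsAlg.isEtaleMor hr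
  · exact IsAlg.repByAlgSpWith_atlas he hs fun _ _ r _ hr => AlgSpace.surjective_map hr

/-- A topology containing the etale surjections. -/
def HasEtaleCovers (J : GrothendieckTopology (Over S)) : Prop :=
  ∀ ⦃A B : Over S⦄ (q : A ⟶ B), Etale q.left → Surjective q.left →
    Sieve.ofArrows (fun _ : PUnit.{u + 1} => A) (fun _ => q) ∈ J B

variable {J : GrothendieckTopology (Over S)} {𝒳 : AlgSt.Cat S}

/-- Compatible comparisons on the torsor give the comparison below. -/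
theorem nonempty_iso_of_compat (h𝒳 : Stk.IsStack J 𝒳) (hJ : Fine J) (hEt : HasEtaleCovers J)
    {k : Type u} [Field k] {str : Spec (CommRingCat.of k) ⟶ S} (x : overCat (Over.mk str) ⥤ᵇ 𝒳)
    (N : IntermediateField k (SeparableClosure k)) [FiniteDimensional k N] [IsGalois k N]
    {W M : Over S} {t : Torsor W M (N ≃ₐ[k] N)} {x' : overCat W ⥤ᵇ 𝒳} {L : Lin t x'}
    (w₀ : nObj N str ⟶ W) (hw₀g : ∀ g, gal N str g ≫ w₀ = w₀ ≫ t.d g)
    (m : Over.mk str ⟶ M) (hm : ν N str ≫ m = w₀ ≫ t.q) (y : overCat M ⥤ᵇ 𝒳)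
    (β : ∀ f : Over W, y.obj (Over.mk (f.hom ≫ t.q)) ⟶ x'.obj f)
    (hβ : ∀ f, 𝒳.p.IsHomLift (𝟙 f.left) (β f))
    (hβnat : ∀ {f' f : Over W} (g : N ≃ₐ[k] N) (m : f'.left ⟶ f.left) (h : f'.hom ≫ t.d g = m ≫ f.hom)
        (φ : Over.mk (f'.hom ≫ t.q) ⟶ Over.mk (f.hom ≫ t.q)), φ.left = m → y.map φ ≫ β f = β f' ≫ L.θ g m h)
    (D : ∀ f : Over (nObj N str), x'.obj (Over.mk (f.hom ≫ w₀)) ⟶ x.obj (Over.mk (f.hom ≫ ν N str)))
    (hD : ∀ f, 𝒳.p.IsHomLift (𝟙 f.left) (D f))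
    (hDnat : ∀ (g : N ≃ₐ[k] N) {f' f : Over (nObj N str)} (m' : f'.left ⟶ f.left)
      (_ : f'.hom ≫ gal N str g = m' ≫ f.hom) (h' : (f'.hom ≫ w₀) ≫ t.d g = m' ≫ f.hom ≫ w₀)
      (φ : Over.mk (f'.hom ≫ ν N str) ⟶ Over.mk (f.hom ≫ ν N str)), φ.left = m' →
      L.θ (f' := Over.mk (f'.hom ≫ w₀)) (f := Over.mk (f.hom ≫ w₀)) g m' h' ≫ D f = D f' ≫ x.map φ) :
    Nonempty (BasedFunctor.comp (overMap m) y ≅ x) := by
  let T := nObj N str
  have hν : Sieve.ofArrows (fun _ : PUnit.{u + 1} => T) (fun _ => ν N str) ∈ J (Over.mk str) :=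
    hEt (ν N str) (ν_etale N) (ν_surjective N)
  let can : ∀ f : Over T, Over.mk ((f.hom ≫ ν N str) ≫ m) ⟶ Over.mk ((f.hom ≫ w₀) ≫ t.q) := fun f =>
    Over.homMk (𝟙 f.left) (by
      show 𝟙 f.left ≫ (f.hom ≫ w₀) ≫ t.q = (f.hom ≫ ν N str) ≫ m
      rw [Category.id_comp, Category.assoc, Category.assoc, hm])
  obtain ⟨Φ⟩ := TorsorDescent.nonempty_iso_of_pullback h𝒳 hJ (galTorsor N) hν (BasedFunctor.comp (overMap m) y) x
    (fun f => y.map (can f) ≫ β (Over.mk (f.hom ≫ w₀)) ≫ D f)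
    (fun f => by
      haveI : 𝒳.p.IsHomLift (𝟙 f.left) (y.map (can f)) := GaloisTuple.map_isHomLift y (can f)
      haveI : 𝒳.p.IsHomLift (𝟙 f.left) (β (Over.mk (f.hom ≫ w₀))) := hβ (Over.mk (f.hom ≫ w₀))
      haveI : 𝒳.p.IsHomLift (𝟙 f.left) (D f) := hD f
      exact IsHomLift.comp_lift_id_left' 𝒳.p f.left _ (𝟙 f.left) (β (Over.mk (f.hom ≫ w₀)) ≫ D f))
    (fun {f' f} g m' h φ hφ => by
      have h' : (f'.hom ≫ w₀) ≫ t.d g = m' ≫ f.hom ≫ w₀ := by
        rw [Category.assoc, ← hw₀g, ← Category.assoc]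
        exact (congrArg (· ≫ w₀) h).trans (Category.assoc _ _ _)
      let φ' : Over.mk ((f'.hom ≫ w₀) ≫ t.q) ⟶ Over.mk ((f.hom ≫ w₀) ≫ t.q) := Over.homMk m' (by
        show m' ≫ (f.hom ≫ w₀) ≫ t.q = (f'.hom ≫ w₀) ≫ t.q
        rw [← Category.assoc, ← h', Category.assoc, t.dq])
      let φm : Over.mk ((f'.hom ≫ ν N str) ≫ m) ⟶ Over.mk ((f.hom ≫ ν N str) ≫ m) := Over.homMk φ.left (by
        show φ.left ≫ (f.hom ≫ ν N str) ≫ m = (f'.hom ≫ ν N str) ≫ m
        rw [← Category.assoc]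
        exact congrArg (· ≫ m) (Over.w φ))
      have hc : φm ≫ can f = can f' ≫ φ' := Over.OverMorphism.ext (by
        show φ.left ≫ 𝟙 _ = 𝟙 _ ≫ m'
        rw [Category.comp_id, Category.id_comp, hφ])
      have hφm : (overMap m).map φ = φm := Over.OverMorphism.ext rfl
      exact (congrArg (fun q => y.map q ≫ _) hφm).trans
        (comp_eq_of_squares (y.map φm) (y.map (can f)) (β (Over.mk (f.hom ≫ w₀))) (D f) (y.map (can f'))
          (β (Over.mk (f'.hom ≫ w₀))) (D f') (y.map φ') _ (x.map φ)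
          ((y.toFunctor.map_comp φm (can f)).symm.trans ((congrArg y.map hc).trans (y.toFunctor.map_comp (can f') φ')))
          (hβnat (f' := Over.mk (f'.hom ≫ w₀)) (f := Over.mk (f.hom ≫ w₀)) g m' h' φ' rfl) (hDnat g m' h h' φ hφ)))
  exact ⟨Φ⟩

section Family

variable {U : Over S} {uc : overCat U ⥤ᵇ 𝒳} {n : ℕ} {G : Type u} [Group G] {P : AlgSp.Space S}
  {eT : ofSp P.obj ⥤ᵇ TupCat uc (Fin (n + 1))} {eT' : TupCat uc (Fin (n + 1)) ⥤ᵇ ofSp P.obj}

/-- An equivariant family of tuples linearises its common image. -/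
theorem exists_lin (hg : IsFibGrpd 𝒳.p) (ε : BasedFunctor.comp eT' eT ≅ BasedFunctor.id (TupCat uc (Fin (n + 1))))
    (e : Fin (n + 1) ≃ G) {W M : Over S} (t : Torsor W M G) (qW : (yon S).obj W ⟶ P.obj)
    (hdW : ∀ g, (yon S).map (t.d g) ≫ qW = qW ≫ τ eT eT' e g) :
    ∃ L : Lin t (BasedFunctor.comp (fam eT qW) (forget uc (Fin (n + 1)))),
      ∀ {f' f : Over W} (g : G) (m : f'.left ⟶ f.left) (h : f'.hom ≫ t.d g = m ≫ f.hom),
        ∃ K : reindexObj (shift e g) ((fam eT qW).obj f') ⟶ (fam eT qW).obj f,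
          (TupCat uc (Fin (n + 1))).p.IsHomLift m K ∧ K.f = L.θ g m h := by
  let tW := fam eT qW
  let x' : overCat W ⥤ᵇ 𝒳 := BasedFunctor.comp tW (forget uc (Fin (n + 1)))
  have hgT := grpd_tup (uc := uc) (ι := Fin (n + 1)) hg
  have hθ : ∀ {f' f : Over W} (g : G) (m : f'.left ⟶ f.left), f'.hom ≫ t.d g = m ≫ f.hom →
      ∃ K : reindexObj (shift e g) (tW.obj f') ⟶ tW.obj f, (TupCat uc (Fin (n + 1))).p.IsHomLift m K := by
    intro f' f g m hm
    let κ := appIso (famShift ε e qW g (t.d g) (hdW g)) f'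
    haveI : (TupCat uc (Fin (n + 1))).p.IsHomLift (𝟙 f'.left) κ.hom :=
      appIso_isHomLift (famShift ε e qW g (t.d g) (hdW g)) f'
    haveI : (TupCat uc (Fin (n + 1))).p.IsHomLift (𝟙 f'.left) κ.inv := IsHomLift.lift_id_inv _ f'.left κ
    let φ : Over.mk (f'.hom ≫ t.d g) ⟶ f := Over.homMk m hm.symm
    haveI : (TupCat uc (Fin (n + 1))).p.IsHomLift m (tW.map φ) :=
      haveI : (overCat W).p.IsHomLift m φ := IsHomLift.map (overCat W).p φ
      inferInstance
    exact ⟨κ.inv ≫ tW.map φ, IsHomLift.comp_lift_id_left' _ f'.left κ.inv m (tW.map φ)⟩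
  choose K hK using @hθ
  let L : Lin t x' :=
    { θ := fun {f' f} g m hm => (K g m hm).f
      lifts := fun {f' f} g m hm => lift_f _ m (hK g m hm)
      comp := fun {f'' f' f} g g' m m' h h' h'' => by
        haveI := hK g m h
        haveI := hK g' m' h'
        let k₁ : reindexObj (shift e g' ) (reindexObj (shift e g) (tW.obj f'')) ⟶ tW.obj f :=
          (reindex uc (shift e g')).map (K g m h) ≫ K g' m' h'
        have hb := base_eq rfl k₁.f (K (g' * g) (m ≫ m') h'').f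
          (lift_f k₁ (m ≫ m') inferInstance) (lift_f _ _ (hK (g' * g) (m ≫ m') h''))
        exact f_eq hg (s := tW.obj f'') (ρ := shift e g ∘ shift e g') (ρ' := shift e (g' * g)) 0
          (shift_shift e g g' 0) k₁ (K (g' * g) (m ≫ m') h'') hb
      one := fun {f' f} φ hm => by
        let k₁ : reindexObj id (tW.obj f') ⟶ tW.obj f := tW.map φ
        have hl : (TupCat uc (Fin (n + 1))).p.IsHomLift φ.left (tW.map φ) :=
          haveI : (overCat W).p.IsHomLift φ.left φ := IsHomLift.map (overCat W).p φ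
          inferInstance
        have hb := base_eq rfl k₁.f (K 1 φ.left hm).f (lift_f _ _ hl) (lift_f _ _ (hK 1 φ.left hm))
        exact f_eq hg (ρ := id) (ρ' := shift e 1) 0 (by rw [shift_one]) k₁ (K 1 φ.left hm) hb }
  exact ⟨L, fun g m h => ⟨K g m h, hK g m h, rfl⟩⟩

/-- The descended functor is smooth. -/
theorem smooth_desc (hg : IsFibGrpd 𝒳.p) (hΔ : RepByAlgSp1 (FibCat.diag (FibCat.toSelf 𝒳)))
    (heT : FibCat.IsEquivOver eT) (hforget : RepByAlgSpWith (AlgSp.LocP @Smooth) (forget uc (Fin (n + 1))))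
    {W M : Over S} {qW : (yon S).obj W ⟶ P.obj} (hqW : RepWith @Etale qW) (q : W ⟶ M)
    (hqe : Etale q.left) (hqs : Surjective q.left) (y : overCat M ⥤ᵇ 𝒳)
    (hcomp : BasedFunctor.comp (overMap q) y ≅ BasedFunctor.comp (fam eT qW) (forget uc (Fin (n + 1)))) :
    RepByAlgSpWith (AlgSp.LocP @Smooth) y := by
  let x' : overCat W ⥤ᵇ 𝒳 := BasedFunctor.comp (fam eT qW) (forget uc (Fin (n + 1)))
  have hsm := SourceDescent.Scheme.smooth.{u}
  haveI : (BasedFunctor.id 𝒳).toFunctor.Full := inferInstanceAs (𝟭 𝒳.obj).Full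
  haveI : (BasedFunctor.id 𝒳).toFunctor.Faithful := inferInstanceAs (𝟭 𝒳.obj).Faithful
  have h1 : RepByAlgSpWith (AlgSp.LocP @Smooth) (BasedFunctor.comp eT (forget uc (Fin (n + 1)))) :=
    (Rep.repByAlgSpWith_iff_of_isEquivOver (f := forget uc (Fin (n + 1)))
      (f' := BasedFunctor.comp eT (forget uc (Fin (n + 1)))) heT (BasedBasic.isEquivOver_id (𝒳 := 𝒳)) (Iso.refl _)).1
      hforget
  have h2 : RepByAlgSpWith (AlgSp.LocP @Smooth) (BasedFunctor.comp (ofOverCat W) (ofSpMap qW)) :=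
    (Rep.repByAlgSpWith_iff_of_isEquivOver (f := ofSpMap qW) (f' := BasedFunctor.comp (ofOverCat W) (ofSpMap qW))
      (Rep.isEquivOver_ofOverCat W) (BasedBasic.isEquivOver_id (𝒳 := ofSp P.obj)) (Iso.refl _)).1
      (Descend.repByAlgSpWith_ofSpMap
        (fun _ _ _ _ hX₁ hY₁ _ hY₂ _ _ _ _ sq ha => AlgSpMor.LocP.locP_of_isPullback hsm hX₁ hY₁ hY₂ sq ha)
        (AlgSp.IsAlgSpace.yon_obj W) P.property (IsAlg.locP_smooth hqW))
  have hx' : RepByAlgSpWith (AlgSp.LocP @Smooth) x' :=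
    IsAlgFp.comp_locP hsm (Yoneda.isFibGrpd_overCat W)
      (IsAlg.isAlgStack_ofSp P).isStack.1 h2 h1
  obtain ⟨hce, hcs⟩ := repByAlgSpWith_overMap_cover q hqe hqs
  have hy : RepByAlgSpWith (AlgSp.LocP @Smooth) y :=
    Source.repByAlgSpWith_of_etSource (IsAlgFp.respectsIsoSp_locP hsm)
      (AlgSpFpqc.SourceClasses.of_etaleLocalST hsm) (Yoneda.isFibGrpd_overCat W) (Yoneda.isFibGrpd_overCat M)
      (Diag.repByAlgSp1_diag_iff.1 hΔ M y) hce hcs (Rep.repByAlgSpWith_of_iso hcomp.symm hx')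
  exact hy

/-- Galois invariant points descend. -/
theorem exists_point {k : Type u} [Field k] {str : Spec (CommRingCat.of k) ⟶ S}
    (N : IntermediateField k (SeparableClosure k)) [FiniteDimensional k N] [IsGalois k N] {M : Over S}
    (u : nObj N str ⟶ M) (hu : ∀ g, gal N str g ≫ u = u) : ∃ m : Over.mk str ⟶ M, ν N str ≫ m = u := by
  obtain ⟨⟨μ, α⟩, hα⟩ := (Scheme.SpecToEquivOfField N M.left).symm.surjective u.left
  replace hα : Spec.map α ≫ M.left.fromSpecResidueField μ = u.left := hα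
  have hfix : ∀ c, α.hom c ∈ Set.range (algebraMap k N) := fun c => by
    rw [IsGalois.mem_range_algebraMap_iff_fixed]
    intro γ
    have h : (gal N str γ⁻¹ ≫ u).left = u.left := congrArg (fun m => m.left) (hu γ⁻¹)
    change GalTw.specMap N γ⁻¹⁻¹ ≫ u.left = u.left at h
    rw [inv_inv, ← hα, ← Category.assoc, cancel_mono] at h
    change Spec.map _ ≫ Spec.map α = Spec.map α at h
    rw [← Spec.map_comp] at h
    exact congrArg (fun m => (CommRingCat.Hom.hom m) c) (Spec.map_injective h)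
  choose b hb using hfix
  have hi : Function.Injective (algebraMap k N) := (algebraMap k N).injective
  let b' : M.left.residueField μ ⟶ CommRingCat.of k := CommRingCat.ofHom
    { toFun := b
      map_one' := hi (by simp only [hb, map_one])
      map_mul' := fun c d => hi (by simp only [hb, map_mul])
      map_zero' := hi (by simp only [hb, map_zero])
      map_add' := fun c d => hi (by simp only [hb, map_add]) }
  have hlow : (ν N str).left ≫ Spec.map b' ≫ M.left.fromSpecResidueField μ = u.left := by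
    rw [← hα, ← Category.assoc]
    congr 1
    show Spec.map _ ≫ Spec.map b' = _
    rw [← Spec.map_comp]
    exact congrArg _ (CommRingCat.hom_ext (RingHom.ext hb))
  haveI := ν_surjective N (str := str)
  haveI := ν_etale N (str := str)
  haveI : Epi (ν N str).left := Flat.epi_of_flat_of_surjective _
  let m : Over.mk str ⟶ M := Over.homMk (Spec.map b' ≫ M.left.fromSpecResidueField μ) (by
    rw [← cancel_epi (ν N str).left, ← Category.assoc, hlow]
    exact (Over.w u).trans (Over.w (ν N str)).symm)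
  exact ⟨m, Over.OverMorphism.ext hlow⟩

set_option maxHeartbeats 1000000 in
/-- The descended functor passes through the given point. -/
theorem nonempty_iso_point (h𝒳 : Stk.IsStack J 𝒳) (hJ : Fine J) (hEt : HasEtaleCovers J)
    {k : Type u} [Field k] {str : Spec (CommRingCat.of k) ⟶ S} (x : overCat (Over.mk str) ⥤ᵇ 𝒳)
    (N : IntermediateField k (SeparableClosure k)) [FiniteDimensional k N] [IsGalois k N]
    {e : Fin (n + 1) ≃ (N ≃ₐ[k] N)} {W M : Over S} {t : Torsor W M (N ≃ₐ[k] N)} {qW : (yon S).obj W ⟶ P.obj}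
    {L : Lin t (BasedFunctor.comp (fam eT qW) (forget uc (Fin (n + 1))))}
    (hL : ∀ {f' f : Over W} (g : N ≃ₐ[k] N) (m : f'.left ⟶ f.left) (h : f'.hom ≫ t.d g = m ≫ f.hom),
        ∃ K : reindexObj (shift e g) ((fam eT qW).obj f') ⟶ (fam eT qW).obj f,
          (TupCat uc (Fin (n + 1))).p.IsHomLift m K ∧ K.f = L.θ g m h)
    {tN : overCat (nObj N str) ⥤ᵇ TupCat uc (Fin (n + 1))} (R : ∀ f : Over (nObj N str), (tN.obj f).y ⟶ x.obj (xf N str))
    (hR : ∀ f, 𝒳.p.IsHomLift f.hom (R f))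
    (heq : ∀ (g : N ≃ₐ[k] N) {f' f : Over (nObj N str)} (m : f'.left ⟶ f.left) (_ : f'.hom ≫ gal N str g = m ≫ f.hom)
        (K : reindexObj (shift e g) (tN.obj f') ⟶ tN.obj f), (TupCat uc (Fin (n + 1))).p.IsHomLift m K →
        K.f ≫ R f = R f' ≫ x.map (galX N g))
    (w₀ : nObj N str ⟶ W) (hw₀g : ∀ g, gal N str g ≫ w₀ = w₀ ≫ t.d g)
    (γ : BasedFunctor.comp (overMap w₀) (fam eT qW) ≅ tN) (m : Over.mk str ⟶ M) (hm : ν N str ≫ m = w₀ ≫ t.q)
    (y : overCat M ⥤ᵇ 𝒳)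
    (β : ∀ f : Over W, y.obj (Over.mk (f.hom ≫ t.q)) ⟶ (BasedFunctor.comp (fam eT qW) (forget uc (Fin (n + 1)))).obj f)
    (hβ : ∀ f, 𝒳.p.IsHomLift (𝟙 f.left) (β f))
    (hβnat : ∀ {f' f : Over W} (g : N ≃ₐ[k] N) (m : f'.left ⟶ f.left) (h : f'.hom ≫ t.d g = m ≫ f.hom)
        (φ : Over.mk (f'.hom ≫ t.q) ⟶ Over.mk (f.hom ≫ t.q)), φ.left = m → y.map φ ≫ β f = β f' ≫ L.θ g m h) :
    Nonempty (BasedFunctor.comp (overMap m) y ≅ x) := by
  have hg := h𝒳.1
  let T := nObj N str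
  let x' : overCat W ⥤ᵇ 𝒳 := BasedFunctor.comp (fam eT qW) (forget uc (Fin (n + 1)))
  let R' : ∀ f : Over T, x'.obj (Over.mk (f.hom ≫ w₀)) ⟶ x.obj (xf N str) := fun f => (appIso γ f).hom.f ≫ R f
  have hR' : ∀ f : Over T, 𝒳.p.IsHomLift f.hom (R' f) := fun f => by
    have h1 : 𝒳.p.IsHomLift (𝟙 f.left) (appIso γ f).hom.f := lift_f _ _ (appIso_isHomLift γ f)
    haveI := hR f
    exact IsHomLift.comp_lift_id_left' 𝒳.p f.left (appIso γ f).hom.f f.hom (R f)
  let fx : ∀ f : Over T, Over.mk (f.hom ≫ ν N str) ⟶ xf N str := fun f =>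
    Over.homMk f.hom (by show f.hom ≫ 𝟙 _ ≫ ν N str = _; rw [Category.id_comp]; rfl)
  choose Dv hDv hDve using fun f : Over T =>
    exists_factor hg (x.map (fx f)) (GaloisTuple.map_isHomLift x (fx f)) (R' f) (hR' f)
  have hDnat : ∀ (g : N ≃ₐ[k] N) {f' f : Over T} (m' : f'.left ⟶ f.left) (h : f'.hom ≫ gal N str g = m' ≫ f.hom)
      (h' : (f'.hom ≫ w₀) ≫ t.d g = m' ≫ f.hom ≫ w₀)
      (φ : Over.mk (f'.hom ≫ ν N str) ⟶ Over.mk (f.hom ≫ ν N str)), φ.left = m' →
      L.θ (f' := Over.mk (f'.hom ≫ w₀)) (f := Over.mk (f.hom ≫ w₀)) g m' h' ≫ Dv f = Dv f' ≫ x.map φ := by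
    intro g f' f m' h h' φ hφ
    haveI : 𝒳.p.IsHomLift (𝟙 f.left) (Dv f) := hDv f
    haveI : 𝒳.p.IsHomLift (𝟙 f'.left) (Dv f') := hDv f'
    haveI : 𝒳.p.IsHomLift m' (L.θ (f' := Over.mk (f'.hom ≫ w₀)) (f := Over.mk (f.hom ≫ w₀)) g m' h') :=
      L.lifts (f' := Over.mk (f'.hom ≫ w₀)) (f := Over.mk (f.hom ≫ w₀)) g m' h'
    haveI h3 : 𝒳.p.IsHomLift m' (x.map φ) := hφ ▸ GaloisTuple.map_isHomLift x φ
    refine ext_lift hg (x.map (fx f)) (GaloisTuple.map_isHomLift x (fx f)) (g := m')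
      (IsHomLift.comp_lift_id_right' 𝒳.p m' _ f.left (Dv f)) (IsHomLift.comp_lift_id_left' 𝒳.p f'.left (Dv f') m' _) ?_
    have hfx : φ ≫ fx f = fx f' ≫ galX N g := Over.OverMorphism.ext (by
      show φ.left ≫ f.hom = f'.hom ≫ gal N str g
      rw [hφ, h])
    refine (Category.assoc _ _ _).trans ((congrArg (_ ≫ ·) (hDve f)).trans (Eq.trans ?_ (Category.assoc _ _ _).symm))
    rw [← x.toFunctor.map_comp, hfx, x.toFunctor.map_comp]
    refine Eq.trans ?_ ((congrArg (· ≫ x.map (galX N g)) (hDve f').symm).trans (Category.assoc _ _ _))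
    let a₁ := appIso γ f
    let a' := appIso γ f'
    obtain ⟨KW, hKW, hKWf⟩ := hL (f' := Over.mk (f'.hom ≫ w₀)) (f := Over.mk (f.hom ≫ w₀)) g m' h'
    haveI := hKW
    rw [← hKWf]
    haveI : (TupCat uc (Fin (n + 1))).p.IsHomLift (𝟙 f.left) a₁.hom := appIso_isHomLift γ f
    haveI : (TupCat uc (Fin (n + 1))).p.IsHomLift (𝟙 f'.left) a'.hom := appIso_isHomLift γ f'
    haveI : (TupCat uc (Fin (n + 1))).p.IsHomLift (𝟙 f'.left) a'.inv := IsHomLift.lift_id_inv _ f'.left a'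
    haveI h5 : (TupCat uc (Fin (n + 1))).p.IsHomLift (𝟙 f'.left) ((reindex uc (shift e g)).map a'.inv) := inferInstance
    let K' : reindexObj (shift e g) (tN.obj f') ⟶ tN.obj f :=
      (reindex uc (shift e g)).map a'.inv ≫ KW ≫ a₁.hom
    have hK' : (TupCat uc (Fin (n + 1))).p.IsHomLift m' K' := by
      haveI : (TupCat uc (Fin (n + 1))).p.IsHomLift m' (KW ≫ a₁.hom) := IsHomLift.comp_lift_id_right' _ m' KW f.left a₁.hom
      exact IsHomLift.comp_lift_id_left' _ f'.left _ m' (KW ≫ a₁.hom)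
    have h4 := heq g m' h K' hK'
    show KW.f ≫ a₁.hom.f ≫ R f = (a'.hom.f ≫ R f') ≫ x.map (galX N g)
    rw [Category.assoc, ← h4]
    show KW.f ≫ a₁.hom.f ≫ R f = a'.hom.f ≫ (a'.inv.f ≫ KW.f ≫ a₁.hom.f) ≫ R f
    have h6 : a'.hom.f ≫ a'.inv.f = 𝟙 _ := congrArg Tup.Hom.f a'.hom_inv_id
    simp only [Category.assoc]
    rw [reassoc_of% h6]
  exact nonempty_iso_of_compat h𝒳 hJ hEt x N w₀ hw₀g m hm y β hβ hβnat Dv hDv hDnat

end Family

/-- A point over a finite Galois extension with distinct conjugates gives a chart through the ground field. -/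
theorem exists_chart_galois (h𝒳 : Stk.IsStack J 𝒳) (hJ : Fine J) (hEt : HasEtaleCovers J)
    (hΔ : RepByAlgSp1 (FibCat.diag (FibCat.toSelf 𝒳))) {U : Over S} [IsAffine U.left] {uc : overCat U ⥤ᵇ 𝒳}
    (hu : RepByAlgSpWith (AlgSp.LocP @Smooth) uc) {k : Type u} [Field k] {str : Spec (CommRingCat.of k) ⟶ S}
    (x : overCat (Over.mk str) ⥤ᵇ 𝒳) (N : IntermediateField k (SeparableClosure k))
    [FiniteDimensional k N] [IsGalois k N] (a : nObj N str ⟶ U)
    (ψ : BasedFunctor.comp (overMap (ν N str)) x ≅ BasedFunctor.comp (overMap a) uc)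
    (hinj : ∀ g h : N ≃ₐ[k] N, gal N str g ≫ a = gal N str h ≫ a → g = h) :
    ∃ (Z : Over S) (_ : IsAffine Z.left) (p : overCat Z ⥤ᵇ 𝒳) (m : Over.mk str ⟶ Z),
      RepByAlgSpWith (AlgSp.LocP @Smooth) p ∧ Nonempty (BasedFunctor.comp (overMap m) p ≅ x) := by
  have hg := h𝒳.1
  haveI := Fintype.ofFinite (N ≃ₐ[k] N)
  let n := Nat.card (N ≃ₐ[k] N) - 1
  let e : Fin (n + 1) ≃ (N ≃ₐ[k] N) :=
    (finCongr (Nat.sub_add_cancel Nat.card_pos)).trans (Finite.equivFin _).symm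
  obtain ⟨⟨P, eT, heT⟩, hforget⟩ := rep_tup hg hu n
  obtain ⟨eT', -, ⟨η⟩, ⟨ε⟩⟩ := BasedBasic.IsEquivOver.exists_inverse heT
  obtain ⟨tN, R, hR, hRnat, hco, hshift, heq⟩ := exists_galois_tuple hg N x a ψ e
  let T := nObj N str
  let τg : (N ≃ₐ[k] N) → (P.obj ⟶ P.obj) := fun g => τ eT eT' e g
  have hτm : ∀ g h, τg g ≫ τg h = τg (h * g) := τ_mul ε e
  have hτ1 : τg 1 = 𝟙 _ := τ_one η e
  let z : (yon S).obj T ⟶ P.obj := SpMapProp.ofPoint (BasedFunctor.comp tN eT')
  let zIso : fam eT z ≅ tN :=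
    (famIso eT (BasedFunctor.comp tN eT') rfl).symm ≪≫ BasedBasic.isoWhiskerLeft tN ε
  have hz : ∀ g, (yon S).map (gal N str g) ≫ z = z ≫ τg g := fun g => by
    obtain ⟨sh⟩ := hshift g
    rw [← SpMapProp.ofPoint_overMap, ← SpMapProp.ofPoint_comp]
    refine SpMapProp.ofPoint_eq_of_iso ?_
    refine (BasedBasic.isoWhiskerRight sh eT' :
      BasedFunctor.comp (overMap (gal N str g)) (BasedFunctor.comp tN eT') ≅ _) ≪≫ ?_
    refine (BasedBasic.isoWhiskerLeft tN ?_ :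
      BasedFunctor.comp tN (BasedFunctor.comp (reindex uc (shift e g)) eT') ≅
        BasedFunctor.comp tN (BasedFunctor.comp eT' (ofSpMap (τg g))))
    refine (BasedBasic.isoWhiskerRight ε.symm (BasedFunctor.comp (reindex uc (shift e g)) eT') :
      BasedFunctor.comp (reindex uc (shift e g)) eT' ≅ _) ≪≫ ?_
    exact BasedBasic.isoWhiskerLeft eT' (OfPsh.isoOfPshMap (BasedFunctor.comp (BasedFunctor.comp eT (reindex uc (shift e g))) eT'))
  -- the equivariant fibre power of a chart of the space of tuples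
  obtain ⟨A, pA, l, hA, hpA, hl⟩ := exists_affine_chart_field P.property z
  haveI := hA
  have hτiso : ∀ g, IsIso (τg g) := fun g =>
    ⟨τg g⁻¹, by rw [hτm, inv_mul_cancel, hτ1], by rw [hτm, mul_inv_cancel, hτ1]⟩
  let p : Fin (n + 1) → ((yon S).obj A ⟶ P.obj) := fun i => pA ≫ τg (e i)⁻¹
  have hp : ∀ i, RepWith @Etale (p i) := fun i => by
    haveI := hτiso (e i)⁻¹
    exact (AlgSpace.repWith_comp_iso_iff @Etale pA (τg (e i)⁻¹)).2 hpA
  obtain ⟨D⟩ := FamPow.exists_famPow P.property p hp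
  let qD : (yon S).obj D.P ⟶ P.obj := (yon S).map (D.a 0) ≫ p 0
  have hDa : ∀ i, (yon S).map (D.a i) ≫ pA = qD ≫ τg (e i) := fun i => by
    rw [show qD = (yon S).map (D.a i) ≫ pA ≫ τg (e i)⁻¹ from (D.comm i).symm, Category.assoc, Category.assoc,
      hτm, mul_inv_cancel, hτ1, Category.comp_id]
  have hd : ∀ g, ∃ d : D.P ⟶ D.P, (∀ i, d ≫ D.a i = D.a (shift e g i)) ∧ (yon S).map d ≫ qD = qD ≫ τg g := fun g => by
    have hb : ∀ i, (yon S).map (D.a (shift e g i)) ≫ p i = qD ≫ τg g := fun i => by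
      rw [show p i = pA ≫ τg (e i)⁻¹ from rfl, ← Category.assoc, hDa, Category.assoc, hτm]
      simp [shift]
    obtain ⟨d, hd⟩ := D.exists_lift (fun i => D.a (shift e g i)) fun i => (hb i).trans (hb 0).symm
    refine ⟨d, hd, ?_⟩
    show (yon S).map d ≫ (yon S).map (D.a 0) ≫ p 0 = _
    rw [← Category.assoc, ← Functor.map_comp, hd, hb]
  choose d hda hdq using hd
  have hmul : ∀ g h, d (g * h) = d h ≫ d g := fun g h => D.hom_ext _ _ fun i => by
    rw [hda, Category.assoc, hda, hda, shift_shift]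
  have hone : d 1 = 𝟙 D.P := D.hom_ext _ _ fun i => by rw [hda, shift_one, Category.id_comp]; rfl
  obtain ⟨w, hw⟩ := D.exists_lift (fun i => gal N str (e i) ≫ l) fun i => by
    have hc : ∀ i, (yon S).map (gal N str (e i) ≫ l) ≫ p i = z := fun i => by
      rw [Functor.map_comp, Category.assoc, show p i = pA ≫ τg (e i)⁻¹ from rfl, ← Category.assoc _ pA, hl,
        ← Category.assoc, hz, Category.assoc, hτm, inv_mul_cancel, hτ1, Category.comp_id]
    exact (hc i).trans (hc 0).symm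
  have hwz : (yon S).map w ≫ qD = z := by
    show (yon S).map w ≫ (yon S).map (D.a 0) ≫ p 0 = z
    rw [← Category.assoc, ← Functor.map_comp, hw, Functor.map_comp, Category.assoc,
      show p 0 = pA ≫ τg (e 0)⁻¹ from rfl, ← Category.assoc _ pA, hl, ← Category.assoc, hz, Category.assoc, hτm,
      inv_mul_cancel, hτ1, Category.comp_id]
  have hwg : ∀ g, gal N str g ≫ w = w ≫ d g := fun g => D.hom_ext _ _ fun i => by
    rw [Category.assoc, hw, Category.assoc, hda, hw, ← Category.assoc, ← gal_mul]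
    simp [shift]
  -- coordinates and the free quotient
  let tD := fam eT qD
  let c : (N ≃ₐ[k] N) → (D.P ⟶ U) := fun σ => co tD (Over.mk (𝟙 D.P)) (e.symm σ)
  haveI : IsSeparated (U.hom ≫ terminal.from S) := by
    rw [terminalIsTerminal.hom_ext (U.hom ≫ terminal.from S) (terminal.from U.left)]
    infer_instance
  haveI : IsSeparated U.hom := IsSeparated.of_comp U.hom (terminal.from S)
  have hc : ∀ g σ, d g ≫ c σ = c (σ * g) := fun g σ => by
    have h1 := co_eq_of_iso _ (famShift ε e qD g (d g) (hdq g)) (Over.mk (𝟙 D.P)) (e.symm σ)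
    rw [co_overMap, co_reindex, co_eq_comp tD] at h1
    simp only [Over.mk_hom, Category.id_comp] at h1
    refine h1.trans ?_
    simp [c, shift, tD]
  obtain ⟨W, ι, M, t, hdι, hι, hte, hts, hlift⟩ :=
    FreeQuot.exists_free_quot d hmul hone c hc (FamPow.isIndQuasiAffine_sub p D)
  have hwc : ∀ σ, w ≫ c σ = gal N str σ ≫ a := fun σ => by
    have h1 := co_eq_of_iso _ (famMap eT w qD hwz ≪≫ zIso) (Over.mk (𝟙 T)) (e.symm σ)
    rw [co_overMap, co_eq_comp tD, hco] at h1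
    simpa [c] using h1
  obtain ⟨w₀, hw₀⟩ := hlift w fun σ σ' h => hinj σ σ' (by rw [← hwc, ← hwc, h])
  -- the linearised functor
  let qW : (yon S).obj W ⟶ P.obj := (yon S).map ι ≫ qD
  have hdW : ∀ g, (yon S).map (t.d g) ≫ qW = qW ≫ τg g := fun g => by
    rw [← Category.assoc, ← Functor.map_comp, hdι, Functor.map_comp, Category.assoc, hdq, ← Category.assoc]
  have hgT := grpd_tup (uc := uc) (ι := Fin (n + 1)) hg
  obtain ⟨L, hL⟩ := exists_lin hg ε e t qW hdW
  obtain ⟨y, β, hβ, hβnat⟩ := TorsorDescent.exists_desc L h𝒳 hJ (hEt t.q hte hts)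
  -- smoothness
  have hcomp : BasedFunctor.comp (overMap t.q) y ≅ BasedFunctor.comp (fam eT qW) (forget uc (Fin (n + 1))) := by
    refine BasedNatIso.mkNatIso (NatIso.ofComponents
      (fun f => @asIso _ _ _ _ (β f) (haveI := hβ f; isIso_of_isHomLift_id hg (R := f.left) (β f))) fun {f' f} φ => ?_)
      fun f => hβ f
    have h1 : f'.hom ≫ t.d 1 = φ.left ≫ f.hom := by rw [t.d_one, Category.comp_id]; exact (Over.w φ).symm
    refine (hβnat 1 φ.left h1 ((overMap t.q).map φ) rfl).trans ?_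
    rw [← L.one φ h1]
    rfl
  have hqD : RepWith @Etale qD := by
    haveI := D.etale
    exact AlgSpMor.LocP.repWith_etale_comp (D.a 0) (hp 0)
  have hqW : RepWith @Etale qW := by
    haveI : Etale ι.left := by haveI := hι; infer_instance
    exact AlgSpMor.LocP.repWith_etale_comp ι hqD
  have hy := smooth_desc hg hΔ heT hforget hqW t.q hte hts y hcomp
  have hsm := SourceDescent.Scheme.smooth.{u}
  -- the point
  have hw₀g : ∀ g, gal N str g ≫ w₀ = w₀ ≫ t.d g := fun g => by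
    haveI : Mono ι := (Over.forget S).mono_of_mono_map (haveI := hι; inferInstanceAs (Mono ι.left))
    rw [← cancel_mono ι, Category.assoc, hw₀, Category.assoc, hdι, ← Category.assoc, hw₀, hwg]
  obtain ⟨m, hm⟩ := exists_point N (w₀ ≫ t.q) fun g => by rw [← Category.assoc, hw₀g, Category.assoc, t.dq]
  -- comparison with the given point
  have hwW : (yon S).map w₀ ≫ qW = z := by rw [← Category.assoc, ← Functor.map_comp, hw₀, hwz]
  let γ := famMap eT w₀ qW hwW ≪≫ zIso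
  obtain ⟨Φ⟩ := nonempty_iso_point h𝒳 hJ hEt x N hL R hR heq w₀ hw₀g γ m hm y β hβ hβnat
  -- shrink to an affine open
  obtain ⟨V, hV, hμ, -⟩ :=
    exists_isAffineOpen_mem_and_subset (X := M.left) (x := m.left (IsLocalRing.closedPoint k)) (U := ⊤) trivial
  have hgV : Set.range m.left ⊆ Set.range V.ι := by
    rintro _ ⟨τ', rfl⟩
    rw [Scheme.Opens.range_ι, show τ' = IsLocalRing.closedPoint k from @Subsingleton.elim (PrimeSpectrum k) _ _ _]
    exact hμ
  let mV : Over.mk str ⟶ sub V := Over.homMk (IsOpenImmersion.lift V.ι m.left hgV) (by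
    show _ ≫ V.ι ≫ M.hom = str
    rw [← Category.assoc, IsOpenImmersion.lift_fac]
    exact Over.w m)
  have hmV : mV ≫ subι V = m := Over.OverMorphism.ext (IsOpenImmersion.lift_fac _ _ _)
  haveI : Smooth (subι V).left := inferInstanceAs (Smooth V.ι)
  exact ⟨sub V, hV, BasedFunctor.comp (overMap (subι V)) y, mV,
    IsAlgFp.comp_locP hsm (Yoneda.isFibGrpd_overCat _) (Yoneda.isFibGrpd_overCat M)
      (repByAlgSpWith_overMap hsm (subι V) ‹_›) hy,
    ⟨BasedBasic.isoWhiskerRight (ChartLift.overMapComp mV (subι V) ≪≫ eqToIso (congrArg overMap hmV)) y ≪≫ Φ⟩⟩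

end Groth.Agent.Lib.HensChart.StackChart
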