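import Groth.Agent.S18309
import Groth.Agent.Lib.AlgStack.SpMapProp

/-!
# Henselian lifting along smooth functors from spaces to stacks
-/

set_option autoImplicit false
set_option backward.isDefEq.respectTransparency false
set_option backward.isDefEq.respectTransparency.types false

universe u

open CategoryTheory CategoryTheory.Limits AlgebraicGeometry

namespace Groth.Agent.Lib.HensChart

open Lib.AlgStack Lib.AlgStack.BasedBasic
open FibCat (fp fpFst fpSnd fpLift fpIso overCat)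
open AlgSt (ofSp ofSpMap ofOverCat toOverCat overMap spMapOfOver RepByAlgSpWith)
open AlgSp (Sp yon)

variable {S : Scheme.{u}}

/-- A smooth functor from a space lifts Henselian points through lifts of the residue point. -/
theorem exists_space_lift {𝒵 : AlgSt.Cat S} {Z : AlgSp.Space S}
    (f : ofSp Z.obj ⥤ᵇ 𝒵) (hf : RepByAlgSpWith (AlgSp.LocP @Smooth) f)
    (R : Type u) [CommRing R] [HenselianLocalRing R] (str : Spec (CommRingCat.of R) ⟶ S)
    (z : overCat (Over.mk str) ⥤ᵇ 𝒵)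
    (z₀ : (yon S).obj (Over.mk ((Spec.map (CommRingCat.ofHom (IsLocalRing.residue R))) ≫ str)) ⟶ Z.obj)
    (w : BasedFunctor.comp (BasedFunctor.comp (ofOverCat (Over.mk ((Spec.map (CommRingCat.ofHom (IsLocalRing.residue R))) ≫ str))) (ofSpMap z₀)) f ≅
      BasedFunctor.comp (overMap (Over.homMk (Spec.map (CommRingCat.ofHom (IsLocalRing.residue R))) rfl : Over.mk ((Spec.map (CommRingCat.ofHom (IsLocalRing.residue R))) ≫ str) ⟶ Over.mk str)) z) :
    ∃ z' : (yon S).obj (Over.mk str) ⟶ Z.obj,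
      (yon S).map (Over.homMk (Spec.map (CommRingCat.ofHom (IsLocalRing.residue R))) rfl : Over.mk ((Spec.map (CommRingCat.ofHom (IsLocalRing.residue R))) ≫ str) ⟶ Over.mk str) ≫ z' = z₀ ∧
        Nonempty (BasedFunctor.comp (BasedFunctor.comp (ofOverCat (Over.mk str)) (ofSpMap z')) f ≅ z) := by
  obtain ⟨F, e, he, hP⟩ := hf _ z
  obtain ⟨e', -, -, ⟨η⟩⟩ := BasedBasic.IsEquivOver.exists_inverse he
  let T := Over.mk str
  let res : Over.mk ((Spec.map (CommRingCat.ofHom (IsLocalRing.residue R))) ≫ str) ⟶ T :=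
    Over.homMk (Spec.map (CommRingCat.ofHom (IsLocalRing.residue R))) rfl
  let L := fpLift (F := z) (G := f) (overMap res)
    (BasedFunctor.comp (ofOverCat (Over.mk ((Spec.map (CommRingCat.ofHom (IsLocalRing.residue R))) ≫ str))) (ofSpMap z₀))
    w.symm
  let π : F.obj ⟶ (yon S).obj T := spMapOfOver (BasedFunctor.comp e (fpFst z f))
  let φ : F.obj ⟶ Z.obj := Space.spHom (BasedFunctor.comp e (fpSnd z f))
  let cφ : BasedFunctor.comp e (fpSnd z f) ≅ ofSpMap φ := OfPsh.isoOfPshMap _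
  let cπ := Rep.isoSpMapOfOver (BasedFunctor.comp e (fpFst z f))
  let x₀ := SpMapProp.ofPoint (BasedFunctor.comp L e')
  have hφ : x₀ ≫ φ = z₀ := by
    rw [← SpMapProp.ofPoint_comp, SpMapProp.ofPoint_eq_of_iso
      (BasedBasic.isoWhiskerLeft (BasedFunctor.comp L e') cφ.symm ≪≫
        BasedBasic.isoWhiskerLeft L (BasedBasic.isoWhiskerRight η (fpSnd z f)) :
        _ ≅ BasedFunctor.comp L (fpSnd z f))]
    exact SpMapProp.ofPoint_atlas z₀
  have hπ : x₀ ≫ π = (yon S).map res := by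
    have h : SpMapProp.ofPoint (ofOverCat T) = 𝟙 ((yon S).obj T) :=
      SpMapProp.ofPoint_atlas (𝟙 ((yon S).obj T))
    rw [← SpMapProp.ofPoint_comp, SpMapProp.ofPoint_eq_of_iso
      ((BasedBasic.isoWhiskerLeft (BasedFunctor.comp L e')
          (BasedBasic.isoWhiskerRight cπ.symm (ofOverCat T)) :
        BasedFunctor.comp (BasedFunctor.comp L e') (ofSpMap π) ≅ _) ≪≫
        BasedBasic.isoWhiskerLeft L (BasedBasic.isoWhiskerRight η (BasedFunctor.comp (fpFst z f) (ofOverCat T))) :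
        _ ≅ BasedFunctor.comp (overMap res) (ofOverCat T)), SpMapProp.ofPoint_overMap, h, Category.comp_id]
  obtain ⟨z'', h₁, h₂⟩ := Groth.Agent.S18309.result (Z := F) (X := (AlgSp.ofScheme S).obj T)
    (ObjectProperty.homMk π) hP R str (𝟙 _) x₀ (hπ.trans (Category.comp_id _).symm)
  refine ⟨z'' ≫ φ, ?_, ⟨?_⟩⟩
  · rw [← Category.assoc, h₂, hφ]
  exact
    (BasedBasic.isoWhiskerLeft (BasedFunctor.comp (ofOverCat T) (ofSpMap z''))
      (BasedBasic.isoWhiskerRight cφ.symm f) :
        BasedFunctor.comp (BasedFunctor.comp (ofOverCat T) (ofSpMap (z'' ≫ φ))) f ≅ _) ≪≫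
    BasedBasic.isoWhiskerLeft (BasedFunctor.comp (ofOverCat T) (BasedFunctor.comp (ofSpMap z'') e)) (fpIso z f).symm ≪≫
    BasedBasic.isoWhiskerLeft (BasedFunctor.comp (ofOverCat T) (ofSpMap z'')) (BasedBasic.isoWhiskerRight cπ z) ≪≫
    eqToIso (by
      show BasedFunctor.comp (BasedFunctor.comp (ofOverCat T) (ofSpMap (z'' ≫ π))) (BasedFunctor.comp (toOverCat T) z) = z
      rw [show z'' ≫ π = 𝟙 _ from h₁]
      rfl)

end Groth.Agent.Lib.HensChart
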