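import Groth.Agent.Lib.AlgStack.IsAlgFp
import Groth.Agent.Lib.AlgStack.Diag

/-!
# Tuples of points of a chart of a stack with a common image

For a chart `u : (Sch/U) ⟶ 𝒳` the category of tuples `(y, a i : T ⟶ U, φ i : u (a i) ≅ y)` over `(Sch/S)`;
it is an iterated fibre product of the chart with itself over the stack.
-/

set_option autoImplicit false
set_option backward.isDefEq.respectTransparency false
set_option backward.isDefEq.respectTransparency.types false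
set_option linter.style.haveILetI false

universe u

open CategoryTheory CategoryTheory.Limits AlgebraicGeometry

namespace Groth.Agent.Lib.HensChart.StackTuples

open Lib.AlgStack Lib.AlgStack.BasedBasic
open FibCat (IsFibGrpd IsEquivOver fp fpFst fpSnd overCat)
open AlgSt (RepByAlgSp RepByAlgSp1 RepByAlgSpWith)

variable {S : Scheme.{u}} {𝒳 : AlgSt.Cat S} {U : Over S} (uc : overCat U ⥤ᵇ 𝒳) (ι : Type)

/-- A tuple of points of the chart with isomorphisms of their images. -/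
structure Tup : Type (u + 1) where
  y : 𝒳.obj
  a : ι → (𝒳.p.obj y ⟶ U)
  φ : ∀ i, uc.obj (Over.mk (a i)) ⟶ y
  hφ : ∀ i, 𝒳.p.IsHomLift (𝟙 (𝒳.p.obj y)) (φ i)

variable {uc ι}

/-- A morphism of tuples. -/
@[ext]
structure Tup.Hom (s t : Tup uc ι) : Type u where
  f : s.y ⟶ t.y
  ha : ∀ i, 𝒳.p.map f ≫ t.a i = s.a i
  w : ∀ i, uc.map (Over.homMk (𝒳.p.map f) (ha i) : Over.mk (s.a i) ⟶ Over.mk (t.a i)) ≫ t.φ i = s.φ i ≫ f

theorem map_homMk_id {T : Over S} (a : T ⟶ U) (m : T ⟶ T) (hm : m = 𝟙 T) (h : m ≫ a = a) :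
    uc.map (Over.homMk m h : Over.mk a ⟶ Over.mk a) = 𝟙 _ := by
  subst hm
  rw [← uc.toFunctor.map_id]
  congr 1

theorem map_comp_eq {A B C : Over U} {y : 𝒳.obj} (m : A ⟶ B) (n : B ⟶ C) (k : A ⟶ C) (φ : uc.obj C ⟶ y)
    (e : m ≫ n = k) : uc.map k ≫ φ = uc.map m ≫ uc.map n ≫ φ :=
  ((congrArg (fun q => uc.map q ≫ φ) e.symm).trans (congrArg (· ≫ φ) (uc.toFunctor.map_comp m n))).trans
    (Category.assoc _ _ _)

instance : Category.{u} (Tup uc ι) where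
  Hom := Tup.Hom
  id s :=
    { f := 𝟙 _
      ha := fun i => by rw [CategoryTheory.Functor.map_id, Category.id_comp]
      w := fun i => by rw [map_homMk_id _ _ (CategoryTheory.Functor.map_id _ _), Category.id_comp, Category.comp_id] }
  comp {r s t} g h :=
    { f := g.f ≫ h.f
      ha := fun i => by rw [Functor.map_comp, Category.assoc, h.ha, g.ha]
      w := fun i => by
        refine Eq.trans ?_ ((congrArg (uc.map _ ≫ ·) (h.w i)).trans
          ((Category.assoc _ _ _).symm.trans ((congrArg (· ≫ h.f) (g.w i)).trans (Category.assoc _ _ _))))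
        exact map_comp_eq _ _ _ _ (Over.OverMorphism.ext (𝒳.p.map_comp g.f h.f).symm) }
  id_comp g := Tup.Hom.ext (Category.id_comp g.f)
  comp_id g := Tup.Hom.ext (Category.comp_id g.f)
  assoc g h k := Tup.Hom.ext (Category.assoc g.f h.f k.f)

@[ext]
theorem Tup.hom_ext {s t : Tup uc ι} {g h : s ⟶ t} (e : g.f = h.f) : g = h := Tup.Hom.ext e

/-- The underlying functor to the stack. -/
@[simps]
def Tup.forgetFunctor : Tup uc ι ⥤ 𝒳.obj where
  obj s := s.y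
  map g := g.f

variable (uc ι) in
/-- The category of tuples over the base. -/
abbrev TupCat : AlgSt.Cat S := BasedCategory.ofFunctor (Tup.forgetFunctor (uc := uc) (ι := ι) ⋙ 𝒳.p)

variable (uc ι) in
/-- The common image of a tuple. -/
def forget : TupCat uc ι ⥤ᵇ 𝒳 where
  toFunctor := Tup.forgetFunctor
  w := rfl

section Grpd

variable (h𝒳 : IsFibGrpd 𝒳.p)
include h𝒳

theorem isIso_φ (t : Tup uc ι) (i : ι) : IsIso (t.φ i) :=
  haveI := t.hφ i
  isIso_of_isHomLift_id h𝒳 (R := 𝒳.p.obj t.y) (t.φ i)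

/-- A morphism over the base between tuples is determined by any single index. -/
theorem f_eq_of_w (s t : Tup uc ι) {f f' : s.y ⟶ t.y} {i j : ι} {m : Over.mk (s.a i) ⟶ Over.mk (t.a j)}
    (e : uc.map m ≫ t.φ j = s.φ i ≫ f) (e' : uc.map m ≫ t.φ j = s.φ i ≫ f') : f = f' := by
  have := isIso_φ h𝒳 s i
  rw [← cancel_epi (s.φ i), ← e, ← e']

theorem faithful_tup [Nonempty ι] : (TupCat uc ι).p.Faithful := by
  refine ⟨fun {s t} {g h} e => Tup.hom_ext ?_⟩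
  obtain ⟨i⟩ := ‹Nonempty ι›
  refine f_eq_of_w h𝒳 s t (g.w i) ?_
  rw [← h.w i]
  congr 2
  exact Over.OverMorphism.ext e

theorem grpd_tup : IsFibGrpd (TupCat uc ι).p where
  exists_lift {t V} f := by
    obtain ⟨z, ψ, hψ⟩ := h𝒳.exists_lift (x := t.y) f
    obtain rfl : 𝒳.p.obj z = V := IsHomLift.domain_eq 𝒳.p f ψ
    have hf : f = 𝒳.p.map ψ := IsHomLift.eq_of_isHomLift 𝒳.p f ψ
    subst hf
    let m : ∀ i, Over.mk (𝒳.p.map ψ ≫ t.a i) ⟶ Over.mk (t.a i) := fun i => Over.homMk (𝒳.p.map ψ) rfl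
    have key : ∀ i, ∃ θ : uc.obj (Over.mk (𝒳.p.map ψ ≫ t.a i)) ⟶ z,
        𝒳.p.IsHomLift (𝟙 (𝒳.p.obj z)) θ ∧ θ ≫ ψ = uc.map (m i) ≫ t.φ i := fun i => by
      have := t.hφ i
      have : (overCat U).p.IsHomLift (𝒳.p.map ψ) (m i) := IsHomLift.map (overCat U).p (m i)
      have h0 : 𝒳.p.IsHomLift (𝒳.p.map ψ) (uc.map (m i) ≫ t.φ i) := inferInstance
      have : 𝒳.p.IsHomLift (𝟙 (𝒳.p.obj z) ≫ 𝒳.p.map ψ) (uc.map (m i) ≫ t.φ i) := inferInstance
      exact exists_lift_through h𝒳 ψ _ (𝟙 _)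
    choose θ hθ hθe using key
    refine ⟨⟨z, fun i => 𝒳.p.map ψ ≫ t.a i, θ, hθ⟩, ⟨ψ, fun i => rfl, fun i => (hθe i).symm⟩, ?_⟩
    exact IsHomLift.map (TupCat uc ι).p (Tup.Hom.mk ψ (fun i => rfl) (fun i => (hθe i).symm) :
      (⟨z, fun i => 𝒳.p.map ψ ≫ t.a i, θ, hθ⟩ : Tup uc ι) ⟶ t)
  isStronglyCartesian {s t} g := by
    have := h𝒳.isStronglyCartesian g.f
    refine { toIsHomLift := IsHomLift.map _ g, universal_property' := fun {r} k χ hχ => ?_ }
    have eb : k ≫ 𝒳.p.map g.f = 𝒳.p.map χ.f :=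
      @IsHomLift.eq_of_isHomLift _ _ _ _ (TupCat uc ι).p r t (k ≫ (TupCat uc ι).p.map g) χ hχ
    have : 𝒳.p.IsHomLift (k ≫ 𝒳.p.map g.f) χ.f := eb.symm ▸ IsHomLift.map 𝒳.p χ.f
    obtain ⟨θ, ⟨hθ, hθe⟩, -⟩ := Functor.IsStronglyCartesian.universal_property 𝒳.p (𝒳.p.map g.f) g.f k _ rfl χ.f
    have ek : k = 𝒳.p.map θ := IsHomLift.eq_of_isHomLift 𝒳.p k θ
    have ha : ∀ i, 𝒳.p.map θ ≫ s.a i = r.a i := fun i => by
      rw [← g.ha i, ← Category.assoc, ← Functor.map_comp, hθe, χ.ha]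
    have hw : ∀ i, uc.map (Over.homMk (𝒳.p.map θ) (ha i) : Over.mk (r.a i) ⟶ Over.mk (s.a i)) ≫ s.φ i =
        r.φ i ≫ θ := fun i => by
      have := s.hφ i
      have := r.hφ i
      let n : Over.mk (r.a i) ⟶ Over.mk (s.a i) := Over.homMk (𝒳.p.map θ) (ha i)
      have h1 : 𝒳.p.IsHomLift (𝒳.p.map θ) (uc.map n ≫ s.φ i) := by
        have : (overCat U).p.IsHomLift (𝒳.p.map θ) n := IsHomLift.map (overCat U).p n
        rw [← Category.comp_id (𝒳.p.map θ)]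
        infer_instance
      have h2 : 𝒳.p.IsHomLift (𝒳.p.map θ) (r.φ i ≫ θ) := by
        rw [← Category.id_comp (𝒳.p.map θ)]
        infer_instance
      refine hom_eq_of_comp_eq h𝒳 g.f ?_ ?_
      · exact (IsHomLift.fac' 𝒳.p (𝒳.p.map θ) (uc.map n ≫ s.φ i)).trans
          (IsHomLift.fac' 𝒳.p (𝒳.p.map θ) (r.φ i ≫ θ)).symm
      · rw [Category.assoc, ← g.w i, ← Category.assoc, ← uc.toFunctor.map_comp, Category.assoc, hθe, ← χ.w i]
        congr 2
        refine Over.OverMorphism.ext ?_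
        show 𝒳.p.map θ ≫ 𝒳.p.map g.f = 𝒳.p.map χ.f
        rw [← Functor.map_comp, hθe]
    refine ⟨⟨θ, ha, hw⟩, ⟨?_, Tup.hom_ext hθe⟩, ?_⟩
    · subst ek
      exact IsHomLift.map (TupCat uc ι).p (Tup.Hom.mk θ ha hw : r ⟶ s)
    · rintro ⟨θ', ha', hw'⟩ ⟨hl, he⟩
      refine Tup.hom_ext (hom_eq_of_comp_eq h𝒳 g.f ?_ ?_)
      · exact (IsHomLift.eq_of_isHomLift (TupCat uc ι).p k (Tup.Hom.mk θ' ha' hw' : r ⟶ s)).symm.trans ek
      · exact (congrArg Tup.Hom.f he).trans hθe.symm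

end Grpd

section Reindex

variable {κ : Type} (ρ : κ → ι)

/-- Reindexing a tuple. -/
@[simps]
def reindexObj (t : Tup uc ι) : Tup uc κ := ⟨t.y, fun i => t.a (ρ i), fun i => t.φ (ρ i), fun i => t.hφ (ρ i)⟩

variable (uc) in
/-- Maps of index sets act on tuples. -/
def reindex : TupCat uc ι ⥤ᵇ TupCat uc κ where
  toFunctor :=
    { obj := reindexObj ρ
      map := fun g => ⟨g.f, fun i => g.ha (ρ i), fun i => g.w (ρ i)⟩ }
  w := rfl

theorem reindex_forget : BasedFunctor.comp (reindex uc ρ) (forget uc κ) = forget uc ι := rfl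

end Reindex

section One

variable (uc) in
/-- The single point of a tuple of length one. -/
def toChart : TupCat uc (Fin 1) ⥤ᵇ overCat U where
  toFunctor :=
    { obj := fun t => Over.mk (t.a 0)
      map := fun g => Over.homMk _ (g.ha 0)
      map_id := fun t => Over.OverMorphism.ext (𝒳.p.map_id t.y)
      map_comp := fun g h => Over.OverMorphism.ext (𝒳.p.map_comp g.f h.f) }
  w := rfl

theorem nonempty_toChart_iso (h𝒳 : IsFibGrpd 𝒳.p) :
    Nonempty (BasedFunctor.comp (toChart uc) uc ≅ forget uc (Fin 1)) := by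
  refine ⟨BasedNatIso.mkNatIso (NatIso.ofComponents (fun t => @asIso _ _ _ _ (t.φ 0) (isIso_φ h𝒳 t 0))
    fun g => g.w 0) fun t => t.hφ 0⟩

theorem isEquivOver_toChart (h𝒳 : IsFibGrpd 𝒳.p) : IsEquivOver (toChart uc) := by
  have : (toChart uc).toFunctor.Faithful := ⟨fun {s t} {g h} e => by
    refine Tup.hom_ext (f_eq_of_w h𝒳 s t (g.w 0) ?_)
    rw [← h.w 0]
    exact congrArg (fun m => uc.map m ≫ t.φ 0) e⟩
  have : (toChart uc).toFunctor.Full := ⟨fun {s t} m => by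
    have := isIso_φ h𝒳 s 0
    have := s.hφ 0
    have := t.hφ 0
    let f : s.y ⟶ t.y := inv (s.φ 0) ≫ uc.map m ≫ t.φ 0
    have hl : 𝒳.p.IsHomLift (𝟙 (𝒳.p.obj s.y) ≫ m.left ≫ 𝟙 (𝒳.p.obj t.y)) f := by
      have : (overCat U).p.IsHomLift m.left m := IsHomLift.map (overCat U).p m
      have : 𝒳.p.IsHomLift (𝟙 (𝒳.p.obj s.y)) (inv (s.φ 0)) := IsHomLift.lift_id_inv_isIso 𝒳.p _ (s.φ 0)
      infer_instance
    have hf : 𝒳.p.map f = m.left := by
      rw [IsHomLift.fac' 𝒳.p (𝟙 (𝒳.p.obj s.y) ≫ m.left ≫ 𝟙 (𝒳.p.obj t.y)) f]; simp; exact Category.comp_id _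
    have ha : ∀ i, 𝒳.p.map f ≫ t.a i = s.a i := Fin.forall_fin_one.2 ((congrArg (· ≫ t.a 0) hf).trans (Over.w m))
    refine ⟨⟨f, ha, Fin.forall_fin_one.2 ?_⟩, Over.OverMorphism.ext hf⟩
    simp only [f, IsIso.hom_inv_id_assoc]
    exact congrArg (fun n => uc.map n ≫ t.φ 0) (Over.OverMorphism.ext hf)⟩
  refine isEquivOver_of _ fun f => ?_
  let e : uc.obj f ≅ uc.obj f := Iso.refl _
  have he : 𝒳.p.obj (uc.obj f) = f.left := uc.w_obj f
  let m : Over.mk (eqToHom he ≫ f.hom) ⟶ f := Over.homMk (eqToHom he) rfl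
  let ξ : Tup uc (Fin 1) := ⟨uc.obj f, fun _ => eqToHom he ≫ f.hom, fun _ => uc.map m, fun _ => by
    have : (overCat U).p.IsHomLift (eqToHom he) m := IsHomLift.map (overCat U).p m
    refine IsHomLift.of_fac' _ _ _ (uc.w_obj _) rfl ?_
    rw [IsHomLift.fac' 𝒳.p (eqToHom he) (uc.map m)]
    simp⟩
  refine ⟨ξ, Over.isoMk (eqToIso he) rfl, IsHomLift.of_fac' _ _ _ he rfl ?_⟩
  exact (show eqToHom he = eqToHom he ≫ 𝟙 _ ≫ eqToHom rfl by simp)

end One

section Step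

variable {n : ℕ} (h𝒳 : IsFibGrpd 𝒳.p)

/-- A point of the chart over `T` with an isomorphism of its image to `y`. -/
abbrev Pt (y : 𝒳.obj) : Type u :=
  Σ a : 𝒳.p.obj y ⟶ U, {φ : uc.obj (Over.mk a) ⟶ y // 𝒳.p.IsHomLift (𝟙 (𝒳.p.obj y)) φ}

theorem map_homMk_eq {y : 𝒳.obj} {F G : Pt (uc := uc) y} (e : F = G) {m : 𝒳.p.obj y ⟶ 𝒳.p.obj y}
    (hm : m = 𝟙 _) (h : m ≫ G.1 = F.1) :
    uc.map (Over.homMk m h : Over.mk F.1 ⟶ Over.mk G.1) ≫ G.2.1 = F.2.1 ≫ 𝟙 y := by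
  subst e
  rw [map_homMk_id _ _ hm, Category.id_comp, Category.comp_id]

/-- The last point of a tuple split off. -/
noncomputable def split : TupCat uc (Fin (n + 1 + 1)) ⥤ᵇ fp (forget uc (Fin (n + 1))) uc where
  toFunctor :=
    { obj := fun t => FibProd.objMk ((reindex uc Fin.castSucc).obj t) (Over.mk (t.a (Fin.last _)))
        (@asIso _ _ _ _ (t.φ (Fin.last _)) (isIso_φ h𝒳 t _)).symm (by
          have := t.hφ (Fin.last _)
          have := isIso_φ h𝒳 t (Fin.last _)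
          exact (IsHomLift.lift_id_inv_isIso 𝒳.p (𝒳.p.obj t.y) (t.φ (Fin.last _)) :
            𝒳.p.IsHomLift (𝟙 (𝒳.p.obj t.y)) (inv (t.φ (Fin.last _)))))
      map := fun {s t} g => FibProd.homMk ((reindex uc Fin.castSucc).map g) (Over.homMk _ (g.ha (Fin.last _))) (by
        have := isIso_φ h𝒳 s (Fin.last _)
        have := isIso_φ h𝒳 t (Fin.last _)
        show g.f ≫ inv (t.φ (Fin.last _)) = inv (s.φ (Fin.last _)) ≫ uc.map _
        rw [IsIso.eq_inv_comp, ← Category.assoc, IsIso.comp_inv_eq]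
        exact (g.w (Fin.last _)).symm)
      map_id := fun t => FibProd.hom_ext rfl (Over.OverMorphism.ext (𝒳.p.map_id t.y))
      map_comp := fun g h => FibProd.hom_ext rfl (Over.OverMorphism.ext (𝒳.p.map_comp g.f h.f)) }
  w := rfl

include h𝒳 in
theorem isEquivOver_split : IsEquivOver (split (n := n) (uc := uc) h𝒳) := by
  have : (split (n := n) (uc := uc) h𝒳).toFunctor.Faithful :=
    ⟨fun {s t} {g h} e => Tup.hom_ext (congrArg (fun q => q.hom.fst.f) e)⟩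
  have : (split (n := n) (uc := uc) h𝒳).toFunctor.Full := ⟨fun {s t} q => by
    let g := q.hom.fst
    let m := q.hom.snd
    have hm : 𝒳.p.map g.f = m.left :=
      @IsHomLift.eq_of_isHomLift _ _ _ _ (overCat U).p ((split h𝒳).obj s).obj.snd ((split h𝒳).obj t).obj.snd
        (𝒳.p.map g.f) m (FibCat.fp_isHomLift_snd (forget uc (Fin (n + 1))) uc q)
    have hal : 𝒳.p.map g.f ≫ t.a (Fin.last _) = s.a (Fin.last _) :=
      (congrArg (· ≫ t.a (Fin.last _)) hm).trans (Over.w m)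
    have hwl : uc.map (Over.homMk (𝒳.p.map g.f) hal : Over.mk (s.a (Fin.last _)) ⟶ Over.mk (t.a (Fin.last _))) ≫
        t.φ (Fin.last _) = s.φ (Fin.last _) ≫ g.f := by
      have := isIso_φ h𝒳 s (Fin.last _)
      have := isIso_φ h𝒳 t (Fin.last _)
      have e : g.f ≫ inv (t.φ (Fin.last _)) = inv (s.φ (Fin.last _)) ≫ uc.map m := q.hom.w
      rw [IsIso.eq_inv_comp, ← Category.assoc, IsIso.comp_inv_eq] at e
      exact (congrArg (fun z => uc.map z ≫ t.φ (Fin.last _)) (Over.OverMorphism.ext hm)).trans e.symm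
    refine ⟨⟨g.f, Fin.lastCases hal g.ha, fun i => ?_⟩, FibProd.hom_ext rfl (Over.OverMorphism.ext hm)⟩
    induction i using Fin.lastCases with
    | last => exact hwl
    | cast j => exact g.w j⟩
  refine isEquivOver_of _ fun x => ?_
  obtain ⟨⟨t', g, i⟩, hi⟩ := x
  have hd : 𝒳.p.IsHomLift (𝟙 (𝒳.p.obj t'.y)) i.inv := haveI : 𝒳.p.IsHomLift (𝟙 (𝒳.p.obj t'.y)) i.hom := hi; IsHomLift.lift_id_inv 𝒳.p _ i
  have he : 𝒳.p.obj t'.y = g.left :=
    (IsHomLift.domain_eq 𝒳.p (𝟙 (𝒳.p.obj t'.y)) i.inv).symm.trans (uc.w_obj g)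
  let m : Over.mk (eqToHom he ≫ g.hom) ⟶ g := Over.homMk (eqToHom he) rfl
  have hL : 𝒳.p.IsHomLift (𝟙 (𝒳.p.obj t'.y)) (uc.map m ≫ i.inv) := by
    have : (overCat U).p.IsHomLift (eqToHom he) m := IsHomLift.map (overCat U).p m
    have : 𝒳.p.IsHomLift (eqToHom he) (uc.map m) := inferInstance
    refine IsHomLift.of_fac' _ _ _ (uc.w_obj _) rfl ?_
    rw [Functor.map_comp, IsHomLift.fac' 𝒳.p (eqToHom he) (uc.map m), IsHomLift.fac' 𝒳.p (𝟙 (𝒳.p.obj t'.y)) i.inv]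
    simp
  let F : Fin (n + 1 + 1) → Pt (uc := uc) t'.y :=
    Fin.lastCases ⟨eqToHom he ≫ g.hom, uc.map m ≫ i.inv, hL⟩ fun j => ⟨t'.a j, t'.φ j, t'.hφ j⟩
  let ξ : Tup uc (Fin (n + 1 + 1)) := ⟨t'.y, fun j => (F j).1, fun j => (F j).2.1, fun j => (F j).2.2⟩
  have hF : ∀ j, F (Fin.castSucc j) = ⟨t'.a j, t'.φ j, t'.hφ j⟩ := fun j => Fin.lastCases_castSucc _
  have hl : F (Fin.last _) = ⟨eqToHom he ≫ g.hom, uc.map m ≫ i.inv, hL⟩ := Fin.lastCases_last
  let f₁ : (reindex uc Fin.castSucc).obj ξ ⟶ t' :=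
    ⟨𝟙 t'.y, fun j => ((congrArg (· ≫ t'.a j) (𝒳.p.map_id t'.y)).trans (Category.id_comp _)).trans
      (congrArg Sigma.fst (hF j)).symm,
    fun j => map_homMk_eq (hF j) (𝒳.p.map_id _) _⟩
  have hf₁ : (TupCat uc (Fin (n + 1))).p.IsHomLift (𝟙 (𝒳.p.obj t'.y)) f₁ :=
    (𝒳.p.map_id t'.y) ▸ IsHomLift.map (TupCat uc (Fin (n + 1))).p f₁
  haveI : IsIso f₁ := isIso_of_isHomLift_id (grpd_tup h𝒳) (R := 𝒳.p.obj t'.y) f₁
  have hal : eqToHom he ≫ g.hom = ξ.a (Fin.last _) := (congrArg Sigma.fst hl).symm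
  refine ⟨ξ, FibProd.exists_iso_over (asIso f₁) (Over.isoMk (eqToIso he) hal) ?_ hf₁⟩
  haveI := isIso_φ h𝒳 ξ (Fin.last _)
  show 𝟙 t'.y ≫ i.hom = inv (ξ.φ (Fin.last _)) ≫ uc.map _
  rw [Category.id_comp, IsIso.eq_inv_comp]
  have key : ∀ (G : Pt (uc := uc) t'.y), G = ⟨eqToHom he ≫ g.hom, uc.map m ≫ i.inv, hL⟩ →
      ∀ h : eqToHom he ≫ g.hom = G.1, G.2.1 ≫ i.hom = uc.map (Over.homMk (eqToHom he) h : Over.mk G.1 ⟶ g) := by
    rintro G rfl h
    simp [m]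
  exact key _ hl hal

include h𝒳 in
/-- The category of tuples is an algebraic space, smooth over the stack. -/
theorem rep_tup (hu : RepByAlgSpWith (AlgSp.LocP @Smooth) uc) :
    ∀ n : ℕ, RepByAlgSp (TupCat uc (Fin (n + 1))) ∧
      RepByAlgSpWith (AlgSp.LocP @Smooth) (forget uc (Fin (n + 1))) := by
  intro n
  induction n with
  | zero =>
    refine ⟨Rep.repByAlgSp_of_equiv' (isEquivOver_toChart h𝒳) (Diag.repByAlgSp_overCat U), ?_⟩
    obtain ⟨η⟩ := nonempty_toChart_iso (uc := uc) h𝒳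
    exact (Rep.repByAlgSpWith_iff_of_isEquivOver (f := uc) (f' := forget uc (Fin 1)) (isEquivOver_toChart h𝒳)
      (BasedBasic.isEquivOver_id (𝒳 := 𝒳)) η.symm).1 hu
  | succ n ih =>
    obtain ⟨⟨P, e, he⟩, hs⟩ := ih
    haveI : (BasedFunctor.id 𝒳).toFunctor.Full := inferInstanceAs (𝟭 𝒳.obj).Full
    haveI : (BasedFunctor.id 𝒳).toFunctor.Faithful := inferInstanceAs (𝟭 𝒳.obj).Faithful
    have h1 := isEquivOver_split (n := n) (uc := uc) h𝒳
    refine ⟨Rep.repByAlgSp_of_equiv' h1 ?_, ?_⟩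
    · exact Space.repByAlgSp_fp_ofSp (Yoneda.isFibGrpd_overCat U) h𝒳 (Rep.repByAlgSp1_of_repByAlgSpWith hu) (F := P)
        (BasedFunctor.comp e (forget uc (Fin (n + 1)))) |> fun h => Rep.repByAlgSp_of_equiv
          (FibProd.isEquivOver_fpMap e (BasedFunctor.id (overCat U)) (BasedFunctor.id 𝒳)
            (F := forget uc (Fin (n + 1))) (G := uc) (F' := BasedFunctor.comp e (forget uc (Fin (n + 1)))) (G' := uc)
            (Iso.refl _) (Iso.refl _) he BasedBasic.isEquivOver_id) h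
    · have hc := IsAlgFp.comp_locP SourceDescent.Scheme.smooth
        (FibProd.isFibGrpd_fp (grpd_tup h𝒳) (Yoneda.isFibGrpd_overCat U) h𝒳) (grpd_tup h𝒳)
        (Rep.repByAlgSpWith_fpFst (forget uc (Fin (n + 1))) hu) hs
      exact (Rep.repByAlgSpWith_iff_of_isEquivOver
        (f := BasedFunctor.comp (fpFst (forget uc (Fin (n + 1))) uc) (forget uc (Fin (n + 1))))
        (f' := forget uc (Fin (n + 1 + 1))) h1 (BasedBasic.isEquivOver_id (𝒳 := 𝒳)) (Iso.refl _)).1 hc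

end Step

end Groth.Agent.Lib.HensChart.StackTuples
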