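import Groth.Prelude.Def_AlgSt2
import Groth.Agent.Lib.Fibred.Descent
import Groth.Agent.Lib.AlgStack.BasedBasic
import Groth.Agent.Lib.FreeAct.Basic

/-!
# Descent of objects of a stack along finite etale torsors

A functor `x' : (Sch/W) ⟶ 𝒳` linearised for a free action of a group on `W` with quotient `M`
descends to `(Sch/M)`.
-/

set_option autoImplicit false
set_option backward.isDefEq.respectTransparency false
set_option backward.isDefEq.respectTransparency.types false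
set_option linter.style.haveILetI false

universe u

open CategoryTheory CategoryTheory.Limits AlgebraicGeometry

namespace Groth.Agent.Lib.HensChart.TorsorDescent

open Lib.Fibred.Descent Lib.Fibred.Yoneda
open FibCat (IsFibGrpd overCat)
open FreeAct (sub subι)

variable {S : Scheme.{u}} {J : GrothendieckTopology (Over S)} {𝒳 : AlgSt.Cat S}

/-- A topology containing the Zariski coverings. -/
def Fine (J : GrothendieckTopology (Over S)) : Prop :=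
  ∀ ⦃T : Over S⦄ (R : Sieve T), (∀ x : T.left, ∃ V : T.left.Opens, x ∈ V ∧ R (subι V)) → R ∈ J T

/-- Morphisms of the stack which agree locally on the source are equal. -/
theorem eq_of_local (h𝒳 : Stk.IsStack J 𝒳) (hJ : Fine J) {T' T : Over S} {m : T' ⟶ T} {ξ η : 𝒳.obj}
    (a b : ξ ⟶ η) (ha : 𝒳.p.IsHomLift m a) (hb : 𝒳.p.IsHomLift m b)
    (h : ∀ x : T'.left, ∃ V : T'.left.Opens, x ∈ V ∧
      ∃ (z : 𝒳.obj) (ψ : z ⟶ ξ), 𝒳.p.IsHomLift (subι V) ψ ∧ ψ ≫ a = ψ ≫ b) : a = b := by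
  have hg := h𝒳.1
  have hξ : 𝒳.p.obj ξ = T' := IsHomLift.domain_eq 𝒳.p m a
  have hη : 𝒳.p.obj η = T := IsHomLift.codomain_eq 𝒳.p m a
  obtain ⟨η', ω, hω⟩ := Lib.Fibred.Descent.exists_lift hg hη m
  obtain ⟨α, hα, hαe⟩ := exists_factor hg ω hω a ha
  obtain ⟨β, hβ, hβe⟩ := exists_factor hg ω hω b hb
  let R : Sieve T' :=
    { arrows := fun V f => ∀ ⦃z : 𝒳.obj⦄ (ψ : z ⟶ ξ), 𝒳.p.IsHomLift f ψ → ψ ≫ a = ψ ≫ b
      downward_closed := fun {V V' f} hf g z' ψ' hψ' => by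
        obtain ⟨z, ψ, hψ⟩ := Lib.Fibred.Descent.exists_lift hg hξ f
        have := cart hg ψ hψ
        obtain ⟨ρ, ⟨-, rfl⟩, -⟩ :=
          Functor.IsStronglyCartesian.universal_property 𝒳.p f ψ g (g ≫ f) rfl ψ'
        rw [Category.assoc, Category.assoc, hf ψ hψ] }
  have hR : R ∈ J T' := hJ R fun x => by
    obtain ⟨V, hx, z, ψ, hψ, e⟩ := h x
    refine ⟨V, hx, fun z' ψ' hψ' => ?_⟩
    obtain ⟨ρ, -, rfl⟩ := exists_factor hg ψ hψ ψ' hψ'
    rw [Category.assoc, Category.assoc, e]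
  rw [← hαe, ← hβe]
  congr 1
  refine ((isStackFor_iff hg).1 (h𝒳.2 R hR)).1 α β hα hβ fun V f hf z ψ hψ => ?_
  refine ext_lift hg ω hω (g := f) inferInstance inferInstance ?_
  rw [Category.assoc, Category.assoc, hαe, hβe]
  exact hf ψ hψ

/-- A quotient by a free action. -/
structure Torsor (W M : Over S) (G : Type u) [Group G] where
  q : W ⟶ M
  d : G → (W ⟶ W)
  dq : ∀ g, d g ≫ q = q
  d_mul : ∀ g h, d (g * h) = d h ≫ d g
  d_one : d 1 = 𝟙 W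
  free : ∀ {T : Over S} (a : T ⟶ W) (_ : T.left) (g : G), a ≫ d g = a → g = 1
  loc : ∀ {T : Over S} (h h' : T ⟶ W), h ≫ q = h' ≫ q → ∀ x : T.left, ∃ (V : T.left.Opens) (g : G),
    x ∈ V ∧ subι V ≫ h ≫ d g = subι V ≫ h'

variable {W M : Over S} {G : Type u} [Group G] (t : Torsor W M G)

theorem Torsor.eq_of_comp_eq {T : Over S} (a : T ⟶ W) (x : T.left) {g h : G} (e : a ≫ t.d g = a ≫ t.d h) : g = h :=
  inv_mul_eq_one.1 (t.free a x (g⁻¹ * h) (by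
    rw [t.d_mul, ← Category.assoc, ← e, Category.assoc, ← t.d_mul, inv_mul_cancel, t.d_one, Category.comp_id]))

/-- A linearisation of a functor on `(Sch/W)`. -/
structure Lin (x' : overCat W ⥤ᵇ 𝒳) where
  θ : ∀ {f' f : Over W} (g : G) (m : f'.left ⟶ f.left), f'.hom ≫ t.d g = m ≫ f.hom → (x'.obj f' ⟶ x'.obj f)
  lifts : ∀ {f' f : Over W} (g : G) (m : f'.left ⟶ f.left) (e : f'.hom ≫ t.d g = m ≫ f.hom),
    𝒳.p.IsHomLift m (θ g m e)
  comp : ∀ {f'' f' f : Over W} (g k : G) (m : f''.left ⟶ f'.left) (m' : f'.left ⟶ f.left)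
    (e : f''.hom ≫ t.d g = m ≫ f'.hom) (e' : f'.hom ≫ t.d k = m' ≫ f.hom)
    (e'' : f''.hom ≫ t.d (k * g) = (m ≫ m') ≫ f.hom), θ g m e ≫ θ k m' e' = θ (k * g) (m ≫ m') e''
  one : ∀ {f' f : Over W} (φ : f' ⟶ f) (e : f'.hom ≫ t.d 1 = φ.left ≫ f.hom), x'.map φ = θ 1 φ.left e

variable {t} {x' : overCat W ⥤ᵇ 𝒳} (L : Lin t x')

theorem Lin.θ_congr {f' f : Over W} {g g' : G} {m m' : f'.left ⟶ f.left} (hg : g = g') (hm : m = m')
    (e : f'.hom ≫ t.d g = m ≫ f.hom) (e' : f'.hom ≫ t.d g' = m' ≫ f.hom) : L.θ g m e = L.θ g' m' e' := by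
  subst hg hm; rfl

theorem map_lifts (x' : overCat W ⥤ᵇ 𝒳) {f' f : Over W} (φ : f' ⟶ f) : 𝒳.p.IsHomLift φ.left (x'.map φ) :=
  haveI : (overCat W).p.IsHomLift φ.left φ := IsHomLift.map (overCat W).p φ
  inferInstance

include L in
theorem Lin.map_comp_θ {f'' f' f : Over W} (φ : f'' ⟶ f') (g : G) (m : f'.left ⟶ f.left)
    (e : f'.hom ≫ t.d g = m ≫ f.hom) (e' : f''.hom ≫ t.d g = (φ.left ≫ m) ≫ f.hom) :
    x'.map φ ≫ L.θ g m e = L.θ g (φ.left ≫ m) e' := by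
  rw [L.one φ (by rw [t.d_one, Category.comp_id]; exact (Over.w φ).symm),
    L.comp 1 g φ.left m _ e (by rw [mul_one]; exact e')]
  exact L.θ_congr (mul_one g) rfl _ _

include L in
theorem Lin.θ_map {f'' f' f : Over W} (g : G) (m : f''.left ⟶ f'.left) (e : f''.hom ≫ t.d g = m ≫ f'.hom)
    (φ : f' ⟶ f) (e' : f''.hom ≫ t.d g = (m ≫ φ.left) ≫ f.hom) :
    L.θ g m e ≫ x'.map φ = L.θ g (m ≫ φ.left) e' := by
  rw [L.one φ (by rw [t.d_one, Category.comp_id]; exact (Over.w φ).symm),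
    L.comp g 1 m φ.left e _ (by rw [one_mul]; exact e')]
  exact L.θ_congr (one_mul g) rfl _ _

variable (h𝒳 : Stk.IsStack J 𝒳) (hJ : Fine J)

include h𝒳 hJ in
theorem Lin.θ_indep {f' f : Over W} (g g' : G) (m : f'.left ⟶ f.left) (e : f'.hom ≫ t.d g = m ≫ f.hom)
    (e' : f'.hom ≫ t.d g' = m ≫ f.hom) : L.θ g m e = L.θ g' m e' := by
  by_cases hne : Nonempty ↥(f'.left).left
  · obtain ⟨x⟩ := hne
    exact L.θ_congr (t.eq_of_comp_eq f'.hom x (e.trans e'.symm)) rfl _ _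
  · exact eq_of_local h𝒳 hJ _ _ (L.lifts g m e) (L.lifts g' m e') fun x => (hne ⟨x⟩).elim

/-- The morphisms of the descent datum. -/
structure Good {f' f : Over W} (m : f'.left ⟶ f.left) (F : x'.obj f' ⟶ x'.obj f) : Prop where
  lifts : 𝒳.p.IsHomLift m F
  eq : ∀ {f₀ : Over W} (φ : f₀ ⟶ f') (g : G) (e : f₀.hom ≫ t.d g = (φ.left ≫ m) ≫ f.hom),
    x'.map φ ≫ F = L.θ g (φ.left ≫ m) e

/-- The restriction of an object to an open. -/
abbrev res (f : Over W) (V : f.left.left.Opens) : Over W := Over.mk (subι V ≫ f.hom)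

/-- Its inclusion. -/
abbrev resι (f : Over W) (V : f.left.left.Opens) : res f V ⟶ f := Over.homMk (subι V) rfl

include h𝒳 hJ in
theorem good_unique {f' f : Over W} {m : f'.left ⟶ f.left} (hm : f'.hom ≫ t.q = (m ≫ f.hom) ≫ t.q)
    {F F' : x'.obj f' ⟶ x'.obj f} (hF : Good L m F) (hF' : Good L m F') : F = F' := by
  refine eq_of_local h𝒳 hJ F F' hF.lifts hF'.lifts fun x => ?_
  obtain ⟨V, g, hx, e⟩ := t.loc f'.hom (m ≫ f.hom) hm x
  have e' : (res f' V).hom ≫ t.d g = ((resι f' V).left ≫ m) ≫ f.hom := by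
    simp only [Over.mk_hom, Over.homMk_left, Category.assoc]
    exact e
  exact ⟨V, hx, x'.obj (res f' V), x'.map (resι f' V), map_lifts x' (resι f' V),
    (hF.eq (resι f' V) g e').trans (hF'.eq (resι f' V) g e').symm⟩

include h𝒳 hJ in
theorem good_θ {f' f : Over W} (g : G) (m : f'.left ⟶ f.left) (e : f'.hom ≫ t.d g = m ≫ f.hom) :
    Good L m (L.θ g m e) where
  lifts := L.lifts g m e
  eq {f₀} φ g' e' := by
    rw [L.map_comp_θ φ g m e (by rw [Category.assoc, ← e, ← Category.assoc, Over.w φ])]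
    exact L.θ_indep h𝒳 hJ _ _ _ _ _

include h𝒳 hJ in
theorem good_comp {f'' f' f : Over W} {m : f''.left ⟶ f'.left} {m' : f'.left ⟶ f.left}
    (hm : f''.hom ≫ t.q = (m ≫ f'.hom) ≫ t.q)
    {F : x'.obj f'' ⟶ x'.obj f'} {F' : x'.obj f' ⟶ x'.obj f} (hF : Good L m F) (hF' : Good L m' F') :
    Good L (m ≫ m') (F ≫ F') := by
  have := hF.lifts
  have := hF'.lifts
  refine ⟨inferInstance, fun {f₀} φ g e => ?_⟩
  have := map_lifts x' φ
  refine eq_of_local h𝒳 hJ _ _ (inferInstance : 𝒳.p.IsHomLift (φ.left ≫ m ≫ m') _) (L.lifts g _ e) fun x => ?_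
  obtain ⟨V, g₁, hx, e₁⟩ := t.loc f₀.hom (φ.left ≫ m ≫ f'.hom) (by
    rw [← Over.w φ, Category.assoc, hm]; simp only [Category.assoc]) x
  refine ⟨V, hx, x'.obj (res f₀ V), x'.map (resι f₀ V), map_lifts x' (resι f₀ V), ?_⟩
  let f₁ : Over W := Over.mk (subι V ≫ φ.left ≫ m ≫ f'.hom)
  let ψ : f₁ ⟶ f' := Over.homMk (subι V ≫ φ.left ≫ m) (by simp [f₁])
  have ea : (res f₀ V).hom ≫ t.d g₁ = 𝟙 (sub V) ≫ f₁.hom := by
    rw [Category.id_comp]
    simp only [Over.mk_hom, f₁, Category.assoc]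
    exact e₁
  have hb : (res f₀ V).hom ≫ t.d g = (subι V ≫ φ.left ≫ m ≫ m') ≫ f.hom := by
    simp only [Over.mk_hom, Category.assoc, e]
  have eb : f₁.hom ≫ t.d (g * g₁⁻¹) = (ψ.left ≫ m') ≫ f.hom := by
    have h1 : f₁.hom = (res f₀ V).hom ≫ t.d g₁ := by rw [ea, Category.id_comp]
    rw [h1, Category.assoc, ← t.d_mul, inv_mul_cancel_right]
    simp only [ψ, Over.homMk_left, Category.assoc]
    simpa only [Category.assoc] using hb
  let χ : res f₀ V ⟶ f'' := Over.homMk (subι V ≫ φ.left) (by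
    show (subι V ≫ φ.left) ≫ f''.hom = subι V ≫ f₀.hom
    rw [Category.assoc, Over.w φ])
  have ec : (res f₀ V).hom ≫ t.d g₁ = (χ.left ≫ m) ≫ f'.hom := by
    show (subι V ≫ f₀.hom) ≫ t.d g₁ = ((subι V ≫ φ.left) ≫ m) ≫ f'.hom
    simp only [Category.assoc]
    exact e₁
  have ed : (res f₀ V).hom ≫ t.d g₁ = (𝟙 (sub V) ≫ ψ.left) ≫ f'.hom := by
    show (subι V ≫ f₀.hom) ≫ t.d g₁ = (𝟙 (sub V) ≫ subι V ≫ φ.left ≫ m) ≫ f'.hom
    simp only [Category.id_comp, Category.assoc]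
    exact e₁
  have p1 : x'.map χ ≫ F = L.θ (f' := res f₀ V) (f := f') g₁ (χ.left ≫ m) ec := hF.eq χ g₁ ec
  have p2 : L.θ (f' := res f₀ V) (f := f') g₁ (χ.left ≫ m) ec =
      L.θ (f' := res f₀ V) (f := f') g₁ (𝟙 (sub V) ≫ ψ.left) ed := by
    refine L.θ_congr rfl ?_ ec ed
    show (subι V ≫ φ.left) ≫ m = 𝟙 (sub V) ≫ subι V ≫ φ.left ≫ m
    rw [Category.id_comp, Category.assoc]
  have p3 := L.θ_map (f'' := res f₀ V) (f' := f₁) (f := f') g₁ (𝟙 (sub V)) ea ψ ed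
  have h1 : x'.map χ ≫ F = L.θ (f' := res f₀ V) (f := f₁) g₁ (𝟙 (sub V)) ea ≫ x'.map ψ := by rw [p1, p2, p3]
  have hχ : x'.map (resι f₀ V) ≫ x'.map φ = x'.map χ :=
    (x'.toFunctor.map_comp _ _).symm.trans (congrArg x'.map (Over.OverMorphism.ext rfl))
  have ef : (res f₀ V).hom ≫ t.d (g * g₁⁻¹ * g₁) = (𝟙 (sub V) ≫ ψ.left ≫ m') ≫ f.hom := by
    rw [inv_mul_cancel_right]
    show (res f₀ V).hom ≫ t.d g = (𝟙 (sub V) ≫ (subι V ≫ φ.left ≫ m) ≫ m') ≫ f.hom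
    rw [hb]
    simp only [Category.id_comp, Category.assoc]
  have eg : (res f₀ V).hom ≫ t.d g = (subι V ≫ φ.left ≫ m ≫ m') ≫ f.hom := hb
  have hF' := hF'.eq ψ (g * g₁⁻¹) eb
  have p4 := L.comp (f'' := res f₀ V) (f' := f₁) (f := f) g₁ (g * g₁⁻¹) (𝟙 (sub V)) (ψ.left ≫ m') ea eb ef
  have p5 : L.θ (f' := res f₀ V) (f := f) (g * g₁⁻¹ * g₁) (𝟙 (sub V) ≫ ψ.left ≫ m') ef =
      L.θ (f' := res f₀ V) (f := f) g (subι V ≫ φ.left ≫ m ≫ m') eg := by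
    refine L.θ_congr (inv_mul_cancel_right g g₁) ?_ _ _
    show 𝟙 (sub V) ≫ (subι V ≫ φ.left ≫ m) ≫ m' = subι V ≫ φ.left ≫ m ≫ m'
    simp only [Category.id_comp, Category.assoc]
  have p6 : x'.map (resι f₀ V) ≫ L.θ g (φ.left ≫ m ≫ m') e =
      L.θ (f' := res f₀ V) (f := f) g (subι V ≫ φ.left ≫ m ≫ m') eg := L.map_comp_θ (resι f₀ V) g _ e eg
  rw [p6, ← p5, ← p4, ← hF', (reassoc_of% hχ) (F ≫ F'), (reassoc_of% h1) F']

include h𝒳 hJ in
theorem exists_good (f' f : Over W) (m : f'.left ⟶ f.left) (hm : f'.hom ≫ t.q = (m ≫ f.hom) ≫ t.q) :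
    ∃ F, Good L m F := by
  have hg := h𝒳.1
  let R : Sieve f'.left :=
    { arrows := fun V k => ∃ g, (k ≫ f'.hom) ≫ t.d g = (k ≫ m) ≫ f.hom
      downward_closed := fun {V V' k} ⟨g, e⟩ l => ⟨g, by simp only [Category.assoc] at e ⊢; rw [e]⟩ }
  have hR : R ∈ J f'.left := hJ R fun x => by
    obtain ⟨V, g, hx, e⟩ := t.loc f'.hom (m ≫ f.hom) hm x
    exact ⟨V, hx, g, by simpa only [Category.assoc] using e⟩
  have hη : 𝒳.p.obj (x'.obj f) = f.left := x'.w_obj f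
  have hξ : 𝒳.p.obj (x'.obj f') = f'.left := x'.w_obj f'
  obtain ⟨η', ω, hω⟩ := Lib.Fibred.Descent.exists_lift hg hη m
  let obj : ∀ {V : Over S} (k : V ⟶ f'.left), Over W := fun k => Over.mk (k ≫ f'.hom)
  let mor : ∀ {V : Over S} (k : V ⟶ f'.left), obj k ⟶ f' := fun k => Over.homMk k rfl
  have ex : ∀ ⦃V : Over S⦄ (k : V ⟶ f'.left), R k → ∀ ⦃z : 𝒳.obj⦄ (ψ : z ⟶ x'.obj f'), 𝒳.p.IsHomLift k ψ →
      ∃ v : z ⟶ η', 𝒳.p.IsHomLift k v ∧ ∀ (ρ : z ⟶ x'.obj (obj k)), 𝒳.p.IsHomLift (𝟙 V) ρ →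
        ρ ≫ x'.map (mor k) = ψ → ∀ (g : G) (e : (obj k).hom ≫ t.d g = (k ≫ m) ≫ f.hom),
          v ≫ ω = ρ ≫ L.θ g (k ≫ m) e := by
    intro V k ⟨g, e⟩ z ψ hψ
    have := map_lifts x' (mor k)
    obtain ⟨ρ, hρ, hρe⟩ := exists_factor hg (x'.map (mor k)) ‹_› ψ hψ
    have := L.lifts (f' := obj k) (f := f) g (k ≫ m) e
    have hl : 𝒳.p.IsHomLift (k ≫ m) (ρ ≫ L.θ (f' := obj k) (f := f) g (k ≫ m) e) :=
      IsHomLift.comp_lift_id_left' 𝒳.p V ρ (k ≫ m) _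
    have := cart hg ω hω
    obtain ⟨v, ⟨hv, hve⟩, -⟩ := Functor.IsStronglyCartesian.universal_property 𝒳.p m ω k (k ≫ m) rfl
      (ρ ≫ L.θ (f' := obj k) (f := f) g (k ≫ m) e)
    refine ⟨v, hv, fun ρ' hρ' hρ'e g' e' => ?_⟩
    rw [hve, ext_lift hg (x'.map (mor k)) ‹_› hρ hρ' (hρe.trans hρ'e.symm)]
    exact congrArg _ (L.θ_indep h𝒳 hJ _ _ _ _ _)
  choose c hc hce using ex
  obtain ⟨a, ha, hae⟩ := ((isStackFor_iff hg).1 (h𝒳.2 R hR)).2.1 hξ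
    (IsHomLift.domain_eq 𝒳.p m ω) c ⟨hc, fun V k hk z ψ hψ V' l z' r hr hψ' => by
      obtain ⟨g, e⟩ := hk
      have := map_lifts x' (mor k)
      obtain ⟨ρ, hρ, hρe⟩ := exists_factor hg (x'.map (mor k)) ‹_› ψ hψ
      have := map_lifts x' (mor (l ≫ k))
      obtain ⟨ρ', hρ', hρ'e⟩ := exists_factor hg (x'.map (mor (l ≫ k))) ‹_› (r ≫ ψ) hψ'
      let lm : obj (l ≫ k) ⟶ obj k := Over.homMk l (by simp [obj])
      have hlm : 𝒳.p.IsHomLift l (x'.map lm) := map_lifts x' lm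
      have key : r ≫ ρ = ρ' ≫ x'.map lm := by
        refine ext_lift hg (x'.map (mor k)) (map_lifts x' (mor k)) (g := l) inferInstance ?_ ?_
        · exact IsHomLift.comp_lift_id_left' 𝒳.p V' ρ' l (x'.map lm)
        · rw [Category.assoc, hρe, Category.assoc, ← x'.toFunctor.map_comp,
            show lm ≫ mor k = mor (l ≫ k) from Over.OverMorphism.ext rfl, hρ'e]
      have := hc k ⟨g, e⟩ ψ hψ
      refine ext_lift hg ω hω (g := l ≫ k) (hc _ _ _ _) inferInstance ?_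
      have e₁ : (obj (l ≫ k)).hom ≫ t.d g = ((l ≫ k) ≫ m) ≫ f.hom := by
        simpa only [obj, Over.mk_hom, Category.assoc] using congrArg (l ≫ ·) e
      have e₂ : (obj (l ≫ k)).hom ≫ t.d g = (lm.left ≫ k ≫ m) ≫ f.hom := by
        simpa only [obj, Over.mk_hom, lm, Over.homMk_left, Category.assoc] using congrArg (l ≫ ·) e
      calc c (l ≫ k) _ (r ≫ ψ) hψ' ≫ ω = ρ' ≫ L.θ g ((l ≫ k) ≫ m) e₁ :=
            hce (l ≫ k) _ (r ≫ ψ) hψ' ρ' hρ' hρ'e g e₁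
        _ = ρ' ≫ x'.map lm ≫ L.θ g (k ≫ m) e := by
            rw [L.map_comp_θ lm g (k ≫ m) e e₂]
            exact congrArg _ (L.θ_congr rfl (Category.assoc l k m) _ _)
        _ = r ≫ ρ ≫ L.θ g (k ≫ m) e := ((reassoc_of% key) _).symm
        _ = r ≫ c k ⟨g, e⟩ ψ hψ ≫ ω := congrArg (r ≫ ·) (hce k ⟨g, e⟩ ψ hψ ρ hρ hρe g e).symm
        _ = (r ≫ c k ⟨g, e⟩ ψ hψ) ≫ ω := (Category.assoc _ _ _).symm⟩
  have := hω
  have hA : 𝒳.p.IsHomLift m (a ≫ ω) := IsHomLift.comp_lift_id_left' 𝒳.p f'.left a m ω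
  refine ⟨a ≫ ω, hA, fun {f₀} φ g e => ?_⟩
  have hk : R φ.left := ⟨g, by rw [Over.w φ]; exact e⟩
  have := map_lifts x' φ
  rw [← Category.assoc, hae φ.left hk (x'.map φ) (map_lifts x' φ)]
  let i : f₀ ⟶ obj φ.left := Over.homMk (𝟙 f₀.left) (by simp [obj])
  rw [hce φ.left hk (x'.map φ) (map_lifts x' φ) (x'.map i) (map_lifts x' i)
    (by rw [← x'.toFunctor.map_comp]; exact congrArg x'.map (Over.OverMorphism.ext (Category.id_comp _))) g
    (by simp only [obj, Over.mk_hom, Over.w φ]; exact e),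
    L.map_comp_θ i g (φ.left ≫ m) _ (by simp only [i, Over.homMk_left, Category.id_comp]; exact e)]
  exact L.θ_congr rfl (Category.id_comp _) _ _

include h𝒳 hJ in
/-- A linearised functor descends along the quotient map. -/
theorem exists_desc (hq : Sieve.ofArrows (fun _ : PUnit.{u + 1} => W) (fun _ => t.q) ∈ J M) :
    ∃ (y : overCat M ⥤ᵇ 𝒳) (β : ∀ f : Over W, y.obj (Over.mk (f.hom ≫ t.q)) ⟶ x'.obj f),
      (∀ f, 𝒳.p.IsHomLift (𝟙 f.left) (β f)) ∧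
      ∀ {f' f : Over W} (g : G) (m : f'.left ⟶ f.left) (e : f'.hom ≫ t.d g = m ≫ f.hom)
        (φ : Over.mk (f'.hom ≫ t.q) ⟶ Over.mk (f.hom ≫ t.q)), φ.left = m → y.map φ ≫ β f = β f' ≫ L.θ g m e := by
  have hg := h𝒳.1
  let R := Sieve.ofArrows (fun _ : PUnit.{u + 1} => W) (fun _ => t.q)
  have hlift : ∀ a : (Stk.sieveCat R).obj, ∃ h : a.obj.left ⟶ W, h ≫ t.q = a.obj.hom := fun a => by
    obtain ⟨-, h, e⟩ := (Sieve.mem_ofArrows_iff _ _ _).1 a.property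
    exact ⟨h, e.symm⟩
  choose h he using hlift
  have hq' : ∀ {a b : (Stk.sieveCat R).obj} (m : a ⟶ b),
      (Over.mk (h a)).hom ≫ t.q = (m.hom.left ≫ (Over.mk (h b)).hom) ≫ t.q := fun {a b} m => by
    simp only [Over.mk_hom, Category.assoc, he]
    exact (Over.w m.hom).symm
  choose F hF using fun (a b : (Stk.sieveCat R).obj) (m : a ⟶ b) =>
    exists_good L h𝒳 hJ (Over.mk (h a)) (Over.mk (h b)) m.hom.left (hq' m)
  let H : Stk.sieveCat R ⥤ᵇ 𝒳 :=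
    { toFunctor :=
        { obj := fun a => x'.obj (Over.mk (h a))
          map := fun {a b} m => F a b m
          map_id := fun a => good_unique L h𝒳 hJ (hq' (𝟙 a)) (hF a a (𝟙 a))
            ⟨IsHomLift.id (x'.w_obj (Over.mk (h a))), fun {f₀} φ g e => by
              rw [Category.comp_id]
              have e1 : f₀.hom ≫ t.d 1 = φ.left ≫ (Over.mk (h a)).hom := by
                rw [t.d_one, Category.comp_id]; exact (Over.w φ).symm
              rw [L.one φ e1]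
              exact (L.θ_congr rfl (Category.comp_id φ.left).symm e1 (by rw [e1]; simp)).trans
                (L.θ_indep h𝒳 hJ _ _ _ _ _)⟩
          map_comp := fun {a b c} m n => good_unique L h𝒳 hJ (hq' (m ≫ n)) (hF a c (m ≫ n))
            (good_comp L h𝒳 hJ (hq' m) (hF a b m) (hF b c n)) }
      w := CategoryTheory.Functor.ext (fun a => x'.w_obj (Over.mk (h a))) fun a b m => by
        have := (hF a b m).lifts
        exact IsHomLift.fac' 𝒳.p m.hom.left (F a b m) }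
  obtain ⟨⟨pt, hpt, ι, hι, hw⟩⟩ := ((isStackFor_iff hg).1 (h𝒳.2 R hq)).2.2 H
  obtain ⟨y, e, he'⟩ := exists_fromFiber hg hpt
  let mem : Over W → (Stk.sieveCat R).obj := fun f =>
    ⟨Over.mk (f.hom ≫ t.q), (Sieve.mem_ofArrows_iff _ _ _).2 ⟨⟨⟩, f.hom, rfl⟩⟩
  have hf : ∀ f : Over W, f.hom ≫ t.q = (𝟙 f.left ≫ (Over.mk (h (mem f))).hom) ≫ t.q := fun f => by
    rw [Category.id_comp]; exact (he (mem f)).symm
  choose K hK using fun f : Over W => exists_good L h𝒳 hJ f (Over.mk (h (mem f))) (𝟙 f.left) (hf f)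
  have hyl : ∀ f : Over W, 𝒳.p.IsHomLift (f.hom ≫ t.q) (y.map (toId (Over.mk (f.hom ≫ t.q))) ≫ e.hom) := fun f => by
    haveI : 𝒳.p.IsHomLift (f.hom ≫ t.q) (y.map (toId (Over.mk (f.hom ≫ t.q)))) :=
      toId_map_isHomLift y (Over.mk (f.hom ≫ t.q))
    haveI := he'
    infer_instance
  have hKl : ∀ f : Over W, 𝒳.p.IsHomLift (f.hom ≫ t.q) (K f ≫ ι (mem f)) := fun f => by
    have := (hK f).lifts
    haveI : 𝒳.p.IsHomLift (f.hom ≫ t.q) (ι (mem f)) := hι (mem f)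
    exact IsHomLift.comp_lift_id_left' 𝒳.p f.left (K f) (f.hom ≫ t.q) (ι (mem f))
  choose ρ hρ hρe using fun f : Over W => exists_factor hg _ (hyl f) (K f ≫ ι (mem f)) (hKl f)
  have hiso : ∀ f, IsIso (ρ f) := fun f =>
    haveI := hρ f
    Lib.AlgStack.BasedBasic.isIso_of_isHomLift_id hg (R := f.left) (ρ f)
  refine ⟨y, fun f => @inv _ _ _ _ (ρ f) (hiso f), fun f => ?_, fun {f' f} g m e₁ φ hφ => ?_⟩
  · haveI := hρ f
    haveI := hiso f
    exact IsHomLift.lift_id_inv_isIso 𝒳.p f.left (ρ f)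
  haveI := hiso f
  haveI := hiso f'
  rw [IsIso.eq_inv_comp, ← Category.assoc, IsIso.comp_inv_eq]
  subst hφ
  have := hρ f
  have := hρ f'
  have := L.lifts g φ.left e₁
  have hy : 𝒳.p.IsHomLift φ.left (y.map φ) :=
    haveI : (overCat M).p.IsHomLift φ.left φ := IsHomLift.map (overCat M).p φ
    inferInstance
  refine ext_lift hg _ (hyl f) (g := φ.left) ?_ ?_ ?_
  · exact IsHomLift.comp_lift_id_left' 𝒳.p f'.left (ρ f') φ.left (y.map φ)
  · exact IsHomLift.comp_lift_id_right' 𝒳.p φ.left (L.θ g φ.left e₁) f.left (ρ f)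
  rw [Category.assoc, ← Category.assoc (y.map φ), ← y.toFunctor.map_comp, toId_naturality, hρe f',
    Category.assoc, hρe f]
  let m' : mem f' ⟶ mem f := ObjectProperty.homMk φ
  rw [← hw m', ← Category.assoc, ← Category.assoc]
  refine congrArg (· ≫ ι (mem f)) ?_
  have hqe : f'.hom ≫ t.q = (φ.left ≫ f.hom) ≫ t.q := by rw [← e₁, Category.assoc, t.dq]
  have g1 := good_comp L h𝒳 hJ (hf f') (hK f') (hF (mem f') (mem f) m')
  have g2 := good_comp L h𝒳 hJ hqe (good_θ L h𝒳 hJ g φ.left e₁) (hK f)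
  rw [Category.comp_id] at g2
  have g1' : Good L (f' := f') (f := Over.mk (h (mem f))) φ.left (K f' ≫ F (mem f') (mem f) m') := (Category.id_comp φ.left) ▸ g1
  refine good_unique L h𝒳 hJ ?_ g1' g2
  simp only [Over.mk_hom, Category.assoc, he (mem f)]
  exact hqe.trans (Category.assoc _ _ _)

/-- Two functors on `(Sch/M)` with compatibly isomorphic restrictions are isomorphic. -/
theorem nonempty_iso_of_pullback (h𝒳 : Stk.IsStack J 𝒳) (hJ : Fine J) (t : Torsor W M G)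
    (hq : Sieve.ofArrows (fun _ : PUnit.{u + 1} => W) (fun _ => t.q) ∈ J M) (y₁ y₂ : overCat M ⥤ᵇ 𝒳)
    (β : ∀ f : Over W, y₁.obj (Over.mk (f.hom ≫ t.q)) ⟶ y₂.obj (Over.mk (f.hom ≫ t.q)))
    (hβ : ∀ f, 𝒳.p.IsHomLift (𝟙 f.left) (β f))
    (hnat : ∀ {f' f : Over W} (g : G) (m : f'.left ⟶ f.left) (_ : f'.hom ≫ t.d g = m ≫ f.hom)
      (φ : Over.mk (f'.hom ≫ t.q) ⟶ Over.mk (f.hom ≫ t.q)), φ.left = m → y₁.map φ ≫ β f = β f' ≫ y₂.map φ) :
    Nonempty (y₁ ≅ y₂) := by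
  have hg := h𝒳.1
  let R := Sieve.ofArrows (fun _ : PUnit.{u + 1} => W) (fun _ => t.q)
  have hl : ∀ (y : overCat M ⥤ᵇ 𝒳) {A B : Over M} (φ : A ⟶ B), 𝒳.p.IsHomLift φ.left (y.map φ) := fun y A B φ =>
    haveI : (overCat M).p.IsHomLift φ.left φ := IsHomLift.map (overCat M).p φ
    inferInstance
  -- the morphisms commute with all restrictions
  have nat : ∀ (f' f : Over W) (φ : Over.mk (f'.hom ≫ t.q) ⟶ Over.mk (f.hom ≫ t.q)),
      y₁.map φ ≫ β f = β f' ≫ y₂.map φ := by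
    intro f' f φ
    have := hl y₁ φ
    have := hl y₂ φ
    have := hβ f
    have := hβ f'
    refine eq_of_local h𝒳 hJ _ _ (IsHomLift.comp_lift_id_right' 𝒳.p φ.left _ f.left (β f))
      (IsHomLift.comp_lift_id_left' 𝒳.p f'.left (β f') φ.left _) fun x => ?_
    obtain ⟨V, g, hx, e⟩ := t.loc f'.hom (φ.left ≫ f.hom) (by
      rw [Category.assoc]; exact (Over.w φ).symm) x
    let ψ : Over.mk ((res f' V).hom ≫ t.q) ⟶ Over.mk (f'.hom ≫ t.q) := Over.homMk (subι V) (by simp)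
    refine ⟨V, hx, _, y₁.map ψ, hl y₁ ψ, ?_⟩
    rw [← Category.assoc, ← y₁.toFunctor.map_comp, hnat g (subι V ≫ φ.left) (by
        simp only [Over.mk_hom, Category.assoc]; exact e) (ψ ≫ φ) rfl, ← Category.assoc (y₁.map ψ),
      hnat 1 (subι V) (by rw [t.d_one, Category.comp_id]; rfl) ψ rfl, y₂.toFunctor.map_comp, Category.assoc]
  let ξ := y₁.obj (Over.mk (𝟙 M))
  let η := y₂.obj (Over.mk (𝟙 M))
  have ex : ∀ ⦃V : Over S⦄ (k : V ⟶ M), R k → ∀ ⦃z : 𝒳.obj⦄ (ψ : z ⟶ ξ), 𝒳.p.IsHomLift k ψ →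
      ∃ v : z ⟶ η, 𝒳.p.IsHomLift k v ∧ ∀ (f : Over W) (ρ : z ⟶ y₁.obj (Over.mk (f.hom ≫ t.q))) (m : V ⟶ f.left),
        𝒳.p.IsHomLift m ρ → m ≫ f.hom ≫ t.q = k → ρ ≫ y₁.map (toId (Over.mk (f.hom ≫ t.q))) = ψ →
          v = ρ ≫ β f ≫ y₂.map (toId (Over.mk (f.hom ≫ t.q))) := by
    intro V k hk z ψ hψ
    obtain ⟨-, h, rfl⟩ := (Sieve.mem_ofArrows_iff _ _ _).1 hk
    let f₀ : Over W := Over.mk h
    have := toId_map_isHomLift y₁ (Over.mk (f₀.hom ≫ t.q))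
    obtain ⟨ρ₀, hρ₀, hρ₀e⟩ := exists_factor hg _ ‹_› ψ hψ
    haveI : 𝒳.p.IsHomLift (h ≫ t.q) (y₂.map (toId (Over.mk (f₀.hom ≫ t.q)))) := toId_map_isHomLift y₂ (Over.mk (f₀.hom ≫ t.q))
    have := hβ f₀
    refine ⟨ρ₀ ≫ β f₀ ≫ y₂.map (toId (Over.mk (f₀.hom ≫ t.q))), ?_, fun f ρ m hρ hm hρe => ?_⟩
    · have : 𝒳.p.IsHomLift (h ≫ t.q) (β f₀ ≫ y₂.map (toId (Over.mk (f₀.hom ≫ t.q)))) :=
        IsHomLift.comp_lift_id_left' 𝒳.p f₀.left (β f₀) (h ≫ t.q) _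
      exact IsHomLift.comp_lift_id_left' 𝒳.p V ρ₀ (h ≫ t.q) _
    let φ : Over.mk (f₀.hom ≫ t.q) ⟶ Over.mk (f.hom ≫ t.q) := Over.homMk m hm
    haveI : 𝒳.p.IsHomLift m (y₁.map φ) := hl y₁ φ
    have e : ρ = ρ₀ ≫ y₁.map φ := by
      refine ext_lift hg _ (toId_map_isHomLift y₁ (Over.mk (f.hom ≫ t.q))) (g := m) hρ
        (IsHomLift.comp_lift_id_left' 𝒳.p V ρ₀ m _) ?_
      rw [hρe, Category.assoc, ← y₁.toFunctor.map_comp, toId_naturality, hρ₀e]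
    rw [e, Category.assoc, ← Category.assoc (y₁.map φ), nat f₀ f φ, Category.assoc, ← y₂.toFunctor.map_comp,
      toId_naturality]
  choose c hc hce using ex
  obtain ⟨a, ha, -⟩ := ((isStackFor_iff hg).1 (h𝒳.2 R hq)).2.1 (obj_id_proj y₁) (obj_id_proj y₂) c
    ⟨hc, fun V k hk z ψ hψ V' l z' r hr hψ' => by
      obtain ⟨-, h, rfl⟩ := (Sieve.mem_ofArrows_iff _ _ _).1 hk
      let f₀ : Over W := Over.mk h
      have := toId_map_isHomLift y₁ (Over.mk (f₀.hom ≫ t.q))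
      obtain ⟨ρ, hρ, hρe⟩ := exists_factor hg _ ‹_› ψ hψ
      rw [hce _ _ (r ≫ ψ) hψ' f₀ (r ≫ ρ) l (IsHomLift.comp_lift_id_right' 𝒳.p l r V ρ) rfl
          (by rw [Category.assoc, hρe]),
        hce _ hk ψ hψ f₀ ρ (𝟙 V) hρ (Category.id_comp _) hρe, Category.assoc]⟩
  haveI := ha
  haveI := Lib.AlgStack.BasedBasic.isIso_of_isHomLift_id hg (R := M) a
  exact ⟨extendIso (cartAt_of_grpd hg y₁) (cartAt_of_grpd hg y₂) (asIso a) ha⟩

end Groth.Agent.Lib.HensChart.TorsorDescent
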