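import Groth.Agent.Lib.HensChart.StackTuples
import Groth.Agent.Lib.AlgStack.SpMapProp
import Groth.Agent.Lib.Fibred.Descent

/-!
# The action of permutations on the space of tuples
-/

set_option autoImplicit false
set_option backward.isDefEq.respectTransparency false
set_option backward.isDefEq.respectTransparency.types false
set_option linter.style.haveILetI false

universe u

open CategoryTheory CategoryTheory.Limits AlgebraicGeometry

namespace Groth.Agent.Lib.HensChart.TupleAction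

open Lib.AlgStack Lib.AlgStack.BasedBasic StackTuples
open FibCat (IsFibGrpd IsEquivOver overCat)
open AlgSt (ofSp ofSpMap ofOverCat overMap)
open AlgSp (yon Sp)

variable {S : Scheme.{u}} {𝒳 : AlgSt.Cat S} {U : Over S} {uc : overCat U ⥤ᵇ 𝒳} {ι : Type}
  {G : Type u} [Group G]

/-- Right translation of indices. -/
def shift (e : ι ≃ G) (g : G) (i : ι) : ι := e.symm (e i * g)

theorem shift_shift (e : ι ≃ G) (g h : G) (i : ι) : shift e g (shift e h i) = shift e (h * g) i := by
  simp [shift, mul_assoc]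

theorem shift_one (e : ι ≃ G) : shift e 1 = id := funext fun i => by simp [shift]

theorem reindex_comp {κ μ : Type} (ρ : κ → ι) (ρ' : μ → κ) :
    BasedFunctor.comp (reindex uc ρ) (reindex uc ρ') = reindex uc (ρ ∘ ρ') := rfl

theorem reindex_id : reindex uc (id : ι → ι) = BasedFunctor.id (TupCat uc ι) := rfl

/-- Morphisms out of reindexed tuples with the same base and a common index agree. -/
theorem f_eq (h𝒳 : IsFibGrpd 𝒳.p) {s t : Tup uc ι} {ρ ρ' : ι → ι} (i : ι) (hρ : ρ i = ρ' i)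
    (k : reindexObj ρ s ⟶ t) (k' : reindexObj ρ' s ⟶ t) (hb : 𝒳.p.map k.f = 𝒳.p.map k'.f) : k.f = k'.f := by
  have w := k.w i
  have w' := k'.w i
  have key : ∀ (j j' : ι), j = j' → ∀ (e : 𝒳.p.map k.f ≫ t.a i = s.a j) (e' : 𝒳.p.map k'.f ≫ t.a i = s.a j'),
      uc.map (Over.homMk (𝒳.p.map k.f) e : Over.mk (s.a j) ⟶ Over.mk (t.a i)) ≫ t.φ i = s.φ j ≫ k.f →
      uc.map (Over.homMk (𝒳.p.map k'.f) e' : Over.mk (s.a j') ⟶ Over.mk (t.a i)) ≫ t.φ i = s.φ j' ≫ k'.f →
      k.f = k'.f := by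
    rintro j _ rfl e e' h h'
    refine f_eq_of_w h𝒳 s t h ?_
    rw [← h']
    congr 2
    exact Over.OverMorphism.ext hb
  exact key _ _ hρ _ _ w w'

theorem lift_f {s t : Tup uc ι} (k : s ⟶ t) {A B : Over S} (m : A ⟶ B)
    (hk : (TupCat uc ι).p.IsHomLift m k) : 𝒳.p.IsHomLift m k.f := by
  refine IsHomLift.of_fac' _ _ _ (IsHomLift.domain_eq (TupCat uc ι).p m k : (TupCat uc ι).p.obj s = A)
    (IsHomLift.codomain_eq (TupCat uc ι).p m k : (TupCat uc ι).p.obj t = B) ?_
  exact IsHomLift.fac' (TupCat uc ι).p m k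

theorem base_eq {a b : 𝒳.obj} {A B : Over S} {m m' : A ⟶ B} (hm : m = m') (F F' : a ⟶ b)
    (h : 𝒳.p.IsHomLift m F) (h' : 𝒳.p.IsHomLift m' F') : 𝒳.p.map F = 𝒳.p.map F' := by
  subst hm
  exact (IsHomLift.fac' 𝒳.p m F).trans (IsHomLift.fac' 𝒳.p m F').symm

section Coord

variable {T : Over S} (x : overCat T ⥤ᵇ TupCat uc ι)

/-- The points of the chart underlying a family of tuples. -/
def co (f : Over T) (i : ι) : f.left ⟶ U := eqToHom (x.w_obj f).symm ≫ (x.obj f).a i

theorem map_co {f' f : Over T} (φ : f' ⟶ f) (i : ι) : φ.left ≫ co x f i = co x f' i := by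
  have h : (TupCat uc ι).p.IsHomLift φ.left (x.map φ) :=
    haveI : (overCat T).p.IsHomLift φ.left φ := IsHomLift.map (overCat T).p φ
    inferInstance
  have e : 𝒳.p.map (x.map φ).f = eqToHom (x.w_obj f') ≫ φ.left ≫ eqToHom (x.w_obj f).symm :=
    IsHomLift.fac' (TupCat uc ι).p φ.left (x.map φ)
  rw [co, co, ← (x.map φ).ha i, e]
  simp

theorem co_eq_comp (f : Over T) (i : ι) : co x f i = f.hom ≫ co x (Over.mk (𝟙 T)) i :=
  (map_co x (Over.homMk f.hom (Category.comp_id _) : f ⟶ Over.mk (𝟙 T)) i).symm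

theorem co_eq_of_hom {V : Over S} {s t : Tup uc ι} (hs : (TupCat uc ι).p.obj s = V)
    (ht : (TupCat uc ι).p.obj t = V) (k : s ⟶ t) (hk : (TupCat uc ι).p.IsHomLift (𝟙 V) k) (i : ι) :
    eqToHom hs.symm ≫ s.a i = eqToHom ht.symm ≫ t.a i := by
  have e : 𝒳.p.map k.f = eqToHom hs ≫ 𝟙 V ≫ eqToHom ht.symm := IsHomLift.fac' (TupCat uc ι).p (𝟙 V) k
  rw [← k.ha i, e]
  simp

theorem co_eq_of_iso {x' : overCat T ⥤ᵇ TupCat uc ι} (e : x ≅ x') (f : Over T) (i : ι) : co x f i = co x' f i :=
  co_eq_of_hom (x.w_obj f) (x'.w_obj f) (appIso e f).hom (appIso_isHomLift e f) i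

theorem co_reindex (ρ : ι → ι) (f : Over T) (i : ι) : co (BasedFunctor.comp x (reindex uc ρ)) f i = co x f (ρ i) :=
  rfl

theorem co_overMap {T' : Over S} (h : T' ⟶ T) (f : Over T') (i : ι) :
    co (BasedFunctor.comp (overMap h) x) f i = co x (Over.mk (f.hom ≫ h)) i := rfl

end Coord

section Space

variable {P : AlgSp.Space S} (eT : ofSp P.obj ⥤ᵇ TupCat uc ι)

/-- The family of tuples of a point of the space of tuples. -/
noncomputable def fam {T : Over S} (z : (yon S).obj T ⟶ P.obj) : overCat T ⥤ᵇ TupCat uc ι :=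
  BasedFunctor.comp (BasedFunctor.comp (ofOverCat T) (ofSpMap z)) eT

/-- A family is determined by the point. -/
noncomputable def famIso {T : Over S} {z : (yon S).obj T ⟶ P.obj} (x : overCat T ⥤ᵇ ofSp P.obj)
    (h : SpMapProp.ofPoint x = z) : BasedFunctor.comp x eT ≅ fam eT z :=
  BasedBasic.isoWhiskerRight (SpMapProp.isoOfPoint x) eT ≪≫ eqToIso (by rw [h]; rfl)

/-- Restriction of the family of a point. -/
noncomputable def famMap {T' T : Over S} (h : T' ⟶ T) (z : (yon S).obj T ⟶ P.obj)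
    {z' : (yon S).obj T' ⟶ P.obj} (hz : (yon S).map h ≫ z = z') :
    BasedFunctor.comp (overMap h) (fam eT z) ≅ fam eT z' :=
  famIso eT (BasedFunctor.comp (overMap h) (BasedFunctor.comp (ofOverCat T) (ofSpMap z)))
    (by rw [SpMapProp.ofPoint_overMap, SpMapProp.ofPoint_atlas, hz])

variable {eT} {eT' : TupCat uc ι ⥤ᵇ ofSp P.obj}
  (η : BasedFunctor.comp eT eT' ≅ BasedFunctor.id (ofSp P.obj))
  (ε : BasedFunctor.comp eT' eT ≅ BasedFunctor.id (TupCat uc ι)) (e : ι ≃ G)

variable (eT eT') in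
/-- The translation of the space of tuples by a group element. -/
noncomputable def τ (g : G) : P.obj ⟶ P.obj :=
  Lib.AlgStack.Space.spHom (BasedFunctor.comp (BasedFunctor.comp eT (reindex uc (shift e g))) eT')

/-- The translation is the permutation of tuples. -/
noncomputable def τIso (g : G) : BasedFunctor.comp eT (reindex uc (shift e g)) ≅ BasedFunctor.comp (ofSpMap (τ eT eT' e g)) eT :=
  BasedBasic.isoWhiskerLeft (BasedFunctor.comp eT (reindex uc (shift e g))) ε.symm ≪≫
    BasedBasic.isoWhiskerRight (OfPsh.isoOfPshMap (BasedFunctor.comp (BasedFunctor.comp eT (reindex uc (shift e g))) eT')) eT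

include ε in
theorem τ_mul (g h : G) : τ eT eT' e g ≫ τ eT eT' e h = τ eT eT' e (h * g) := by
  rw [τ, τ, τ, ← Lib.AlgStack.Space.spHom_comp]
  refine Lib.AlgStack.Space.spHom_eq_of_iso ?_
  refine (BasedBasic.isoWhiskerLeft (BasedFunctor.comp eT (reindex uc (shift e g)))
    (BasedBasic.isoWhiskerRight ε (BasedFunctor.comp (reindex uc (shift e h)) eT')) :
      BasedFunctor.comp (BasedFunctor.comp (BasedFunctor.comp eT (reindex uc (shift e g))) eT')
        (BasedFunctor.comp (BasedFunctor.comp eT (reindex uc (shift e h))) eT') ≅ _) ≪≫ eqToIso ?_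
  show BasedFunctor.comp (BasedFunctor.comp eT (BasedFunctor.comp (reindex uc (shift e g)) (reindex uc (shift e h)))) eT' = _
  rw [reindex_comp, show shift e g ∘ shift e h = shift e (h * g) from funext (shift_shift e g h)]

include η in
theorem τ_one : τ eT eT' e (1 : G) = 𝟙 P.obj := by
  rw [τ, shift_one, reindex_id]
  refine (Lib.AlgStack.Space.spHom_eq_of_iso (η : BasedFunctor.comp (BasedFunctor.comp eT (BasedFunctor.id _)) eT' ≅ _)).trans ?_
  exact ObjectProperty.hom_ext _ OfPsh.pshMap_id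

/-- Translation of the family of an equivariant point. -/
noncomputable def famShift {T : Over S} (z : (yon S).obj T ⟶ P.obj) (g : G) (m : T ⟶ T)
    (hm : (yon S).map m ≫ z = z ≫ τ eT eT' e g) :
    BasedFunctor.comp (overMap m) (fam eT z) ≅ BasedFunctor.comp (fam eT z) (reindex uc (shift e g)) :=
  famMap eT m z hm ≪≫
    (BasedBasic.isoWhiskerLeft (BasedFunctor.comp (ofOverCat T) (ofSpMap z)) (τIso ε e g)).symm

end Space

end Groth.Agent.Lib.HensChart.TupleAction
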